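import Groth.Agent.EtRamTameLib.Main
import Groth.Agent.CohenLib.FSField
import Mathlib.RingTheory.Etale.Field

/-!
# Tame ramification is absorbed by a sufficiently ramified DVR extension
-/

set_option autoImplicit false
set_option linter.style.haveILetI false
set_option maxHeartbeats 2000000
set_option synthInstance.maxHeartbeats 200000

universe u

open IsLocalRing

namespace AbhyLib

/-- If `L/K` is tame with respect to `A` and the index of the DVR `D ⊂ K'` over `A` is divisible by all
possible tame indices of `L`, every compositum `M` of `L` and `K'` is unramified over `D`. -/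
theorem unramified_of_absorb {A K L D K' M : Type u} [CommRing A] [IsDomain A] [IsDiscreteValuationRing A]
    [Field K] [Algebra A K] [IsFractionRing A K] [Field L] [Algebra K L] [FiniteDimensional K L]
    [CommRing D] [IsDomain D] [IsDiscreteValuationRing D] [Algebra A D] [IsLocalHom (algebraMap A D)]
    [Field K'] [Algebra K K'] [FiniteDimensional K K'] [Algebra D K'] [IsFractionRing D K']
    (hAD : ∀ a : A, algebraMap K K' (algebraMap A K a) = algebraMap D K' (algebraMap A D a))
    [Field M] [Algebra K M] [Algebra L M] [Algebra K' M] [IsScalarTower K L M] [IsScalarTower K K' M]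
    [FiniteDimensional K M] (hgen : Algebra.adjoin L (Set.range (algebraMap K' M)) = ⊤)
    (hL : EtRam.IsTamelyRamified A ((algebraMap K L).comp (algebraMap A K)))
    {π : A} (hπ : Irreducible π) {ϖ : D} (hϖ : Irreducible ϖ) {N : ℕ} {u : Dˣ}
    (hu : algebraMap A D π = u * ϖ ^ N)
    (hdiv : ∀ e : ℕ, e ≤ Module.finrank K L → (e : ResidueField A) ≠ 0 → e ∣ N) :
    EtRam.IsUnramifiedExt D ((algebraMap K' M).comp (algebraMap D K')) := by
  classical
  intro W hW
  letI : Algebra D W := (RingHom.codRestrict ((algebraMap K' M).comp (algebraMap D K')) W hW.1).toAlgebra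
  intro hlDW
  have hdA : EtRam.Dominates A ((algebraMap K M).comp (algebraMap A K)) W := by
    have h : ∀ a, (algebraMap K M).comp (algebraMap A K) a =
        (algebraMap K' M).comp (algebraMap D K') (algebraMap A D a) := fun a => by
      simp only [RingHom.comp_apply]
      rw [← hAD, ← IsScalarTower.algebraMap_apply K K' M]
    exact ⟨fun a => by rw [h]; exact hW.1 _,
      fun a ha => by rw [h]; exact hW.2 _ fun h1 => ha (isUnit_of_map_unit (algebraMap A D) a h1)⟩
  haveI : FiniteDimensional L M := FiniteDimensional.right K L M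
  -- the valuation of `L`
  let V := W.comap (algebraMap L M)
  have hV := EtRamTameLib.dominates_comap (L := L) W hdA
  letI : Algebra A V := (RingHom.codRestrict ((algebraMap K L).comp (algebraMap A K)) V hV.1).toAlgebra
  haveI hlV : IsLocalHom (algebraMap A V) := EtRamTameLib.isLocalHom_of_dominates V hV
  haveI hDV := EtRamTameLib.isDVR (A := A) (K := K) V hV
  obtain ⟨ϖV, hϖV⟩ := IsDiscreteValuationRing.exists_irreducible V
  have hinjV : Function.Injective (algebraMap A V) := fun a b h =>
    IsFractionRing.injective A K ((algebraMap K L).injective (congrArg Subtype.val h))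
  obtain ⟨e, v, he, hv, hidx⟩ := EtRamTameLib.exists_idx (A := A) (V := V) hinjV hπ hϖV
  obtain ⟨hsepV, hp⟩ := hL V hV
  have hchar : (e : ResidueField A) ≠ 0 := (EtRamTameLib.prime_to_iff he).1 (hidx ▸ hp)
  have hedeg : e ≤ Module.finrank K L := hidx ▸ EtRamTameLib.idx_le_finrank V hV
  haveI := hsepV
  haveI : Algebra.FormallyEtale (ResidueField A) (ResidueField V) := Algebra.FormallyEtale.of_isSeparable _ _
  haveI : Algebra.IsGeometricallyReduced (ResidueField A) (ResidueField V) :=
    CohenLib.isGeometricallyReduced_of_formallySmooth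
  -- the valuation of `K'` is `D`
  let V' := W.comap (algebraMap K' M)
  let φ : D →+* V' := (algebraMap D K').codRestrict V' fun d => hW.1 d
  have hφinj : Function.Injective φ := fun a b h => IsFractionRing.injective D K' (congrArg Subtype.val h)
  have hφsurj : Function.Surjective φ := fun x => by
    rcases ValuationRing.isInteger_or_isInteger D (x : K') with ⟨d, hd⟩ | ⟨d, hd⟩
    · exact ⟨d, Subtype.ext hd⟩
    · by_cases hdu : IsUnit d
      · refine ⟨((hdu.unit⁻¹ : Dˣ) : D), Subtype.ext ?_⟩
        show algebraMap D K' _ = x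
        rw [← inv_inv (x : K'), ← hd, map_units_inv, IsUnit.unit_spec]
      · by_cases hx0 : (x : K') = 0
        · exact ⟨0, Subtype.ext (by rw [map_zero]; exact hx0.symm)⟩
        exfalso
        have h1 := hW.2 d hdu
        rw [RingHom.comp_apply, hd, map_inv₀, map_inv₀] at h1
        have h2 := (W.valuation_le_one_iff _).2 x.2
        exact not_le.2 h1 ((one_le_inv₀ (zero_lt_iff.2 ((_root_.map_ne_zero _).2 ((_root_.map_ne_zero _).2 hx0)))).2 h2)
  let eD : D ≃+* V' := RingEquiv.ofBijective φ ⟨hφinj, hφsurj⟩
  have hAV : ∀ a : A, algebraMap K K' (algebraMap A K a) ∈ V' := fun a => by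
    rw [hAD]; exact (φ (algebraMap A D a)).2
  letI : Algebra A V' := (RingHom.codRestrict ((algebraMap K K').comp (algebraMap A K)) V' hAV).toAlgebra
  have hAV' : ∀ a : A, algebraMap A V' a = eD (algebraMap A D a) := fun a => Subtype.ext (hAD a)
  haveI : IsDiscreteValuationRing V' := IsDiscreteValuationRing.RingEquivClass.isDiscreteValuationRing eD
  have hidx' : Ideal.ramificationIdx' (maximalIdeal A) (maximalIdeal V') = N :=
    SolSepLib.ramIdx_eq hπ (ϖ := eD ϖ) (((MulEquiv.irreducible_iff eD).2 hϖ).maximalIdeal_eq)
      ((MulEquiv.irreducible_iff eD).2 hϖ).ne_zero (w := eD u) (u.isUnit.map eD)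
      (by rw [hAV', hu, map_mul, map_pow])
  obtain ⟨hw, hgr⟩ := SolSepLib.abhyankar (A := A) (B := V) (K := K) (L := L) (K₁ := K') (M := M)
    hinjV (fun _ => rfl) hπ hϖV he hv hchar hgen W (EtRamTameLib.dominates_top W) hAV
    (by rw [hidx']; exact hdiv e hedeg hchar)
  letI : Algebra V' W := (EtRam.inclOfComap W (algebraMap K' M)).toAlgebra
  haveI : IsLocalHom (algebraMap V' W) := EtRam.isLocalHom_inclOfComap W (algebraMap K' M)
  have hcomp : algebraMap D W = (algebraMap V' W).comp (eD : D →+* V') := RingHom.ext fun _ => Subtype.ext rfl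
  have hsep : Algebra.IsSeparable (ResidueField V') (ResidueField W) := by
    haveI : Algebra.IsGeometricallyReduced (ResidueField V') (ResidueField W) := by
      convert hgr using 1
      exact Algebra.algebra_ext _ _ fun c => by
        obtain ⟨c, rfl⟩ := residue_surjective c
        rfl
    haveI : FiniteDimensional K' M := FiniteDimensional.right K K' M
    haveI : Module.Finite (ResidueField V') (ResidueField W) :=
      SolSepLib.finite_residue (A := V') (K := K') W fun _ => rfl
    exact EtRamTameLib.isSeparable_of_geomRed
  refine ⟨?_, Algebra.IsSeparable.of_equiv_equiv (ResidueField.mapEquiv eD.symm) (RingEquiv.refl _) ?_⟩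
  · have hw' : (maximalIdeal V').map (algebraMap V' W) = maximalIdeal W := hw
    show (maximalIdeal D).map (algebraMap D W) = maximalIdeal W
    rw [← hw', hcomp, ← Ideal.map_map]
    congr 1
    exact IsLocalRing.eq_maximalIdeal (Ideal.map_isMaximal_of_equiv eD)
  · refine RingHom.ext fun y => ?_
    obtain ⟨y, rfl⟩ := residue_surjective y
    show residue W (algebraMap D W (eD.symm y)) = residue W (algebraMap V' W y)
    rw [hcomp]
    exact congrArg (fun z => residue W (algebraMap V' W z)) (eD.apply_symm_apply y)

end AbhyLib
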