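import Groth.Prelude.Def_SGA1
import Groth.Agent.CommAlgDim.Regular
import Groth.Agent.CommAlgDim.Integral
import Groth.Agent.PurMuLib.Alg
import Mathlib.RingTheory.Ideal.Height
import Mathlib.FieldTheory.PrimitiveElement

/-!
# Kummer algebras over regular local rings
-/

set_option backward.isDefEq.respectTransparency false
set_option backward.isDefEq.respectTransparency.types false
set_option maxHeartbeats 1000000
set_option autoImplicit false
set_option linter.style.haveILetI false

universe u

open IsLocalRing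

namespace AbhyLib

/-- The root `T i` in the Kummer algebra. -/
noncomputable def root (A : Type u) [CommRing A] {r : ℕ} (f : Fin r → A) (n : Fin r → ℕ) (i : Fin r) :
    SGA1.kummerAlg A f n :=
  Ideal.Quotient.mkₐ A _ (MvPolynomial.X i)

theorem root_pow (A : Type u) [CommRing A] {r : ℕ} (f : Fin r → A) (n : Fin r → ℕ) (i : Fin r) :
    root A f n i ^ n i = algebraMap A _ (f i) := by
  rw [root, ← sub_eq_zero, ← (Ideal.Quotient.mkₐ A _).commutes, ← map_pow, ← map_sub]
  exact Ideal.Quotient.eq_zero_iff_mem.2 (Ideal.subset_span ⟨i, rfl⟩)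

theorem adjoin_root (A : Type u) [CommRing A] {r : ℕ} (f : Fin r → A) (n : Fin r → ℕ) :
    Algebra.adjoin A (Set.range (root A f n)) = ⊤ := by
  unfold root
  rw [Set.range_comp', ← AlgHom.map_adjoin, MvPolynomial.adjoin_range_X, Algebra.map_top, AlgHom.range_eq_top]
  exact Ideal.Quotient.mkₐ_surjective A _

theorem sumExtend_inl' {ι K V : Type*} [DivisionRing K] [AddCommGroup V] [Module K V] {v : ι → V}
    (hs : LinearIndependent K v) (i : ι) : Module.Basis.sumExtend hs (Sum.inl i) = v i := by
  simp only [Module.Basis.sumExtend, Module.Basis.reindex_apply, Module.Basis.extend_apply_self]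
  rfl

open Algebra in
theorem kummer_facts (A : Type u) [CommRing A] [IsRegularLocalRing A] (r : ℕ) (f : Fin r → A)
    (hm : ∀ i, f i ∈ maximalIdeal A)
    (hf : LinearIndependent (ResidueField A) (fun i => (maximalIdeal A).toCotangent ⟨f i, hm i⟩))
    (n : Fin r → ℕ) (hn : ∀ i, 1 ≤ n i) :
    ∃ _ : IsRegularLocalRing (SGA1.kummerAlg A f n),
      Module.Finite A (SGA1.kummerAlg A f n) ∧
      Function.Injective (algebraMap A (SGA1.kummerAlg A f n)) ∧
      IsLocalHom (algebraMap A (SGA1.kummerAlg A f n)) ∧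
      (∀ x : SGA1.kummerAlg A f n, ∃ a : A, x - algebraMap A _ a ∈ maximalIdeal (SGA1.kummerAlg A f n)) ∧
      ∃ hT : ∀ i, root A f n i ∈ maximalIdeal (SGA1.kummerAlg A f n),
        LinearIndependent (ResidueField (SGA1.kummerAlg A f n))
          (fun i => (maximalIdeal (SGA1.kummerAlg A f n)).toCotangent ⟨root A f n i, hT i⟩) := by
  classical
  haveI := CommAlgDim.isDomain_of_isRegularLocalRing A
  let B := SGA1.kummerAlg A f n
  let q : MvPolynomial (Fin r) A →ₐ[A] B := Ideal.Quotient.mkₐ A _
  let T : Fin r → B := root A f n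
  have hT : ∀ i, T i ^ n i = algebraMap A B (f i) := root_pow A f n
  have hgen : Algebra.adjoin A (Set.range T) = ⊤ := adjoin_root A f n
  haveI : Algebra.IsIntegral A B := ⟨fun x => by
    have hle : Algebra.adjoin A (Set.range T) ≤ integralClosure A B := Algebra.adjoin_le (by
      rintro _ ⟨i, rfl⟩
      exact IsIntegral.of_pow (hn i) (hT i ▸ isIntegral_algebraMap))
    exact hle (hgen ▸ Algebra.mem_top)⟩
  -- injectivity
  let K := AlgebraicClosure (FractionRing A)
  have hroot : ∀ i, ∃ t : K, t ^ n i = algebraMap A K (f i) := fun i => IsAlgClosed.exists_pow_nat_eq _ (hn i)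
  choose t ht using hroot
  let ev : B →ₐ[A] K := Ideal.Quotient.liftₐ _ (MvPolynomial.aeval t) (fun x hx => by
    refine (show _ ≤ RingHom.ker (MvPolynomial.aeval (R := A) t) from Ideal.span_le.2 ?_) hx
    rintro _ ⟨i, rfl⟩
    simp [ht i])
  have hinj : Function.Injective (algebraMap A B) := fun a b h => by
    have hK : Function.Injective (algebraMap A K) := by
      rw [IsScalarTower.algebraMap_eq A (FractionRing A) K, RingHom.coe_comp]
      exact (algebraMap (FractionRing A) K).injective.comp (IsFractionRing.injective A (FractionRing A))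
    refine hK ?_
    rw [← ev.commutes a, ← ev.commutes b, h]
  haveI : IsNoetherianRing B := inferInstance
  -- local
  let φ₀ : B →ₐ[A] ResidueField A := Ideal.Quotient.liftₐ _ (MvPolynomial.aeval fun _ => (0 : ResidueField A))
    (fun x hx => by
      refine (show _ ≤ RingHom.ker (MvPolynomial.aeval (R := A) fun _ : Fin r => (0 : ResidueField A)) from Ideal.span_le.2 ?_) hx
      rintro _ ⟨i, rfl⟩
      have h0 : algebraMap A (ResidueField A) (f i) = 0 := (residue_eq_zero_iff _).2 (hm i)
      show MvPolynomial.aeval (R := A) (fun _ : Fin r => (0 : ResidueField A)) (MvPolynomial.X i ^ n i - MvPolynomial.C (f i)) = 0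
      rw [map_sub, map_pow, MvPolynomial.aeval_X, MvPolynomial.aeval_C, h0,
        zero_pow (show n i ≠ 0 by have := hn i; omega), sub_zero])
  have hφ₀ : Function.Surjective φ₀ := fun y => by
    obtain ⟨a, rfl⟩ := residue_surjective y
    exact ⟨algebraMap A B a, φ₀.commutes a⟩
  let M : Ideal B := RingHom.ker φ₀
  haveI hM : M.IsMaximal := RingHom.ker_isMaximal_of_surjective φ₀ hφ₀
  let G : Ideal B := (maximalIdeal A).map (algebraMap A B) ⊔ Ideal.span (Set.range T)
  have hMG : M ≤ G := fun x hx => by
    have key : ∀ y ∈ Algebra.adjoin A (Set.range T), ∃ a : A, y - algebraMap A B a ∈ G := fun y hy => by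
      induction hy using Algebra.adjoin_induction with
      | mem y hy => exact ⟨0, by rw [map_zero, sub_zero]; exact le_sup_right (a := (maximalIdeal A).map (algebraMap A B)) (Ideal.subset_span hy)⟩
      | algebraMap a => exact ⟨a, by rw [sub_self]; exact zero_mem _⟩
      | add y z _ _ hy hz =>
        obtain ⟨a, ha⟩ := hy; obtain ⟨b, hb⟩ := hz
        exact ⟨a + b, by rw [map_add, add_sub_add_comm]; exact add_mem ha hb⟩
      | mul y z _ _ hy hz =>
        obtain ⟨a, ha⟩ := hy; obtain ⟨b, hb⟩ := hz
        refine ⟨a * b, ?_⟩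
        have : y * z - algebraMap A B (a * b) =
            (y - algebraMap A B a) * z + algebraMap A B a * (z - algebraMap A B b) := by rw [map_mul]; ring
        rw [this]
        exact add_mem (Ideal.mul_mem_right _ _ ha) (Ideal.mul_mem_left _ _ hb)
    obtain ⟨a, ha⟩ := key x (hgen ▸ Algebra.mem_top)
    have hG : G ≤ M := by
      refine sup_le (Ideal.map_le_iff_le_comap.2 fun a ha => ?_) (Ideal.span_le.2 ?_)
      · show φ₀ (algebraMap A B a) = 0
        rw [φ₀.commutes]; exact (residue_eq_zero_iff _).2 ha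
      · rintro _ ⟨i, rfl⟩
        show φ₀ (T i) = 0
        exact (show MvPolynomial.aeval (R := A) (fun _ : Fin r => (0 : ResidueField A)) (MvPolynomial.X i) = 0 by simp)
    have ha' : residue A a = 0 := by
      have := hG ha
      rw [RingHom.mem_ker, map_sub, RingHom.mem_ker.1 hx, φ₀.commutes, zero_sub, neg_eq_zero] at this
      exact this
    rw [← sub_add_cancel x (algebraMap A B a)]
    exact add_mem ha (le_sup_left (b := Ideal.span (Set.range T)) (Ideal.mem_map_of_mem _ ((residue_eq_zero_iff _).1 ha')))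
  haveI : IsLocalRing B := IsLocalRing.of_unique_max_ideal ⟨M, hM, fun N hN => by
    haveI := hN
    have hcomap : N.comap (algebraMap A B) = maximalIdeal A := IsLocalRing.eq_maximalIdeal
      (Ideal.isMaximal_comap_of_isIntegral_of_isMaximal N)
    refine (hM.eq_of_le hN.ne_top (hMG.trans (sup_le (Ideal.map_le_iff_le_comap.2 hcomap.ge) (Ideal.span_le.2 ?_)))).symm
    rintro _ ⟨i, rfl⟩
    refine hN.isPrime.mem_of_pow_mem (n i) ?_
    rw [hT]
    exact hcomap.ge (hm i)⟩
  have hMm : maximalIdeal B = M := (IsLocalRing.eq_maximalIdeal hM).symm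
  -- generators
  let b := Module.Basis.sumExtend hf
  haveI : Finite (Fin r ⊕ Module.Basis.sumExtendIndex hf) := Module.Finite.finite_basis b
  haveI : Finite (Module.Basis.sumExtendIndex hf) := Finite.of_injective (β := Fin r ⊕ Module.Basis.sumExtendIndex hf) Sum.inr Sum.inr_injective
  haveI := Fintype.ofFinite (Module.Basis.sumExtendIndex hf)
  let g : Fin r ⊕ Module.Basis.sumExtendIndex hf → maximalIdeal A := fun x =>
    Sum.elim (fun i => ⟨f i, hm i⟩) (fun j => ((maximalIdeal A).toCotangent_surjective (b (Sum.inr j))).choose) x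
  have hg : ∀ x, (maximalIdeal A).toCotangent (g x) = b x := fun x => by
    cases x with
    | inl i => exact (sumExtend_inl' hf i).symm
    | inr j => exact ((maximalIdeal A).toCotangent_surjective (b (Sum.inr j))).choose_spec
  let J : Ideal A := Ideal.span (Set.range fun x => (g x : A))
  have hJ : maximalIdeal A ≤ J := by
    refine Submodule.le_of_le_smul_of_le_jacobson_bot (IsNoetherian.noetherian _)
      (IsLocalRing.maximalIdeal_le_jacobson _) fun a ha => ?_
    have hcr := b.sum_repr ((maximalIdeal A).toCotangent ⟨a, ha⟩)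
    choose c hc using fun x => residue_surjective (b.repr ((maximalIdeal A).toCotangent ⟨a, ha⟩) x)
    let s : maximalIdeal A := ∑ x, c x • g x
    have hs : (maximalIdeal A).toCotangent s = (maximalIdeal A).toCotangent ⟨a, ha⟩ := by
      conv_rhs => rw [← hcr]
      rw [map_sum]
      refine Finset.sum_congr rfl fun x _ => ?_
      rw [map_smul, hg, ← hc x]
      rfl
    rw [Ideal.toCotangent_eq] at hs
    refine Submodule.mem_sup.2 ⟨(s : A), ?_, a - (s : A), ?_, add_sub_cancel _ _⟩
    · simp only [s, Submodule.coe_sum, SetLike.val_smul, smul_eq_mul]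
      exact Submodule.sum_mem _ fun x _ => Ideal.mul_mem_left _ _ (Ideal.subset_span ⟨x, rfl⟩)
    · rw [Ideal.smul_eq_mul, ← pow_two, ← neg_sub]
      exact neg_mem hs
  let h : Fin r ⊕ Module.Basis.sumExtendIndex hf → B := Sum.elim T fun j => algebraMap A B (g (Sum.inr j))
  have hMh : M ≤ Ideal.span (Set.range h) := hMG.trans <| by
    refine sup_le (Ideal.map_le_iff_le_comap.2 (hJ.trans (Ideal.span_le.2 ?_))) (Ideal.span_le.2 ?_)
    · intro a ha
      obtain ⟨x, rfl⟩ := ha
      show algebraMap A B (g x) ∈ Ideal.span (Set.range h)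
      cases x with
      | inl i =>
        show algebraMap A B (f i) ∈ _
        rw [← hT]
        exact Ideal.pow_mem_of_mem _ (show T i ∈ Ideal.span (Set.range h) from Ideal.subset_span ⟨Sum.inl i, rfl⟩) _ (hn i)
      | inr j => exact Ideal.subset_span ⟨Sum.inr j, rfl⟩
    · rintro _ ⟨i, rfl⟩
      exact Ideal.subset_span ⟨Sum.inl i, rfl⟩
  have hge : Ideal.span (Set.range h) ≤ M := by
    rw [Ideal.span_le]
    rintro _ ⟨x, rfl⟩
    cases x with
    | inl i => show φ₀ (T i) = 0; exact (show MvPolynomial.aeval (R := A) (fun _ : Fin r => (0 : ResidueField A)) (MvPolynomial.X i) = 0 by simp)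
    | inr j => show φ₀ (algebraMap A B _) = 0; rw [φ₀.commutes]; exact (residue_eq_zero_iff _).2 (g (Sum.inr j)).2
  haveI hreg : IsRegularLocalRing B := IsRegularLocalRing.of_spanFinrank_maximalIdeal_le _ (by
    have hdim : ringKrullDim B = ringKrullDim A := CommAlgDim.ringKrullDim_eq_of_integral A B hinj
    have hd := IsRegularLocalRing.spanFinrank_maximalIdeal (R := A)
    rw [hdim, ← hd, hMm, le_antisymm hMh hge]
    refine Nat.cast_le.2 ((Submodule.spanFinrank_span_le_ncard_of_finite (Set.finite_range h)).trans ?_)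
    rw [← Set.image_univ]
    refine (Set.ncard_image_le Set.finite_univ).trans (le_of_eq ?_)
    rw [Set.ncard_univ, Nat.card_eq_fintype_card, ← Module.finrank_eq_card_basis b,
      IsLocalRing.spanFinrank_maximalIdeal_eq_finrank_cotangentSpace])
  have hA0 : ∀ a ∈ maximalIdeal A, algebraMap A B a ∈ maximalIdeal B := fun a ha => by
    rw [hMm]; show φ₀ (algebraMap A B a) = 0
    rw [φ₀.commutes]; exact (residue_eq_zero_iff _).2 ha
  have hhm : ∀ x, h x ∈ maximalIdeal B := fun x => hMm.symm ▸ hge (Ideal.subset_span ⟨x, rfl⟩)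
  refine ⟨hreg, ?_, hinj, ⟨fun a ha => by_contra fun hna => hA0 a hna ha⟩, fun x => ?_,
    fun i => hhm (Sum.inl i), ?_⟩
  · exact Algebra.IsIntegral.finite
  · obtain ⟨a, ha⟩ := residue_surjective (φ₀ x)
    refine ⟨a, ?_⟩
    rw [hMm]
    show φ₀ _ = 0
    rw [map_sub, φ₀.commutes, ← ha]
    exact sub_self _
  · let w : Fin r ⊕ Module.Basis.sumExtendIndex hf → (maximalIdeal B).Cotangent := fun x =>
      (maximalIdeal B).toCotangent ⟨h x, hhm x⟩
    have hspan : ⊤ ≤ Submodule.span (ResidueField B) (Set.range w) := fun z _ => by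
      obtain ⟨⟨z, hz⟩, rfl⟩ := (maximalIdeal B).toCotangent_surjective z
      have hz' : z ∈ Ideal.span (Set.range h) := hMh (hMm ▸ hz)
      obtain ⟨c, hc⟩ := Submodule.mem_span_range_iff_exists_fun _ |>.1 hz'
      have : (⟨z, hz⟩ : maximalIdeal B) = ∑ x, c x • (⟨h x, hhm x⟩ : maximalIdeal B) :=
        Subtype.ext (by simp [← hc, Submodule.coe_sum])
      rw [this, map_sum]
      refine Submodule.sum_mem _ fun x _ => ?_
      rw [map_smul]
      exact Submodule.smul_of_tower_mem _ (c x) (Submodule.subset_span ⟨x, rfl⟩)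
    have hli : LinearIndependent (ResidueField B) w := by
      refine linearIndependent_of_top_le_span_of_card_eq_finrank hspan ?_
      show _ = Module.finrank (ResidueField B) (CotangentSpace B)
      rw [← IsLocalRing.spanFinrank_maximalIdeal_eq_finrank_cotangentSpace, ← Module.finrank_eq_card_basis b]
      show Module.finrank (ResidueField A) (CotangentSpace A) = _
      rw [← IsLocalRing.spanFinrank_maximalIdeal_eq_finrank_cotangentSpace]
      have h1 := IsRegularLocalRing.spanFinrank_maximalIdeal (R := B)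
      rw [CommAlgDim.ringKrullDim_eq_of_integral A B hinj, ← IsRegularLocalRing.spanFinrank_maximalIdeal (R := A)] at h1
      exact (Nat.cast_inj.1 h1).symm
    exact hli.comp Sum.inl Sum.inl_injective


theorem kummer_ne_zero {A : Type u} [CommRing A] [IsLocalRing A] {r : ℕ} {f : Fin r → A}
    (hm : ∀ i, f i ∈ maximalIdeal A)
    (hf : LinearIndependent (ResidueField A) (fun i => (maximalIdeal A).toCotangent ⟨f i, hm i⟩)) (i : Fin r) :
    f i ≠ 0 ∧ f i ∉ maximalIdeal A ^ 2 := by
  have h2 : f i ∉ maximalIdeal A ^ 2 := fun h => hf.ne_zero i ((Ideal.toCotangent_eq_zero _ _).2 h)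
  exact ⟨fun h => h2 (h ▸ zero_mem _), h2⟩

/-- The prime ideals above `(f i)`. -/
theorem root_prime {A : Type u} [CommRing A] [IsRegularLocalRing A] [IsDomain A] {r : ℕ} {f : Fin r → A}
    (hm : ∀ i, f i ∈ maximalIdeal A)
    (hf : LinearIndependent (ResidueField A) (fun i => (maximalIdeal A).toCotangent ⟨f i, hm i⟩))
    [∀ i, (Ideal.span {f i}).IsPrime] {n : Fin r → ℕ} (hn : ∀ i, 1 ≤ n i) (i : Fin r) :
    (Ideal.span {root A f n i}).IsPrime ∧
      (Ideal.span {root A f n i}).comap (algebraMap A (SGA1.kummerAlg A f n)) = Ideal.span {f i} := by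
  obtain ⟨hreg, hfin, hinj, -, -, hT, hli⟩ := kummer_facts A r f hm hf n hn
  haveI := hreg
  have hp : Prime (root A f n i) :=
    PurMuLib.prime_of_notMem_sq (hT i) fun h => hli.ne_zero i ((Ideal.toCotangent_eq_zero _ _).2 h)
  haveI hP : (Ideal.span {root A f n i}).IsPrime := (Ideal.span_singleton_prime hp.ne_zero).2 hp
  refine ⟨hP, le_antisymm ?_ ((Ideal.span_singleton_le_iff_mem _).2 ?_)⟩
  · haveI : Algebra.IsIntegral A (SGA1.kummerAlg A f n) := Algebra.IsIntegral.of_finite A _
    obtain ⟨Q, -, hQ, hQP⟩ := Ideal.exists_ideal_over_prime_of_isIntegral (S := SGA1.kummerAlg A f n)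
      (Ideal.span {f i}) ⊥ (by rw [← RingHom.ker_eq_comap_bot, (RingHom.injective_iff_ker_eq_bot _).1 hinj]; exact bot_le)
    rw [← hQP]
    refine Ideal.comap_mono ((Ideal.span_singleton_le_iff_mem _).2 (hQ.mem_of_pow_mem (n i) ?_))
    rw [root_pow]
    exact (hQP.ge (Ideal.mem_span_singleton_self _) :)
  · rw [Ideal.mem_comap, ← root_pow, Ideal.mem_span_singleton]
    exact dvd_pow_self _ (by have := hn i; omega)

end AbhyLib
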