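import Groth.Agent.AbhyLib.Unram
import Groth.Agent.AbhyLib.Kummer
import Groth.Agent.AbhyLib.Absorb
import Groth.Agent.EtRamTameLib.EtaleRing
import Groth.Agent.TameKummerLib.Core

/-!
# Codimension one behaviour of a tame cover pulled back to a Kummer algebra
-/

set_option autoImplicit false
set_option linter.style.haveILetI false
set_option maxHeartbeats 2000000
set_option synthInstance.maxHeartbeats 200000

universe u

open IsLocalRing
open scoped TensorProduct

namespace AbhyLib

/-- The standing data: a regular local ring, part of a regular system of parameters, and exponents. -/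
structure Data (A : Type u) [CommRing A] [IsLocalRing A] {r : ℕ} (f : Fin r → A) : Prop where
  hm : ∀ i, f i ∈ maximalIdeal A
  hf : LinearIndependent (ResidueField A) (fun i => (maximalIdeal A).toCotangent ⟨f i, hm i⟩)

variable {A : Type u} [CommRing A] [IsRegularLocalRing A] [IsDomain A] {r : ℕ} {f : Fin r → A}
  [∀ i, (Ideal.span {f i}).IsPrime]

theorem Data.ne_zero (hd : Data A f) (i : Fin r) : f i ≠ 0 := (kummer_ne_zero hd.hm hd.hf i).1

theorem Data.notMem (hd : Data A f) {i j : Fin r} (h : j ≠ i) : f j ∉ Ideal.span {f i} := fun hj => by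
  obtain ⟨c, hc⟩ := Ideal.mem_span_singleton'.1 hj
  have h1 : (maximalIdeal A).toCotangent ⟨f j, hd.hm j⟩ =
      residue A c • (maximalIdeal A).toCotangent ⟨f i, hd.hm i⟩ := by
    rw [show (⟨f j, hd.hm j⟩ : maximalIdeal A) = c • ⟨f i, hd.hm i⟩ from Subtype.ext hc.symm, map_smul]
    rfl
  refine hd.hf.notMem_span_image (s := {i}) (x := j) (by simpa using h) ?_
  rw [Set.image_singleton, Submodule.mem_span_singleton]
  exact ⟨_, h1.symm⟩

theorem prime_span_root (hd : Data A f) (n : Fin r → ℕ) (hn : ∀ i, 1 ≤ n i) (i : Fin r) :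
    (Ideal.span {root A f n i}).IsPrime := (root_prime hd.hm hd.hf hn i).1

theorem atPrime_dvr (hd : Data A f) (i : Fin r) :
    IsDiscreteValuationRing (Localization.AtPrime (Ideal.span {f i})) ∧
      Irreducible (algebraMap A (Localization.AtPrime (Ideal.span {f i})) (f i)) := by
  let P := Ideal.span {f i}
  let R := Localization.AtPrime P
  haveI : IsDomain R := IsLocalization.isDomain_localization P.primeCompl_le_nonZeroDivisors
  haveI : IsNoetherianRing R := IsLocalization.isNoetherianRing P.primeCompl R inferInstance
  have hmR : maximalIdeal R = Ideal.span {algebraMap A R (f i)} := by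
    rw [← Localization.AtPrime.map_eq_maximalIdeal, Ideal.map_span, Set.image_singleton]
  have hfR0 : algebraMap A R (f i) ≠ 0 := fun h => hd.ne_zero i
    (IsLocalization.injective R P.primeCompl_le_nonZeroDivisors (h.trans (map_zero _).symm))
  have hnf : ¬ IsField R := fun h => hfR0 (by
    have h' := (IsLocalRing.isField_iff_maximalIdeal_eq).1 h
    rw [hmR, Ideal.span_singleton_eq_bot] at h'
    exact h')
  haveI hdvr : IsDiscreteValuationRing R := by
    have hp : (maximalIdeal R).IsPrincipal := ⟨⟨_, hmR⟩⟩
    exact ((IsDiscreteValuationRing.TFAE R hnf).out 4 0).1 hp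
  exact ⟨hdvr, IsDiscreteValuationRing.irreducible_of_span_eq_maximalIdeal _ hfR0 hmR⟩

/-- A prime of height one of the Kummer algebra either avoids every root or is generated by one. -/
theorem eq_span_root (hd : Data A f) {n : Fin r → ℕ} (hn : ∀ i, 1 ≤ n i) (q : Ideal (SGA1.kummerAlg A f n))
    [q.IsPrime] (hq : q.height = 1) {i : Fin r} (hi : root A f n i ∈ q) : q = Ideal.span {root A f n i} := by
  obtain ⟨hreg, -, hinj, -⟩ := kummer_facts A r f hd.hm hd.hf n hn
  haveI := hreg
  haveI := CommAlgDim.isDomain_of_isRegularLocalRing (SGA1.kummerAlg A f n)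
  haveI hP := prime_span_root hd n hn i
  have hle : Ideal.span {root A f n i} ≤ q := (Ideal.span_singleton_le_iff_mem _).2 hi
  rcases hle.eq_or_lt with h | h
  · exact h.symm
  · have hlt := Ideal.height_strict_mono_of_isPrime h
    rw [hq, ENat.lt_one_iff_eq_zero, Ideal.height_eq_zero_iff, IsDomain.minimalPrimes_eq_singleton_bot,
      Set.mem_singleton_iff, Ideal.span_singleton_eq_bot] at hlt
    have h0 := root_pow A f n i
    rw [hlt, zero_pow (by have := hn i; omega)] at h0
    exact absurd (hinj (h0.symm.trans (map_zero _).symm)) (hd.ne_zero i)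

section Cover

variable {E : Type u} [CommRing E] [Algebra A E]

/-- At a prime avoiding the divisor a cover is unramified. -/
theorem unramified_off {A' L' : Type u} [CommRing A'] [IsDomain A'] [Algebra A A'] [Field L'] [Algebra A' L']
    [Algebra A L'] [IsScalarTower A A' L'] {K' : Type u} [Field K'] [Algebra A' K'] [IsFractionRing A' K']
    [Algebra K' L'] [IsScalarTower A' K' L'] (F : A) {AF : Type u} [CommRing AF] [Algebra A AF]
    [IsLocalization.Away F AF] [Algebra AF E] [IsScalarTower A AF E] [Module.Finite AF E] [Algebra.Etale AF E]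
    (ψ : E →ₐ[A] L') (hgen : IntermediateField.adjoin K' (Set.range ψ) = ⊤)
    (q : Ideal A') [q.IsPrime] [IsDiscreteValuationRing (Localization.AtPrime q)] (hF : algebraMap A A' F ∉ q)
    (g : Localization.AtPrime q →+* L') (hg : g.comp (algebraMap A' _) = algebraMap A' L') :
    EtRam.IsUnramifiedExt (Localization.AtPrime q) g := by
  let D := Localization.AtPrime q
  have hu : ∀ y : Submonoid.powers F, IsUnit (algebraMap A D y) := by
    rintro ⟨_, k, rfl⟩
    rw [map_pow, IsScalarTower.algebraMap_apply A A' D]
    exact (IsLocalization.map_units D (⟨_, hF⟩ : q.primeCompl)).pow k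
  letI : Algebra AF D := (IsLocalization.lift (M := Submonoid.powers F) hu).toAlgebra
  haveI : IsScalarTower A AF D := IsScalarTower.of_algebraMap_eq fun a => (IsLocalization.lift_eq hu a).symm
  have hu' : ∀ y : q.primeCompl, IsUnit (algebraMap A' K' y) := fun y =>
    Ne.isUnit ((map_ne_zero_iff _ (IsFractionRing.injective A' K')).2 fun h => y.2 (h ▸ q.zero_mem))
  letI : Algebra D K' := (IsLocalization.lift (M := q.primeCompl) hu').toAlgebra
  haveI : IsScalarTower A' D K' := IsScalarTower.of_algebraMap_eq fun a => (IsLocalization.lift_eq hu' a).symm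
  haveI : IsFractionRing D K' := IsFractionRing.isFractionRing_of_isLocalization q.primeCompl D K' q.primeCompl_le_nonZeroDivisors
  have hgK : g = (algebraMap K' L').comp (algebraMap D K') :=
    IsLocalization.ringHom_ext q.primeCompl (hg.trans (RingHom.ext fun a => by
      show _ = algebraMap K' L' (algebraMap D K' (algebraMap A' D a))
      rw [← IsScalarTower.algebraMap_apply A' D K', ← IsScalarTower.algebraMap_apply A' K' L']))
  letI : Algebra D L' := g.toAlgebra
  haveI : IsScalarTower D K' L' := IsScalarTower.of_algebraMap_eq fun x => DFunLike.congr_fun hgK x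
  letI : Algebra AF L' := (g.comp (algebraMap AF D)).toAlgebra
  haveI : IsScalarTower AF D L' := IsScalarTower.of_algebraMap_eq fun _ => rfl
  haveI : IsScalarTower A AF L' := IsScalarTower.of_algebraMap_eq fun a => by
    show _ = g (algebraMap AF D (algebraMap A AF a))
    rw [← IsScalarTower.algebraMap_apply A AF D, IsScalarTower.algebraMap_apply A A' L']
    exact (DFunLike.congr_fun hg _).symm
  let ψF : E →ₐ[AF] L' := { ψ.toRingHom with
    commutes' := fun x => DFunLike.congr_fun (IsLocalization.ringHom_ext (Submonoid.powers F)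
      (j := ψ.toRingHom.comp (algebraMap AF E)) (k := algebraMap AF L') (RingHom.ext fun a => by
        show ψ (algebraMap AF E (algebraMap A AF a)) = algebraMap AF L' (algebraMap A AF a)
        rw [← IsScalarTower.algebraMap_apply, ← IsScalarTower.algebraMap_apply, AlgHom.commutes])) x }
  let Ψ : D ⊗[AF] E →ₐ[D] L' := Algebra.TensorProduct.lift (Algebra.ofId D L') ψF fun _ _ => Commute.all _ _
  have hgen' : IntermediateField.adjoin K' (Set.range Ψ) = ⊤ := top_unique (hgen ▸ IntermediateField.adjoin.mono K' _ _ (by
    rintro _ ⟨x, rfl⟩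
    exact ⟨(1 : D) ⊗ₜ[AF] x, by simp [Ψ, ψF]⟩))
  have h := EtRamTameLib.unramified_of_etale (A := D) (K := K') Ψ hgen'
  rw [hgK]
  exact h

variable {K : Type u} [Field K] [Algebra A K] [IsFractionRing A K]
  {K' L' : Type u} [Field K'] [Field L'] [Algebra A L'] [Algebra A K'] [Algebra K K'] [Algebra K L'] [Algebra K' L']
  [IsScalarTower K K' L'] [IsScalarTower A K K'] [IsScalarTower A K L']

omit [IsRegularLocalRing A] [IsDomain A] [∀ i, (Ideal.span {f i}).IsPrime] in
/-- A field generated by fractions of a finitely generated algebra has bounded degree. -/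
theorem finrank_le_card {L : Type u} [Field L] [Algebra K L] [Algebra A L] [IsScalarTower A K L]
    [FiniteDimensional K L] (ψL : E →ₐ[A] L) (hfrac : ∀ x : L, ∃ b c : E, x = ψL b / ψL c) (s : Finset E)
    (hs : ∀ e : E, ∃ a : A, a ≠ 0 ∧ a • e ∈ Submodule.span A (s : Set E)) :
    Module.finrank K L ≤ s.card := by
  classical
  let S := Submodule.span K ((s.image ψL : Finset L) : Set L)
  have hES : ∀ e : E, ψL e ∈ S := fun e => by
    obtain ⟨a, ha, hae⟩ := hs e
    have h1 : ψL (a • e) ∈ S := by
      have h2 : Submodule.span A (s : Set E) ≤ (S.restrictScalars A).comap ψL.toLinearMap :=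
        Submodule.span_le.2 fun x hx => Submodule.subset_span (Finset.mem_coe.2 (Finset.mem_image_of_mem ψL hx))
      exact h2 hae
    rw [map_smul, ← algebraMap_smul K] at h1
    have h3 := S.smul_mem (algebraMap A K a)⁻¹ h1
    rwa [smul_smul, inv_mul_cancel₀ ((map_ne_zero_iff _ (IsFractionRing.injective A K)).2 ha), one_smul] at h3
  have hle : (Algebra.adjoin K (Set.range ψL)).toSubmodule ≤ S := by
    rw [Algebra.adjoin_eq_span]
    refine Submodule.span_le.2 fun x hx => ?_
    have hx' : x ∈ Set.range ψL := by
      induction hx using Submonoid.closure_induction with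
      | mem y hy => exact hy
      | one => exact ⟨1, map_one _⟩
      | mul y z _ _ hy hz =>
        obtain ⟨y, rfl⟩ := hy
        obtain ⟨z, rfl⟩ := hz
        exact ⟨y * z, map_mul _ _ _⟩
    obtain ⟨e, rfl⟩ := hx'
    exact hES e
  have htop : S = ⊤ := top_unique fun x _ => by
    haveI : Algebra.IsAlgebraic K L := Algebra.IsAlgebraic.of_finite K L
    obtain ⟨b, c, rfl⟩ := hfrac x
    have h2 : ψL b * (ψL c)⁻¹ ∈ Algebra.adjoin K (Set.range ψL) := mul_mem (Algebra.subset_adjoin ⟨b, rfl⟩)
      (Subalgebra.inv_mem_of_algebraic (Algebra.adjoin K (Set.range ψL)) (x := ⟨ψL c, Algebra.subset_adjoin ⟨c, rfl⟩⟩)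
        (Algebra.IsAlgebraic.isAlgebraic _))
    rw [div_eq_mul_inv]
    exact hle h2
  calc Module.finrank K L = Module.finrank K S := by rw [htop, finrank_top]
    _ ≤ (s.image ψL).card := finrank_span_finset_le_card (s.image ψL)
    _ ≤ s.card := Finset.card_image_le

omit [IsRegularLocalRing A] [IsDomain A] [∀ i, (Ideal.span {f i}).IsPrime] [IsFractionRing A K] in
/-- The big field is generated over the residue field by the small one. -/
theorem adjoin_eq_top {L : Type u} [Field L] [Algebra K L] [Algebra L L'] [IsScalarTower K L L']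
    [FiniteDimensional K L'] (ψL : E → L) (ψ : E → L') (hj : ∀ x, algebraMap L L' (ψL x) = ψ x)
    (hgen : IntermediateField.adjoin K' (Set.range ψ) = ⊤) :
    Algebra.adjoin L (Set.range (algebraMap K' L')) = ⊤ := by
  haveI : FiniteDimensional L L' := FiniteDimensional.right K L L'
  have h1 : IntermediateField.adjoin L (Set.range (algebraMap K' L')) = ⊤ := by
    refine eq_top_iff.2 fun x _ => ?_
    have hx : x ∈ IntermediateField.adjoin K' (Set.range ψ) := hgen ▸ trivial
    induction hx using IntermediateField.adjoin_induction with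
    | mem y hy =>
      obtain ⟨z, rfl⟩ := hy
      rw [← hj]
      exact IntermediateField.algebraMap_mem _ (ψL z)
    | algebraMap y => exact IntermediateField.subset_adjoin _ _ ⟨y, rfl⟩
    | add a b _ _ ha hb => exact add_mem (ha trivial) (hb trivial)
    | inv a _ ha => exact inv_mem (ha trivial)
    | mul a b _ _ ha hb => exact mul_mem (ha trivial) (hb trivial)
  rw [← IntermediateField.adjoin_toSubalgebra_of_isAlgebraic fun y _ => Algebra.IsAlgebraic.isAlgebraic y, h1,
    IntermediateField.top_toSubalgebra]

/-- The residue field of a point of the cover, inside a field receiving it. -/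
theorem residue_setup (htame : SGA1.IsTameAlong f (algebraMap A E)) (i : Fin r)
    [Algebra (Localization.AtPrime (Ideal.span {f i})) K] [IsScalarTower A (Localization.AtPrime (Ideal.span {f i})) K]
    [FiniteDimensional K L'] (ψ : E →ₐ[A] L') (hgen : IntermediateField.adjoin K' (Set.range ψ) = ⊤) (s : Finset E)
    (hs : ∀ e : E, ∃ a : A, a ≠ 0 ∧ a • e ∈ Submodule.span A (s : Set E)) :
    ∃ (L : Type u) (_ : Field L) (_ : Algebra K L) (_ : Algebra L L') (_ : IsScalarTower K L L')
      (_ : FiniteDimensional K L), Module.finrank K L ≤ s.card ∧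
      Algebra.adjoin L (Set.range (algebraMap K' L')) = ⊤ ∧
      EtRam.IsTamelyRamified (Localization.AtPrime (Ideal.span {f i}))
        ((algebraMap K L).comp (algebraMap (Localization.AtPrime (Ideal.span {f i})) K)) := by
  have hinjL : Function.Injective (algebraMap A L') := by
    rw [IsScalarTower.algebraMap_eq A K L']
    exact (algebraMap K L').injective.comp (IsFractionRing.injective A K)
  haveI : (RingHom.ker (ψ : E →+* L')).IsPrime := RingHom.ker_isPrime _
  generalize hqE' : RingHom.ker (ψ : E →+* L') = qE at *
  have hqE : Ideal.comap (algebraMap A E) qE = ⊥ := Ideal.ext fun a => by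
    rw [← hqE']
    show ψ (algebraMap A E a) = 0 ↔ a ∈ (⊥ : Ideal A)
    rw [AlgHom.commutes, Ideal.mem_bot, map_eq_zero_iff _ hinjL]
  have hgL : ∀ a : A, SGA1.genericResidueMap (algebraMap A E) (Ideal.span {f i}) qE hqE
      (algebraMap A _ a) = algebraMap E qE.ResidueField (algebraMap A E a) := fun a => IsLocalization.lift_eq _ a
  have htame' := htame i qE hqE
  generalize SGA1.genericResidueMap (algebraMap A E) (Ideal.span {f i}) qE hqE = gL at hgL htame'
  have hgLinj : Function.Injective (gL.comp (algebraMap A _)) := (injective_iff_map_eq_zero _).2 fun a ha => by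
    have h1 : algebraMap E qE.ResidueField (algebraMap A E a) = 0 := (hgL a).symm.trans ha
    rw [← RingHom.mem_ker, Ideal.ker_algebraMap_residueField] at h1
    have h2 : a ∈ Ideal.comap (algebraMap A E) qE := h1
    rwa [hqE, Ideal.mem_bot] at h2
  letI : Algebra K qE.ResidueField := (IsFractionRing.lift hgLinj).toAlgebra
  have hA : ∀ a : A, algebraMap K qE.ResidueField (algebraMap A K a) = algebraMap E qE.ResidueField (algebraMap A E a) :=
    fun a => (IsFractionRing.lift_algebraMap hgLinj a).trans (hgL a)
  have hKL : (algebraMap K qE.ResidueField).comp (algebraMap (Localization.AtPrime (Ideal.span {f i})) K) = gL :=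
    IsLocalization.ringHom_ext (Ideal.span {f i}).primeCompl (RingHom.ext fun a => by
      rw [RingHom.comp_apply, RingHom.comp_apply, RingHom.comp_apply,
        ← IsScalarTower.algebraMap_apply A (Localization.AtPrime (Ideal.span {f i})) K, hA]
      exact (hgL a).symm)
  have hker : ∀ x : E, x ∈ qE → ψ x = 0 := fun x hx => by rwa [← hqE', RingHom.mem_ker] at hx
  have hjbar : Function.Injective (Ideal.Quotient.lift qE (ψ : E →+* L') hker) :=
    RingHom.lift_injective_of_ker_le_ideal _ _ (hqE'.le)
  letI : Algebra qE.ResidueField L' := (IsFractionRing.lift (A := E ⧸ qE) (K := qE.ResidueField) hjbar).toAlgebra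
  have hj : ∀ x : E, algebraMap qE.ResidueField L' (algebraMap E qE.ResidueField x) = ψ x := fun x => by
    rw [IsScalarTower.algebraMap_apply E (E ⧸ qE) qE.ResidueField]
    exact IsFractionRing.lift_algebraMap hjbar _
  haveI : IsScalarTower K qE.ResidueField L' := IsScalarTower.of_algebraMap_eq (DFunLike.congr_fun
    (IsLocalization.ringHom_ext (nonZeroDivisors A) (j := algebraMap K L')
      (k := (algebraMap qE.ResidueField L').comp (algebraMap K qE.ResidueField)) (RingHom.ext fun a => by
      simp only [RingHom.comp_apply]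
      rw [hA, hj, AlgHom.commutes, ← IsScalarTower.algebraMap_apply])))
  haveI : FiniteDimensional K qE.ResidueField := FiniteDimensional.left K qE.ResidueField L'
  refine ⟨qE.ResidueField, inferInstance, inferInstance, inferInstance, inferInstance, inferInstance, ?_,
    adjoin_eq_top (K := K) (algebraMap E qE.ResidueField) ψ hj hgen, hKL ▸ htame'⟩
  letI : Algebra A qE.ResidueField := ((algebraMap K qE.ResidueField).comp (algebraMap A K)).toAlgebra
  haveI : IsScalarTower A K qE.ResidueField := IsScalarTower.of_algebraMap_eq fun _ => rfl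
  let ψL : E →ₐ[A] qE.ResidueField := { algebraMap E qE.ResidueField with commutes' := fun a => (hA a).symm }
  refine finrank_le_card ψL (fun x => ?_) s hs
  obtain ⟨b, c, -, rfl⟩ := IsFractionRing.div_surjective (E ⧸ qE) x
  obtain ⟨b, rfl⟩ := Ideal.Quotient.mk_surjective b
  obtain ⟨c, rfl⟩ := Ideal.Quotient.mk_surjective c
  exact ⟨b, c, congrArg₂ (· / ·) (IsScalarTower.algebraMap_apply E (E ⧸ qE) qE.ResidueField b).symm
    (IsScalarTower.algebraMap_apply E (E ⧸ qE) qE.ResidueField c).symm⟩

/-- Tame covers become unramified at the roots when the exponents are divisible enough. -/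
theorem unramified_root (hd : Data A f) (htame : SGA1.IsTameAlong f (algebraMap A E))
    {n : Fin r → ℕ} (hn : ∀ i, 1 ≤ n i) [Algebra (SGA1.kummerAlg A f n) K'] [IsFractionRing (SGA1.kummerAlg A f n) K']
    [IsScalarTower A (SGA1.kummerAlg A f n) K'] [FiniteDimensional K L'] (ψ : E →ₐ[A] L')
    (hgen : IntermediateField.adjoin K' (Set.range ψ) = ⊤) (i : Fin r) [(Ideal.span {root A f n i}).IsPrime]
    (sE : Finset E) (hsE : ∀ e : E, ∃ a : A, a ≠ 0 ∧ a • e ∈ Submodule.span A (sE : Set E))
    (hdiv : ∀ e : ℕ, e ≤ sE.card → (e : ResidueField (Localization.AtPrime (Ideal.span {f i}))) ≠ 0 → e ∣ n i)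
    (g : Localization.AtPrime (Ideal.span {root A f n i}) →+* L')
    (hg : g.comp (algebraMap (SGA1.kummerAlg A f n) _) = (algebraMap K' L').comp (algebraMap _ K')) :
    EtRam.IsUnramifiedExt (Localization.AtPrime (Ideal.span {root A f n i})) g := by
  classical
  obtain ⟨hreg, -, hinjA', -⟩ := kummer_facts A r f hd.hm hd.hf n hn
  haveI := hreg
  haveI := CommAlgDim.isDomain_of_isRegularLocalRing (SGA1.kummerAlg A f n)
  obtain ⟨hdvrP, hirrP⟩ := atPrime_dvr hd i
  let A' := SGA1.kummerAlg A f n
  let P := Ideal.span {f i}
  let P' := Ideal.span {root A f n i}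
  let AP := Localization.AtPrime P
  let D := Localization.AtPrime P'
  haveI := hdvrP
  haveI : P'.LiesOver P := ⟨(root_prime hd.hm hd.hf hn i).2.symm⟩
  letI : Algebra AP D := Localization.AtPrime.algebraOfLiesOver P P'
  haveI : IsLocalHom (algebraMap AP D) :=
    Localization.isLocalHom_localRingHom P P' (algebraMap A A') (P'.over_def P)
  haveI : IsDomain AP := IsLocalization.isDomain_localization P.primeCompl_le_nonZeroDivisors
  haveI : IsDomain D := IsLocalization.isDomain_localization P'.primeCompl_le_nonZeroDivisors
  haveI : IsNoetherianRing D := IsLocalization.isNoetherianRing P'.primeCompl D inferInstance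
  have hmD : maximalIdeal D = Ideal.span {algebraMap A' D (root A f n i)} := by
    rw [← Localization.AtPrime.map_eq_maximalIdeal, Ideal.map_span, Set.image_singleton]
  have hAD : ∀ a : A, algebraMap AP D (algebraMap A AP a) = algebraMap A' D (algebraMap A A' a) := fun a =>
    Localization.localRingHom_to_map P P' (algebraMap A A') (P'.over_def P) a
  have hfi : algebraMap AP D (algebraMap A AP (f i)) = 1 * algebraMap A' D (root A f n i) ^ n i := by
    rw [hAD, one_mul, ← map_pow, root_pow]
  have hT0 : algebraMap A' D (root A f n i) ≠ 0 := fun h0 => by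
    have h1 := hfi
    rw [h0, zero_pow (by have := hn i; omega), mul_zero] at h1
    have h2 : algebraMap A' D (algebraMap A A' (f i)) = 0 := (hAD _).symm.trans h1
    exact hd.ne_zero i (hinjA' ((IsLocalization.injective D P'.primeCompl_le_nonZeroDivisors
      (h2.trans (map_zero _).symm)).trans (map_zero _).symm))
  haveI : IsDiscreteValuationRing D := by
    have hnf : ¬ IsField D := fun h => hT0 (by
      have h' := (IsLocalRing.isField_iff_maximalIdeal_eq).1 h
      rwa [hmD, Ideal.span_singleton_eq_bot] at h')
    have hp : (maximalIdeal D).IsPrincipal := ⟨⟨_, hmD⟩⟩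
    exact ((IsDiscreteValuationRing.TFAE D hnf).out 4 0).1 hp
  have hϖ := IsDiscreteValuationRing.irreducible_of_span_eq_maximalIdeal _ hT0 hmD
  have huK : ∀ y : P.primeCompl, IsUnit (algebraMap A K y) := fun y =>
    Ne.isUnit ((map_ne_zero_iff _ (IsFractionRing.injective A K)).2 fun h => y.2 (h ▸ P.zero_mem))
  letI : Algebra AP K := (IsLocalization.lift (M := P.primeCompl) huK).toAlgebra
  haveI : IsScalarTower A AP K := IsScalarTower.of_algebraMap_eq fun a => (IsLocalization.lift_eq huK a).symm
  haveI : IsFractionRing AP K := IsFractionRing.isFractionRing_of_isLocalization P.primeCompl AP K P.primeCompl_le_nonZeroDivisors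
  have huK' : ∀ y : P'.primeCompl, IsUnit (algebraMap A' K' y) := fun y =>
    Ne.isUnit ((map_ne_zero_iff _ (IsFractionRing.injective A' K')).2 fun h => y.2 (h ▸ P'.zero_mem))
  letI : Algebra D K' := (IsLocalization.lift (M := P'.primeCompl) huK').toAlgebra
  haveI : IsScalarTower A' D K' := IsScalarTower.of_algebraMap_eq fun a => (IsLocalization.lift_eq huK' a).symm
  haveI : IsFractionRing D K' := IsFractionRing.isFractionRing_of_isLocalization P'.primeCompl D K' P'.primeCompl_le_nonZeroDivisors
  have hADK : ∀ x : AP, algebraMap K K' (algebraMap AP K x) = algebraMap D K' (algebraMap AP D x) :=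
    DFunLike.congr_fun (IsLocalization.ringHom_ext P.primeCompl
      (j := (algebraMap K K').comp (algebraMap AP K)) (k := (algebraMap D K').comp (algebraMap AP D))
      (RingHom.ext fun a => by
        show algebraMap K K' (algebraMap AP K (algebraMap A AP a)) = algebraMap D K' (algebraMap AP D (algebraMap A AP a))
        rw [hAD, ← IsScalarTower.algebraMap_apply A AP K, ← IsScalarTower.algebraMap_apply A K K',
          ← IsScalarTower.algebraMap_apply A' D K', ← IsScalarTower.algebraMap_apply A A' K']))
  obtain ⟨L, _, _, _, _, _, hcard, hgenA, htL⟩ := residue_setup (K := K) (K' := K') htame i ψ hgen sE hsE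
  haveI : FiniteDimensional K K' := FiniteDimensional.left K K' L'
  have hgeq : g = (algebraMap K' L').comp (algebraMap D K') :=
    IsLocalization.ringHom_ext P'.primeCompl (hg.trans (RingHom.ext fun a => by
      show _ = algebraMap K' L' (algebraMap D K' (algebraMap A' D a))
      rw [← IsScalarTower.algebraMap_apply A' D K']
      rfl))
  rw [hgeq]
  refine unramified_of_absorb (A := AP) (K := K) (L := L) (D := D) (K' := K') (M := L') hADK hgenA htL hirrP hϖ (u := 1)
    (N := n i) (by rw [Units.val_one]; exact hfi) fun e he hne => hdiv e (he.trans hcard) hne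

end Cover

end AbhyLib
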