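import Groth.Agent.AbhyLib.Unram
import Groth.Agent.FinMultLib.NormalEtale
import Mathlib.RingTheory.Etale.Pi
import Mathlib.RingTheory.TensorProduct.Pi

/-!
# Extending a finite étale cover unramified in codimension one
-/

set_option autoImplicit false
set_option linter.style.haveILetI false
set_option maxHeartbeats 2000000
set_option synthInstance.maxHeartbeats 200000

universe u

open IsLocalRing
open scoped TensorProduct

namespace AbhyLib

/-- A finite étale algebra over a normal domain is the integral closure in its generic fibre. -/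
theorem nonempty_equiv_integralClosure {S : Type u} [CommRing S] [IsDomain S] [IsIntegrallyClosed S] (K : Type u)
    [Field K] [Algebra S K] [IsFractionRing S K] {C : Type u} [CommRing C] [Algebra S C] [Algebra.Etale S C]
    [Algebra.IsIntegral S C] {M : Type u} [CommRing M] [Algebra S M] (e : K ⊗[S] C ≃ₐ[S] M) :
    Nonempty (C ≃ₐ[S] integralClosure S M) := by
  let c : K ⊗[S] C ≃ₐ[S] C ⊗[S] K := Algebra.TensorProduct.comm S K C
  let θ : C →ₐ[S] M := e.toAlgHom.comp Algebra.TensorProduct.includeRight
  have hθ : Function.Injective θ := by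
    refine e.injective.comp ?_
    have h1 : Function.Injective (Algebra.TensorProduct.includeLeft : C →ₐ[S] C ⊗[S] K) :=
      Algebra.TensorProduct.includeLeft_injective (S := S) (IsFractionRing.injective S K)
    intro x y hxy
    apply h1
    have := congrArg c hxy
    simpa [c] using this
  let θ' : C →ₐ[S] integralClosure S M := θ.codRestrict _ fun x => (Algebra.IsIntegral.isIntegral (R := S) x).map θ
  refine ⟨AlgEquiv.ofBijective θ' ⟨fun x y h => hθ (congrArg Subtype.val h), fun x => ?_⟩⟩
  have hint : IsIntegral S (c (e.symm (x : M))) := (x.2 : IsIntegral S (x : M)).map (c.toAlgHom.comp e.symm.toAlgHom)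
  obtain ⟨s, hs⟩ := Groth.Agent.FinMult.mem_range_of_isIntegral (R := S) K (S := C) hint.tower_top
  refine ⟨s, Subtype.ext (show θ s = x from ?_)⟩
  have h2 : (1 : K) ⊗ₜ[S] s = e.symm (x : M) := c.injective (by rw [← hs]; simp [c])
  show e ((1 : K) ⊗ₜ[S] s) = x
  rw [h2, AlgEquiv.apply_symm_apply]

/-- Integral closure in a finite product of fields. -/
noncomputable def integralClosurePiEquiv (S : Type u) [CommRing S] {I : Type u} [Finite I] (L : I → Type u)
    [∀ i, CommRing (L i)] [∀ i, Algebra S (L i)] :
    integralClosure S (∀ i, L i) ≃ₐ[S] ∀ i, integralClosure S (L i) := by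
  classical
  refine AlgEquiv.ofBijective
    ({ toFun := fun x i => ⟨(x : ∀ i, L i) i, (x.2 : IsIntegral S (x : ∀ i, L i)).map (Pi.evalAlgHom S L i)⟩
       map_one' := rfl
       map_mul' := fun _ _ => rfl
       map_zero' := rfl
       map_add' := fun _ _ => rfl
       commutes' := fun _ => rfl } : integralClosure S (∀ i, L i) →ₐ[S] ∀ i, integralClosure S (L i))
    ⟨fun x y h => Subtype.ext (funext fun i => congrArg Subtype.val (congrFun h i)), fun x => ?_⟩
  cases nonempty_fintype I
  refine ⟨⟨fun i => (x i : L i), ?_⟩, rfl⟩
  choose p hp hp0 using fun i => (x i).2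
  refine ⟨∏ i, p i, Polynomial.monic_prod_of_monic _ _ fun i _ => hp i, ?_⟩
  funext i
  have h1 : Polynomial.aeval ((x i : L i)) (∏ j, p j) = 0 := by
    rw [map_prod]
    exact Finset.prod_eq_zero (Finset.mem_univ i) (hp0 i)
  exact (Polynomial.aeval_algHom_apply (Pi.evalAlgHom S L i) (fun i => (x i : L i)) (∏ j, p j)).symm.trans h1

/-- **Extension**: a finite étale cover of `R[1/G]` all of whose points are unramified in codimension one
extends to a finite étale cover of `R`. -/
theorem exists_extension (R : Type u) [CommRing R] [IsDomain R] [IsNoetherianRing R] [IsIntegrallyClosed R]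
    (hreg : ∀ (p : Ideal R) [p.IsPrime], IsRegularLocalRing (Localization.AtPrime p))
    (G : R) (hG : G ≠ 0) (S : Type u) [CommRing S] [Algebra R S] [IsLocalization.Away G S]
    (K : Type u) [Field K] [Algebra R K] [IsFractionRing R K] [Algebra S K] [IsScalarTower R S K]
    (C : Type u) [CommRing C] [Algebra S C] [Module.Finite S C] [Algebra.Etale S C]
    (hunr : ∀ (L : Type u) [Field L] [Algebra K L] [Algebra R L] [Algebra S L] [IsScalarTower R K L]
      [IsScalarTower S K L] [IsScalarTower R S L] [FiniteDimensional K L] [Algebra.IsSeparable K L]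
      (ψ : C →ₐ[S] L), IntermediateField.adjoin K (Set.range ψ) = ⊤ → UnrCodimOne R L) :
    ∃ (B : Type u) (_ : CommRing B) (_ : Algebra R B), Module.Finite R B ∧ Algebra.Etale R B ∧
      Nonempty (S ⊗[R] B ≃ₐ[S] C) := by
  classical
  have hM : Submonoid.powers G ≤ nonZeroDivisors R := powers_le_nonZeroDivisors_of_noZeroDivisors hG
  haveI : IsDomain S := IsLocalization.isDomain_of_le_nonZeroDivisors (R := R) S hM
  haveI : IsIntegrallyClosed S := isIntegrallyClosed_of_isLocalization S (Submonoid.powers G) hM
  haveI : IsFractionRing S K := IsFractionRing.isFractionRing_of_isLocalization (Submonoid.powers G) S K hM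
  haveI : Algebra.IsIntegral S C := Algebra.IsIntegral.of_finite S C
  obtain ⟨I, hI, L, _, _, e, hsep⟩ := (Algebra.FormallyEtale.iff_exists_algEquiv_prod K (K ⊗[S] C)).1 inferInstance
  cases nonempty_fintype I
  haveI : ∀ j, FiniteDimensional K (L j) := fun j =>
    Module.Finite.of_surjective ((Pi.evalAlgHom K L j).comp e.toAlgHom).toLinearMap
      ((Function.surjective_eval j).comp e.surjective)
  letI : ∀ j, Algebra R (L j) := fun j => ((algebraMap K (L j)).comp (algebraMap R K)).toAlgebra
  letI : ∀ j, Algebra S (L j) := fun j => ((algebraMap K (L j)).comp (algebraMap S K)).toAlgebra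
  haveI : ∀ j, IsScalarTower R K (L j) := fun j => IsScalarTower.of_algebraMap_eq fun _ => rfl
  haveI : ∀ j, IsScalarTower S K (L j) := fun j => IsScalarTower.of_algebraMap_eq fun _ => rfl
  haveI : ∀ j, IsScalarTower R S (L j) := fun j => IsScalarTower.of_algebraMap_eq fun x => by
    show algebraMap K (L j) (algebraMap R K x) = algebraMap K (L j) (algebraMap S K (algebraMap R S x))
    rw [← IsScalarTower.algebraMap_apply R S K]
  haveI : ∀ j, Algebra.IsSeparable K (L j) := hsep
  have hB : ∀ j, Module.Finite R (integralClosure R (L j)) ∧ Algebra.Etale R (integralClosure R (L j)) := fun j => by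
    let π : K ⊗[S] C →ₐ[K] L j := (Pi.evalAlgHom K L j).comp e.toAlgHom
    refine etale_integralClosure R hreg K (L j) (hunr (L j)
      ((π.restrictScalars S).comp Algebra.TensorProduct.includeRight) (top_unique fun x _ => ?_))
    obtain ⟨z, rfl⟩ : ∃ z, π z = x := ((Function.surjective_eval j).comp e.surjective) x
    induction z using TensorProduct.induction_on with
    | zero => rw [map_zero]; exact zero_mem _
    | add a b ha hb => rw [map_add]; exact add_mem (ha trivial) (hb trivial)
    | tmul k c =>
      rw [show k ⊗ₜ[S] c = k • ((1 : K) ⊗ₜ[S] c) by rw [TensorProduct.smul_tmul', smul_eq_mul, mul_one], map_smul,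
        Algebra.smul_def]
      exact mul_mem (IntermediateField.algebraMap_mem _ k) (IntermediateField.subset_adjoin _ _ ⟨c, rfl⟩)
  haveI : ∀ j, Module.Finite R (integralClosure R (L j)) := fun j => (hB j).1
  haveI : ∀ j, Algebra.Etale R (integralClosure R (L j)) := fun j => (hB j).2
  refine ⟨∀ j, integralClosure R (L j), inferInstance, inferInstance, inferInstance, inferInstance, ?_⟩
  obtain ⟨eC⟩ := nonempty_equiv_integralClosure (S := S) K (C := C) (e.restrictScalars S)
  exact ⟨(((Algebra.TensorProduct.piRight R S S fun j => integralClosure R (L j)).trans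
    (AlgEquiv.piCongrRight fun j => tensorIntegralClosureEquiv R S (L j) (Submonoid.powers G))).trans
    (integralClosurePiEquiv S L).symm).trans eC.symm⟩

end AbhyLib
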