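import Groth.Agent.AbhyLib.Kummer
import Mathlib.RingTheory.Etale.Field
import Mathlib.RingTheory.Unramified.Field
import Mathlib.FieldTheory.IsAlgClosed.AlgebraicClosure
import Mathlib.Algebra.CharP.Lemmas

/-!
# Étale subcovers of a covering radicial at a point of residue characteristic `p`
-/

set_option autoImplicit false
set_option linter.style.haveILetI false
set_option maxHeartbeats 1000000

universe u

open IsLocalRing
open scoped TensorProduct

namespace AbhyLib

/-- An unramified finite algebra mapping to elements whose `Q`-th powers lie in `D` modulo `p`, `p` in the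
maximal ideal, maps into `D`. -/
theorem range_le_of_radicial {D : Type u} [CommRing D] [IsLocalRing D] {Ω : Type u} [Field Ω] [Algebra D Ω]
    (p k : ℕ) (hp : p.Prime) (hpD : (p : D) ∈ maximalIdeal D) {B : Type u} [CommRing B] [Algebra D B]
    [Module.Finite D B] [Algebra.FormallyUnramified D B] (χ : B →ₐ[D] Ω)
    (hpow : ∀ b : B, ∃ (c : D) (w : Ω), IsIntegral D w ∧ χ b ^ p ^ k = algebraMap D Ω c + (p : Ω) * w) :
    ∀ b : B, χ b ∈ Set.range (algebraMap D Ω) := by
  classical
  let T := χ.range
  let π : B →ₐ[D] T := χ.rangeRestrict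
  have hπ : Function.Surjective π := χ.rangeRestrict_surjective
  haveI : Module.Finite D T := Module.Finite.of_surjective π.toLinearMap hπ
  haveI : Algebra.FormallyUnramified D T := Algebra.FormallyUnramified.of_surjective π hπ
  let κ := ResidueField D
  let κb := AlgebraicClosure κ
  haveI : CharP κb p := by
    haveI : Fact p.Prime := ⟨hp⟩
    refine (CharP.charP_iff_prime_eq_zero hp).2 ?_
    have h0 : (p : κ) = 0 := by rw [← map_natCast (residue D)]; exact (residue_eq_zero_iff _).2 hpD
    rw [← map_natCast (algebraMap κ κb), h0, map_zero]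
  haveI : Fact p.Prime := ⟨hp⟩
  haveI : Algebra.FormallyEtale κb (κb ⊗[D] T) := Algebra.FormallyEtale.iff_formallyUnramified_of_field.2 inferInstance
  obtain ⟨I, hI, L, _, _, e, hsep⟩ := (Algebra.FormallyEtale.iff_exists_algEquiv_prod κb (κb ⊗[D] T)).1 inferInstance
  haveI : ∀ j, Algebra.IsSeparable κb (L j) := hsep
  haveI : ∀ j, Algebra.IsIntegral κb (L j) := fun j => inferInstance
  have hscal : ∀ (z : T), ∃ c : κb, ∀ j, e ((1 : κb) ⊗ₜ[D] z) j = algebraMap κb (L j) c := by
    intro z
    obtain ⟨b, hb⟩ := hπ z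
    obtain ⟨c, w, hw, hcw⟩ := hpow b
    obtain ⟨c', hc'⟩ : ∃ c' : κb, c' ^ p ^ k = algebraMap κ κb (residue D c) :=
      IsAlgClosed.exists_pow_nat_eq _ (pow_pos hp.pos k)
    refine ⟨c', fun j => ?_⟩
    obtain ⟨v, hv⟩ := IsAlgClosed.algebraMap_bijective_of_isIntegral (k := κb) (K := L j) |>.2 (e ((1 : κb) ⊗ₜ[D] z) j)
    rw [← hv]
    congr 1
    refine iterateFrobenius_inj κb p k ?_
    rw [iterateFrobenius_def, iterateFrobenius_def, hc']
    -- evaluate at the prime of `T` attached to the point
    letI : Algebra D (L j) := ((algebraMap κb (L j)).comp (algebraMap D κb)).toAlgebra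
    haveI : IsScalarTower D κb (L j) := IsScalarTower.of_algebraMap_eq fun _ => rfl
    let ρ : T →ₐ[D] L j := (((Pi.evalAlgHom κb L j).comp e.toAlgHom).restrictScalars D).comp
      Algebra.TensorProduct.includeRight
    let P : Ideal T := RingHom.ker (ρ : T →+* L j)
    haveI : P.IsPrime := RingHom.ker_isPrime _
    -- extend the prime to `T[w]`
    let U : Subalgebra D Ω := Algebra.adjoin D ((T : Set Ω) ∪ {w})
    have hTU : T ≤ U := fun x hx => Algebra.subset_adjoin (Or.inl hx)
    letI : Algebra T U := (Subalgebra.inclusion hTU).toRingHom.toAlgebra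
    haveI : IsScalarTower D T U := IsScalarTower.of_algebraMap_eq fun _ => Subtype.ext rfl
    haveI : Algebra.IsIntegral D U := ⟨fun u => by
      have hle : U ≤ integralClosure D Ω := Algebra.adjoin_le (Set.union_subset
        (fun x hx => by
          obtain ⟨b', hb'⟩ := hπ ⟨x, hx⟩
          rw [show x = χ b' from (congrArg Subtype.val hb').symm]
          exact (Algebra.IsIntegral.isIntegral (R := D) b').map χ)
        (Set.singleton_subset_iff.2 hw))
      exact (isIntegral_algHom_iff U.val Subtype.val_injective).1 (hle u.2)⟩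
    haveI : Algebra.IsIntegral T U := Algebra.IsIntegral.tower_top D
    obtain ⟨P', -, hP', hPP'⟩ := Ideal.exists_ideal_over_prime_of_isIntegral (S := U) P ⊥ (by
      intro x hx
      rw [Subtype.ext (congrArg (fun u : U => (u : Ω)) (show algebraMap T U x = 0 from hx)) (a2 := (0 : T))]
      exact P.zero_mem)
    have hkey : z ^ p ^ k - algebraMap D T c ∈ P := by
      rw [← hPP']
      show algebraMap T U (z ^ p ^ k - algebraMap D T c) ∈ P'
      have heq : algebraMap T U (z ^ p ^ k - algebraMap D T c) =
          algebraMap T U (algebraMap D T (p : D)) * (⟨w, Algebra.subset_adjoin (Or.inr rfl)⟩ : U) := Subtype.ext (by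
        show (z : Ω) ^ p ^ k - algebraMap D Ω c = algebraMap D Ω (p : D) * w
        rw [← hb, map_natCast]
        show χ b ^ p ^ k - _ = _
        rw [hcw, add_sub_cancel_left])
      rw [heq]
      refine P'.mul_mem_right _ ?_
      have hpP : algebraMap D T (p : D) ∈ P := by
        show ρ (algebraMap D T (p : D)) = 0
        rw [AlgHom.commutes, map_natCast]
        exact_mod_cast (map_natCast (algebraMap κb (L j)) p).symm.trans (by rw [CharP.cast_eq_zero, map_zero])
      rw [← hPP'] at hpP
      exact hpP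
    have h2 : ρ (z ^ p ^ k) = ρ (algebraMap D T c) := sub_eq_zero.1 (by rw [← map_sub]; exact hkey)
    refine (algebraMap κb (L j)).injective ?_
    rw [map_pow, hv]
    show ρ z ^ p ^ k = _
    rw [← map_pow, h2, AlgHom.commutes, IsScalarTower.algebraMap_apply D κb (L j)]
    rfl
  -- `D → T` is surjective
  have hsurj : ∀ j j' : I, j = j' := fun j j' => by
    by_contra hne
    let q : κb ⊗[D] T := e.symm (Pi.single j 1)
    have hq : ∀ x : κb ⊗[D] T, ∃ c : κb, ∀ j, e x j = algebraMap κb (L j) c := fun x => by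
      induction x using TensorProduct.induction_on with
      | zero => exact ⟨0, fun j => by rw [map_zero, map_zero]; rfl⟩
      | add a b ha hb =>
        obtain ⟨ca, hca⟩ := ha; obtain ⟨cb, hcb⟩ := hb
        exact ⟨ca + cb, fun j => by rw [map_add, Pi.add_apply, hca, hcb, map_add]⟩
      | tmul s z =>
        obtain ⟨c, hc⟩ := hscal z
        refine ⟨s * c, fun j => ?_⟩
        rw [show s ⊗ₜ[D] z = s • ((1 : κb) ⊗ₜ[D] z) by rw [TensorProduct.smul_tmul', smul_eq_mul, mul_one], map_smul,
          Pi.smul_apply, hc, Algebra.smul_def, map_mul]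
    obtain ⟨c, hc⟩ := hq q
    have h1 := hc j
    have h2 := hc j'
    rw [AlgEquiv.apply_symm_apply, Pi.single_eq_same, ← (algebraMap κb (L j)).map_one] at h1
    rw [AlgEquiv.apply_symm_apply, Pi.single_eq_of_ne (Ne.symm hne), ← (algebraMap κb (L j')).map_zero] at h2
    exact one_ne_zero (((algebraMap κb (L j)).injective h1).trans ((algebraMap κb (L j')).injective h2).symm)
  have htop : Submodule.span κb {(1 : κb ⊗[D] T)} = ⊤ := by
    refine eq_top_iff.2 fun x _ => Submodule.mem_span_singleton.2 ?_
    rcases isEmpty_or_nonempty I with h | ⟨⟨j⟩⟩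
    · exact ⟨0, e.injective (funext fun j => h.elim j)⟩
    obtain ⟨c, hc⟩ := IsAlgClosed.algebraMap_bijective_of_isIntegral (k := κb) (K := L j) |>.2 (e x j)
    refine ⟨c, e.injective (funext fun j' => ?_)⟩
    obtain rfl := hsurj j j'
    rw [map_smul, map_one, Pi.smul_apply, Pi.one_apply, Algebra.smul_def, mul_one, hc]
  let ι : D →ₗ[D] T := Algebra.linearMap D T
  have hbc : Function.Surjective (ι.baseChange κb) := fun x => by
    obtain ⟨c, rfl⟩ := Submodule.mem_span_singleton.1 (htop.ge (Submodule.mem_top (x := x)))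
    exact ⟨c ⊗ₜ[D] 1, by simp [ι, Algebra.TensorProduct.one_def, TensorProduct.smul_tmul']⟩
  have hι : Function.Surjective ι := by
    have hrT : Function.Surjective (ι.lTensor κb) := hbc
    have hsub : Subsingleton (κb ⊗[D] (T ⧸ LinearMap.range ι)) := by
      have hex : Function.Exact (ι.lTensor κb) ((Submodule.mkQ _).lTensor κb) :=
        lTensor_exact κb (LinearMap.exact_map_mkQ_range ι) (Submodule.mkQ_surjective _)
      refine subsingleton_of_forall_eq 0 fun x => ?_
      obtain ⟨y, rfl⟩ := LinearMap.lTensor_surjective κb (Submodule.mkQ_surjective _) x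
      exact (hex y).2 (hrT y)
    have hN : Subsingleton (T ⧸ LinearMap.range ι) := by
      have h1 : Subsingleton (κb ⊗[κ] (κ ⊗[D] (T ⧸ LinearMap.range ι))) :=
        (TensorProduct.AlgebraTensorModule.cancelBaseChange D κ κb κb (T ⧸ LinearMap.range ι)).toEquiv.subsingleton
      haveI : Subsingleton (κ ⊗[D] (T ⧸ LinearMap.range ι)) := Module.FaithfullyFlat.lTensor_reflects_triviality κ κb _
      exact (IsLocalRing.subsingleton_tensorProduct (R := D) (M := T ⧸ LinearMap.range ι)).1 inferInstance
    exact LinearMap.range_eq_top.1 (Submodule.Quotient.subsingleton_iff.1 hN)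
  intro b
  obtain ⟨d, hd⟩ := hι (π b)
  exact ⟨d, congrArg Subtype.val hd⟩

/-- `Q`-th powers in a radicial Kummer algebra come from the base modulo `p`. -/
theorem exists_pow_mod {A'' A' : Type u} [CommRing A''] [CommRing A'] [Algebra A'' A'] (p k : ℕ) (hp : p.Prime)
    {r : ℕ} (t : Fin r → A') (hgen : Algebra.adjoin A'' (Set.range t) = ⊤)
    (ht : ∀ i, t i ^ p ^ k ∈ Set.range (algebraMap A'' A')) (z : A') :
    ∃ (c : A'') (w : A'), z ^ p ^ k = algebraMap A'' A' c + (p : A') * w := by
  have hz : z ∈ Algebra.adjoin A'' (Set.range t) := hgen ▸ Algebra.mem_top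
  induction hz using Algebra.adjoin_induction with
  | mem y hy =>
    obtain ⟨i, rfl⟩ := hy
    obtain ⟨c, hc⟩ := ht i
    exact ⟨c, 0, by rw [mul_zero, add_zero, hc]⟩
  | algebraMap a => exact ⟨a ^ p ^ k, 0, by rw [mul_zero, add_zero, map_pow]⟩
  | add x y _ _ hx hy =>
    obtain ⟨c, w, hc⟩ := hx
    obtain ⟨d, v, hd⟩ := hy
    obtain ⟨s, hs⟩ := exists_add_pow_prime_pow_eq hp x y k
    exact ⟨c + d, w + v + x * y * s, by rw [hs, hc, hd, map_add]; ring⟩
  | mul x y _ _ hx hy =>
    obtain ⟨c, w, hc⟩ := hx
    obtain ⟨d, v, hd⟩ := hy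
    exact ⟨c * d, algebraMap A'' A' c * v + w * (algebraMap A'' A' d) + (p : A') * w * v,
      by rw [mul_pow, hc, hd, map_mul]; ring⟩

end AbhyLib
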