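import Groth.Agent.AbhyLib.Kummer
import Groth.Agent.AbhyLib.Codim
import Groth.Agent.AbhyLib.Radicial
import Groth.Agent.PurityLib.Prep
import Groth.Agent.HensFormalLib.Apps
import Groth.Agent.HenselLib.Local

/-!
# Prime-to-`p` exponents: all embeddings over a strictly henselian base stay in the small Kummer field
-/

set_option autoImplicit false
set_option linter.style.haveILetI false
set_option maxHeartbeats 2000000
set_option synthInstance.maxHeartbeats 200000

universe u

open IsLocalRing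
open scoped TensorProduct

namespace AbhyLib

/-- The homomorphism out of a Kummer algebra given by roots. -/
noncomputable def kummerHom {A B : Type u} [CommRing A] [CommRing B] [Algebra A B] {r : ℕ} (f : Fin r → A)
    (n : Fin r → ℕ) (y : Fin r → B) (hy : ∀ i, y i ^ n i = algebraMap A B (f i)) : SGA1.kummerAlg A f n →ₐ[A] B :=
  Ideal.Quotient.liftₐ _ (MvPolynomial.aeval y) (fun x hx => by
    refine (show _ ≤ RingHom.ker (MvPolynomial.aeval (R := A) y) from Ideal.span_le.2 ?_) hx
    rintro _ ⟨i, rfl⟩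
    show MvPolynomial.aeval (R := A) y (MvPolynomial.X i ^ n i - MvPolynomial.C (f i)) = 0
    rw [map_sub, map_pow, MvPolynomial.aeval_X, MvPolynomial.aeval_C, hy, sub_self])

theorem kummerHom_root {A B : Type u} [CommRing A] [CommRing B] [Algebra A B] {r : ℕ} (f : Fin r → A)
    (n : Fin r → ℕ) (y : Fin r → B) (hy : ∀ i, y i ^ n i = algebraMap A B (f i)) (i : Fin r) :
    kummerHom f n y hy (root A f n i) = y i := by
  show MvPolynomial.aeval (R := A) y (MvPolynomial.X i) = y i
  rw [MvPolynomial.aeval_X]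

theorem Data.baseChange {A : Type u} [CommRing A] [IsRegularLocalRing A] {r : ℕ} {f : Fin r → A} (hd : Data A f)
    {R : Type u} [CommRing R] [IsRegularLocalRing R] [Algebra A R]
    (hmR : (maximalIdeal A).map (algebraMap A R) = maximalIdeal R)
    (hdim : (maximalIdeal R).spanFinrank = (maximalIdeal A).spanFinrank) :
    Data R (fun i => algebraMap A R (f i)) := by
  classical
  have hm : ∀ i, algebraMap A R (f i) ∈ maximalIdeal R := fun i => hmR ▸ Ideal.mem_map_of_mem _ (hd.hm i)
  refine ⟨hm, ?_⟩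
  let b := Module.Basis.sumExtend hd.hf
  haveI : Finite (Fin r ⊕ Module.Basis.sumExtendIndex hd.hf) := Module.Finite.finite_basis b
  haveI : Finite (Module.Basis.sumExtendIndex hd.hf) :=
    Finite.of_injective (β := Fin r ⊕ Module.Basis.sumExtendIndex hd.hf) Sum.inr Sum.inr_injective
  haveI := Fintype.ofFinite (Module.Basis.sumExtendIndex hd.hf)
  let g : Fin r ⊕ Module.Basis.sumExtendIndex hd.hf → maximalIdeal A :=
    Sum.elim (fun i => ⟨f i, hd.hm i⟩) (fun j => ((maximalIdeal A).toCotangent_surjective (b (Sum.inr j))).choose)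
  have hg : ∀ x, (maximalIdeal A).toCotangent (g x) = b x := fun x => by
    cases x with
    | inl i => exact (sumExtend_inl' hd.hf i).symm
    | inr j => exact ((maximalIdeal A).toCotangent_surjective (b (Sum.inr j))).choose_spec
  have hspanA : Submodule.span A (Set.range g) = ⊤ := by
    rw [← IsLocalRing.CotangentSpace.span_image_eq_top_iff, ← Set.range_comp]
    exact (congrArg _ (congrArg Set.range (funext hg))).trans b.span_eq
  have hgen : maximalIdeal A = Ideal.span (Set.range fun x => (g x : A)) := by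
    have h := congrArg (Submodule.map (maximalIdeal A).subtype) hspanA
    rw [Submodule.map_top, Submodule.range_subtype, Submodule.map_span, ← Set.range_comp] at h
    exact h.symm
  have hmem : ∀ x, algebraMap A R (g x) ∈ maximalIdeal R := fun x => hmR ▸ Ideal.mem_map_of_mem _ (g x).2
  let w : Fin r ⊕ Module.Basis.sumExtendIndex hd.hf → CotangentSpace R := fun x =>
    (maximalIdeal R).toCotangent ⟨_, hmem x⟩
  have hspan : ⊤ ≤ Submodule.span (ResidueField R) (Set.range w) := by
    rw [show Set.range w = (maximalIdeal R).toCotangent '' Set.range (fun x => (⟨_, hmem x⟩ : maximalIdeal R)) from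
      Set.range_comp _ _]
    refine (IsLocalRing.CotangentSpace.span_image_eq_top_iff.2 ?_).ge
    refine Submodule.map_injective_of_injective (f := (maximalIdeal R).subtype) Subtype.val_injective ?_
    rw [Submodule.map_top, Submodule.range_subtype, Submodule.map_span, ← Set.range_comp]
    have key : maximalIdeal R = Ideal.span (Set.range fun x => algebraMap A R (g x)) :=
      hmR.symm.trans ((congrArg (Ideal.map (algebraMap A R)) hgen).trans (by rw [Ideal.map_span, ← Set.range_comp]; rfl))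
    exact key.symm
  have hli : LinearIndependent (ResidueField R) w := by
    refine linearIndependent_of_top_le_span_of_card_eq_finrank hspan ?_
    show _ = Module.finrank (ResidueField R) (CotangentSpace R)
    rw [← IsLocalRing.spanFinrank_maximalIdeal_eq_finrank_cotangentSpace, hdim,
      IsLocalRing.spanFinrank_maximalIdeal_eq_finrank_cotangentSpace, ← Module.finrank_eq_card_basis b]
  exact hli.comp Sum.inl Sum.inl_injective

/-- The radicial descent at a prime containing `p`. -/
theorem range_of_radicial_point {R'' R' Ω : Type u} [CommRing R''] [CommRing R'] [Algebra R'' R']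
    [Algebra.IsIntegral R'' R'] [Field Ω] [Algebra R'' Ω] [Algebra R' Ω] [IsScalarTower R'' R' Ω]
    {D0 D : Type u} [CommRing D0] [CommRing D] [IsLocalRing D] [Algebra D0 D] [Algebra R'' D] (𝔮 : Ideal R'') [𝔮.IsPrime]
    [IsLocalization.AtPrime D 𝔮] [Algebra D Ω] [IsScalarTower R'' D Ω] [Algebra D0 Ω] [IsScalarTower D0 D Ω]
    {p k : ℕ} (hp : p.Prime) (hp𝔮 : (p : R'') ∈ 𝔮)
    (hpw : ∀ z : R', ∃ (c : R'') (w : R'), z ^ p ^ k = algebraMap R'' R' c + (p : R') * w)
    (Sf : Subfield Ω) (hD : ∀ d : D, algebraMap D Ω d ∈ Sf)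
    (hSf : ∀ y ∈ Sf, IsIntegral R' y → y ∈ Set.range (algebraMap R' Ω))
    (B0 : Type u) [CommRing B0] [Algebra D0 B0] [Module.Finite D0 B0] [Algebra.Etale D0 B0]
    (χ0 : B0 →ₐ[D0] Ω) (hχ0 : ∀ b, χ0 b ∈ Sf) : ∀ b, χ0 b ∈ Set.range (algebraMap D Ω) := by
  let χ : D ⊗[D0] B0 →ₐ[D] Ω := Algebra.TensorProduct.lift (Algebra.ofId D Ω) χ0 fun _ _ => Commute.all _ _
  have hpD : (p : D) ∈ maximalIdeal D := by
    rw [← map_natCast (algebraMap R'' D)]
    exact (IsLocalization.AtPrime.to_map_mem_maximal_iff D 𝔮 (p : R'')).2 hp𝔮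
  have hχSf : ∀ z, χ z ∈ Sf := fun z => by
    induction z using TensorProduct.induction_on with
    | zero => rw [map_zero]; exact zero_mem _
    | add y z hy hz => rw [map_add]; exact add_mem hy hz
    | tmul d b =>
      rw [show χ (d ⊗ₜ[D0] b) = algebraMap D Ω d * χ0 b from Algebra.TensorProduct.lift_tmul _ _ _ _ _]
      exact mul_mem (hD d) (hχ0 b)
  have hpow : ∀ z : D ⊗[D0] B0, ∃ (c : D) (w : Ω), IsIntegral D w ∧
      χ z ^ p ^ k = algebraMap D Ω c + (p : Ω) * w := fun z => by
    obtain ⟨s, hs⟩ := IsIntegral.exists_multiple_integral_of_isLocalization 𝔮.primeCompl (χ z)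
      ((Algebra.IsIntegral.isIntegral (R := D) z).map χ)
    have hsz : IsIntegral R' (algebraMap R'' Ω s * χ z) := by
      rw [← Algebra.smul_def]
      exact IsIntegral.tower_top (R := R'') hs
    obtain ⟨z', hz'⟩ := hSf _ (mul_mem (by rw [IsScalarTower.algebraMap_apply R'' D Ω]; exact hD _) (hχSf z)) hsz
    obtain ⟨c, w, hcw⟩ := hpw z'
    obtain ⟨u, hu'⟩ := IsLocalization.map_units D s
    refine ⟨((u⁻¹ : Dˣ) : D) ^ p ^ k * algebraMap R'' D c,
      algebraMap D Ω (((u⁻¹ : Dˣ) : D) ^ p ^ k) * algebraMap R' Ω w, isIntegral_algebraMap.mul ?_, ?_⟩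
    · exact (((Algebra.IsIntegral.isIntegral (R := R'') w).map (IsScalarTower.toAlgHom R'' R' Ω))).tower_top
    · have h1 : algebraMap D Ω (u : D) * χ z = algebraMap R' Ω z' := by
        rw [hz', hu', ← IsScalarTower.algebraMap_apply R'' D Ω]
      have h2 : χ z = algebraMap D Ω ((u⁻¹ : Dˣ) : D) * algebraMap R' Ω z' := by
        rw [← h1, ← mul_assoc, ← map_mul, Units.inv_mul, map_one, one_mul]
      rw [h2, mul_pow, ← map_pow (algebraMap R' Ω), hcw, map_add, map_mul, map_natCast, ← map_pow, map_mul,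
        ← IsScalarTower.algebraMap_apply R'' R' Ω, ← IsScalarTower.algebraMap_apply R'' D Ω]
      ring
  intro b
  obtain ⟨d, hd⟩ := range_le_of_radicial p k hp hpD χ hpow ((1 : D) ⊗ₜ[D0] b)
  refine ⟨d, hd.trans ?_⟩
  rw [show χ ((1 : D) ⊗ₜ[D0] b) = algebraMap D Ω 1 * χ0 b from Algebra.TensorProduct.lift_tmul _ _ _ _ _, map_one,
    one_mul]

/-- The same for an integral closure. -/
theorem range_of_radicial_closure {R'' R' Ω : Type u} [CommRing R''] [CommRing R'] [Algebra R'' R']
    [Algebra.IsIntegral R'' R'] [Field Ω] [Algebra R'' Ω] [Algebra R' Ω] [IsScalarTower R'' R' Ω]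
    {D0 D : Type u} [CommRing D0] [CommRing D] [IsLocalRing D] [Algebra D0 D] [Algebra R'' D] (𝔮 : Ideal R'') [𝔮.IsPrime]
    [IsLocalization.AtPrime D 𝔮] [Algebra D Ω] [IsScalarTower R'' D Ω] [Algebra D0 Ω] [IsScalarTower D0 D Ω]
    {p k : ℕ} (hp : p.Prime) (hp𝔮 : (p : R'') ∈ 𝔮)
    (hpw : ∀ z : R', ∃ (c : R'') (w : R'), z ^ p ^ k = algebraMap R'' R' c + (p : R') * w)
    (Sf : Subfield Ω) (hD : ∀ d : D, algebraMap D Ω d ∈ Sf)
    (hSf : ∀ y ∈ Sf, IsIntegral R' y → y ∈ Set.range (algebraMap R' Ω))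
    [IsDomain D0] {K L : Type u} [Field K] [Algebra D0 K] [IsFractionRing D0 K] [Field L] [Algebra D0 L] [Algebra K L]
    [IsScalarTower D0 K L] [Algebra.IsIntegral K L] (hfin : Module.Finite D0 (integralClosure D0 L))
    (het : Algebra.Etale D0 (integralClosure D0 L)) (φ : L →ₐ[D0] Ω) (hφ : ∀ x, φ x ∈ Sf) :
    ∀ x : L, φ x ∈ Subfield.closure (Set.range (algebraMap D Ω)) := by
  haveI := hfin
  haveI := het
  have key := range_of_radicial_point 𝔮 hp hp𝔮 hpw Sf hD hSf (integralClosure D0 L)
    (φ.comp (integralClosure D0 L).val) fun b => hφ b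
  intro x
  obtain ⟨s, hs⟩ := IsIntegral.exists_multiple_integral_of_isLocalization (Rₘ := K) (nonZeroDivisors D0) x
    (Algebra.IsIntegral.isIntegral x)
  have hs0 : φ (algebraMap D0 L s) ≠ 0 := by
    rw [Ne, map_eq_zero φ, ← Ne, IsScalarTower.algebraMap_apply D0 K L,
      map_ne_zero_iff _ (algebraMap K L).injective, map_ne_zero_iff _ (IsFractionRing.injective D0 K)]
    exact nonZeroDivisors.ne_zero s.2
  have h1 : φ ((s : D0) • x) ∈ Subfield.closure (Set.range (algebraMap D Ω)) :=
    Subfield.subset_closure (key ⟨_, hs⟩)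
  have h2 : φ (algebraMap D0 L s) ∈ Subfield.closure (Set.range (algebraMap D Ω)) := by
    rw [AlgHom.commutes, IsScalarTower.algebraMap_apply D0 D Ω]
    exact Subfield.subset_closure ⟨_, rfl⟩
  rw [Algebra.smul_def, map_mul] at h1
  have h4 := div_mem h1 h2
  rwa [mul_div_cancel_left₀ _ hs0] at h4

variable {A : Type u} [CommRing A] [IsRegularLocalRing A] [IsDomain A] {r : ℕ} {f : Fin r → A}

/-- Out of a finite étale algebra over a strictly henselian local domain every point is rational. -/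
theorem mem_range_of_split {R' : Type u} [CommRing R'] [IsDomain R'] [HenselianLocalRing R']
    [IsSepClosed (ResidueField R')] {Ω : Type u} [Field Ω] (T : Type u) [CommRing T] [Algebra R' T]
    [Module.Finite R' T] [Algebra.Etale R' T] [Algebra R' Ω] (σ : T →ₐ[R'] Ω) (t : T) :
    σ t ∈ Set.range (algebraMap R' Ω) := by
  classical
  obtain ⟨I, hI, Ψ, hΨ⟩ := PurityLib.exists_split R' T
  let eΨ := AlgEquiv.ofBijective Ψ hΨ
  let τ : (I → R') →ₐ[R'] Ω := σ.comp eΨ.symm.toAlgHom
  obtain ⟨i₀, hi₀⟩ : ∃ i₀, τ (Pi.single i₀ 1) ≠ 0 := by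
    by_contra h
    push Not at h
    have h1 : τ 1 = 0 := by
      rw [show (1 : I → R') = ∑ i, Pi.single i 1 from (Finset.univ_sum_single _).symm, map_sum]
      exact Finset.sum_eq_zero fun i _ => h i
    rw [map_one] at h1
    exact one_ne_zero h1
  have hv : τ (eΨ t) = σ t := by
    show σ (eΨ.symm (eΨ t)) = σ t
    rw [AlgEquiv.symm_apply_apply]
  have h1 : τ (eΨ t) * τ (Pi.single i₀ 1) = algebraMap R' Ω (eΨ t i₀) * τ (Pi.single i₀ 1) := by
    rw [← map_mul, show eΨ t * Pi.single i₀ 1 = eΨ t i₀ • Pi.single i₀ (1 : R') by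
      funext l; by_cases hl : l = i₀ <;> simp [hl], map_smul, Algebra.smul_def]
  rw [← hv, mul_right_cancel₀ hi₀ h1]
  exact ⟨_, rfl⟩

set_option maxHeartbeats 4000000 in
/-- **Radicial descent of embeddings.** -/
theorem embedding_range (hd : Data A f) {p k : ℕ} (hp : p.Prime) {N m : Fin r → ℕ}
    (hN : ∀ i, 1 ≤ N i) (hm : ∀ i, 1 ≤ m i) (a : Fin r → ℕ) (hNm : ∀ i, N i = m i * a i)
    (ha : ∀ i, a i ∣ p ^ k) {E : Type u} [CommRing E] [Algebra A E]
    (B : Type u) [CommRing B] [Algebra (SGA1.kummerAlg A f N) B] [Module.Finite (SGA1.kummerAlg A f N) B]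
    [Algebra.Etale (SGA1.kummerAlg A f N) B]
    (hB : ∀ (Ω : Type u) [Field Ω] (j : SGA1.kummerAlg A f N →+* Ω) (h : E →+* Ω),
      h.comp (algebraMap A E) = j.comp (algebraMap A _) → j (algebraMap A _ (∏ i, f i)) ≠ 0 →
      ∃ χ : B →+* Ω, χ.comp (algebraMap (SGA1.kummerAlg A f N) B) = j ∧ Set.range h ⊆ Subfield.closure (Set.range χ))
    {R : Type u} [CommRing R] [IsRegularLocalRing R] [IsDomain R] [Algebra A R] [HenselianLocalRing R]
    [IsSepClosed (ResidueField R)] (hdR : Data R (fun i => algebraMap A R (f i)))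
    (hinjR : Function.Injective (algebraMap A R))
    (𝔮 : Ideal (SGA1.kummerAlg R (fun i => algebraMap A R (f i)) m)) [𝔮.IsPrime]
    (hp𝔮 : (p : SGA1.kummerAlg R (fun i => algebraMap A R (f i)) m) ∈ 𝔮)
    {K'' L'' : Type u} [Field K''] [Algebra (SGA1.kummerAlg A f m) K''] [IsFractionRing (SGA1.kummerAlg A f m) K'']
    [Field L''] [Algebra K'' L''] [Algebra A L''] [Algebra A K''] [IsScalarTower A K'' L'']
    [Algebra (SGA1.kummerAlg A f m) L''] [IsScalarTower (SGA1.kummerAlg A f m) K'' L'']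
    [IsScalarTower A (SGA1.kummerAlg A f m) K''] [FiniteDimensional K'' L''] [Algebra.IsSeparable K'' L'']
    (ψ : E →ₐ[A] L'') (hgen : IntermediateField.adjoin K'' (Set.range ψ) = ⊤)
    (hB0 : ∀ (q0 : Ideal (SGA1.kummerAlg A f m)) [q0.IsPrime],
      (∀ i, root A f m i ∈ q0 → root R (fun i => algebraMap A R (f i)) m i ∈ 𝔮) →
      ∀ [Algebra (Localization.AtPrime q0) L'']
        [IsScalarTower (SGA1.kummerAlg A f m) (Localization.AtPrime q0) L''],
        UnrCodimOne (Localization.AtPrime q0) L'')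
    {F : Type u} [Field F] [Algebra (SGA1.kummerAlg R (fun i => algebraMap A R (f i)) m) F]
    [IsFractionRing (SGA1.kummerAlg R (fun i => algebraMap A R (f i)) m) F]
    (ιK : K'' →+* F)
    (hιK : ∀ i, ιK (algebraMap _ K'' (root A f m i)) =
      algebraMap _ F (root R (fun i => algebraMap A R (f i)) m i))
    (hιA : ∀ x : A, ιK (algebraMap A K'' x) = algebraMap (SGA1.kummerAlg R (fun i => algebraMap A R (f i)) m) F
      (algebraMap R _ (algebraMap A R x)))
    {Ω₀ : Type u} [Field Ω₀] (j₀ : F →+* Ω₀) (φ₀ : L'' →+* Ω₀)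
    (hφ₀ : φ₀.comp (algebraMap K'' L'') = j₀.comp ιK) : ∀ x : L'', φ₀ x ∈ j₀.fieldRange := by
  classical
  let A' := SGA1.kummerAlg A f N
  let A'' := SGA1.kummerAlg A f m
  let fR : Fin r → R := fun i => algebraMap A R (f i)
  let R'' := SGA1.kummerAlg R fR m
  let R' := SGA1.kummerAlg R fR N
  obtain ⟨hregA'', hfinA'', hinjA'', -⟩ := kummer_facts A r f hd.hm hd.hf m hm
  obtain ⟨hregR'', hfinR'', hinjR'', -⟩ := kummer_facts R r fR hdR.hm hdR.hf m hm
  obtain ⟨hregR', hfinR', hinjR', -⟩ := kummer_facts R r fR hdR.hm hdR.hf N hN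
  haveI := hregA''; haveI := hregR''; haveI := hregR'
  haveI := hfinR''; haveI := hfinR'
  haveI := CommAlgDim.isDomain_of_isRegularLocalRing A''
  haveI := CommAlgDim.isDomain_of_isRegularLocalRing R''
  haveI := CommAlgDim.isDomain_of_isRegularLocalRing R'
  haveI : IsIntegrallyClosed R' := NormalLib.isIntegrallyClosed_of_isRegularLocalRing R'
  haveI : Algebra.IsIntegral R R' := Algebra.IsIntegral.of_finite R R'
  obtain ⟨hhens, hloc⟩ := HensFormalLib.henselian_of_integral_domain R R'
  haveI := hhens; haveI := hloc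
  haveI := (HensFormalLib.sepClosed_residue R R').1
  -- the maps between the Kummer algebras
  let ιR : R'' →ₐ[R] R' := kummerHom fR m (fun i => root R fR N i ^ a i) (fun i => by
    rw [← pow_mul, mul_comm, ← hNm, root_pow])
  let θ' : A' →ₐ[A] R' := kummerHom f N (fun i => root R fR N i) (fun i => by
    rw [root_pow, IsScalarTower.algebraMap_apply A R R'])
  let θ'' : A'' →ₐ[A] R'' := kummerHom f m (fun i => root R fR m i) (fun i => by
    rw [root_pow, IsScalarTower.algebraMap_apply A R R''])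
  letI : Algebra R'' R' := ιR.toRingHom.toAlgebra
  haveI : IsScalarTower R R'' R' := IsScalarTower.of_algebraMap_eq fun x => (ιR.commutes x).symm
  haveI : Algebra.IsIntegral R'' R' := Algebra.IsIntegral.tower_top R
  have hinjι : Function.Injective (algebraMap R'' R') := by
    rw [RingHom.injective_iff_ker_eq_bot]
    refine Ideal.eq_bot_of_comap_eq_bot (R := R) ?_
    rw [RingHom.comap_ker, ← IsScalarTower.algebraMap_eq, ← RingHom.injective_iff_ker_eq_bot]
    exact hinjR'
  haveI : FaithfulSMul R'' R' := (faithfulSMul_iff_algebraMap_injective _ _).2 hinjι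
  haveI : IsScalarTower R'' R'' R' :=
    ⟨fun x y z => by rw [Algebra.smul_def, Algebra.smul_def, Algebra.smul_def, smul_eq_mul, map_mul, mul_assoc]⟩
  -- the big field
  let Ω := AlgebraicClosure Ω₀
  let F' := FractionRing R'
  have hinjF' : Function.Injective (algebraMap R'' F') := by
    rw [IsScalarTower.algebraMap_eq R'' R' F']
    exact (IsFractionRing.injective R' F').comp hinjι
  letI : Algebra F F' := (IsFractionRing.lift hinjF').toAlgebra
  haveI : IsScalarTower R'' F F' := IsScalarTower.of_algebraMap_eq fun x => (IsFractionRing.lift_algebraMap hinjF' x).symm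
  haveI : Algebra.IsAlgebraic F F' := by
    refine ⟨fun z => ?_⟩
    obtain ⟨x, y, -, rfl⟩ := IsFractionRing.div_surjective R' z
    have h : ∀ w : R', IsIntegral F (algebraMap R' F' w) := fun w =>
      (((Algebra.IsIntegral.isIntegral (R := R'') w).map (IsScalarTower.toAlgHom R'' R' F'))).tower_top
    exact ((h x).isAlgebraic.mul (h y).isAlgebraic.inv)
  letI : Algebra F Ω := ((algebraMap Ω₀ Ω).comp j₀).toAlgebra
  let J : F' →ₐ[F] Ω := IsAlgClosed.lift
  let jR' : R' →+* Ω := (J : F' →+* Ω).comp (algebraMap R' F')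
  let φ : L'' →+* Ω := (algebraMap Ω₀ Ω).comp φ₀
  let Sf : Subfield Ω := (J : F' →+* Ω).fieldRange
  have hφK : ∀ x : K'', φ (algebraMap K'' L'' x) = algebraMap F Ω (ιK x) := fun x =>
    congrArg (algebraMap Ω₀ Ω) (DFunLike.congr_fun hφ₀ x)
  have hjR'' : ∀ x : R'', jR' (algebraMap R'' R' x) = algebraMap F Ω (algebraMap R'' F x) := fun x => by
    show J (algebraMap R' F' (algebraMap R'' R' x)) = _
    rw [← IsScalarTower.algebraMap_apply R'' R' F', IsScalarTower.algebraMap_apply R'' F F', AlgHom.commutes]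
  have hθ''K : ∀ x : A'', ιK (algebraMap A'' K'' x) = algebraMap R'' F (θ'' x) := fun x => by
    have hx : x ∈ Algebra.adjoin A (Set.range (root A f m)) := adjoin_root A f m ▸ Algebra.mem_top
    induction hx using Algebra.adjoin_induction with
    | mem y hy =>
      obtain ⟨i, rfl⟩ := hy
      rw [hιK i, show θ'' (root A f m i) = root R fR m i from kummerHom_root _ _ _ _ i]
    | algebraMap c =>
      rw [← IsScalarTower.algebraMap_apply A A'' K'', hιA, AlgHom.commutes, IsScalarTower.algebraMap_apply A R R'']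
    | add y z _ _ hy hz => simp only [map_add, hy, hz]
    | mul y z _ _ hy hz => simp only [map_mul, hy, hz]
  -- Step 1: the image of the cover is in the big Kummer field
  have hhom : (φ.comp (ψ : E →+* L'')).comp (algebraMap A E) = (jR'.comp (θ' : A' →+* R')).comp (algebraMap A A') := by
    ext x
    show φ (ψ (algebraMap A E x)) = jR' (θ' (algebraMap A A' x))
    rw [AlgHom.commutes, AlgHom.commutes, IsScalarTower.algebraMap_apply A K'' L'', hφK, hιA,
      IsScalarTower.algebraMap_apply A R R', IsScalarTower.algebraMap_apply R R'' R', hjR'']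
  have hjinj : Function.Injective jR' := (J : F' →+* Ω).injective.comp (IsFractionRing.injective R' F')
  have hFne : (jR'.comp (θ' : A' →+* R')) (algebraMap A A' (∏ i, f i)) ≠ 0 := by
    show jR' (θ' (algebraMap A A' (∏ i, f i))) ≠ 0
    rw [AlgHom.commutes, map_ne_zero_iff _ hjinj, IsScalarTower.algebraMap_apply A R R', map_ne_zero_iff _ hinjR',
      map_ne_zero_iff _ hinjR]
    exact Finset.prod_ne_zero_iff.2 fun i _ => (kummer_ne_zero hd.hm hd.hf i).1
  obtain ⟨χB, hχB, hrange⟩ := hB Ω (jR'.comp (θ' : A' →+* R')) (φ.comp (ψ : E →+* L'')) hhom hFne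
  have hχB' : ∀ b : B, χB b ∈ Sf := fun b => by
    letI : Algebra A' R' := θ'.toRingHom.toAlgebra
    letI : Algebra A' Ω := (jR'.comp (θ' : A' →+* R')).toAlgebra
    letI : Algebra R' Ω := jR'.toAlgebra
    haveI : IsScalarTower A' R' Ω := IsScalarTower.of_algebraMap_eq fun _ => rfl
    let χA : B →ₐ[A'] Ω := { χB with commutes' := DFunLike.congr_fun hχB }
    let σ : R' ⊗[A'] B →ₐ[R'] Ω := Algebra.TensorProduct.lift (Algebra.ofId R' Ω) χA fun _ _ => Commute.all _ _
    obtain ⟨z, hz⟩ := mem_range_of_split (R' ⊗[A'] B) σ ((1 : R') ⊗ₜ[A'] b)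
    refine ⟨algebraMap R' F' z, hz.trans ?_⟩
    rw [show σ ((1 : R') ⊗ₜ[A'] b) = algebraMap R' Ω 1 * χB b from Algebra.TensorProduct.lift_tmul _ _ _ _ _, map_one,
      one_mul]
  have hψSf : ∀ e : E, φ (ψ e) ∈ Sf := fun e =>
    (Subfield.closure_le.2 (by rintro _ ⟨b, rfl⟩; exact hχB' b)) (hrange ⟨e, rfl⟩)
  have hFSf : ∀ x : F, algebraMap F Ω x ∈ Sf := fun x => ⟨algebraMap F F' x, J.commutes x⟩
  have hφSf : ∀ x : L'', φ x ∈ Sf := fun x => by
    have hx : x ∈ IntermediateField.adjoin K'' (Set.range ψ) := hgen ▸ trivial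
    induction hx using IntermediateField.adjoin_induction with
    | mem y hy => obtain ⟨e, rfl⟩ := hy; exact hψSf e
    | algebraMap y => rw [hφK]; exact hFSf _
    | add y z _ _ hy hz => rw [map_add]; exact add_mem hy hz
    | inv y _ hy => rw [map_inv₀]; exact inv_mem hy
    | mul y z _ _ hy hz => rw [map_mul]; exact mul_mem hy hz
  -- Step 2: radicial descent at `𝔮`
  let q0 : Ideal A'' := 𝔮.comap (θ'' : A'' →+* R'')
  let D0 := Localization.AtPrime q0
  let D := Localization.AtPrime 𝔮
  haveI : IsRegularLocalRing D0 := CommAlgDim.isRegularLocalRing_localization A'' q0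
  haveI : IsDomain D0 := IsLocalization.isDomain_localization q0.primeCompl_le_nonZeroDivisors
  have hu0 : ∀ s : q0.primeCompl, IsUnit (algebraMap A'' K'' s) := fun s =>
    Ne.isUnit ((map_ne_zero_iff _ (IsFractionRing.injective A'' K'')).2 fun h => s.2 (h ▸ q0.zero_mem))
  letI : Algebra D0 K'' := (IsLocalization.lift (M := q0.primeCompl) hu0).toAlgebra
  haveI : IsScalarTower A'' D0 K'' := IsScalarTower.of_algebraMap_eq fun x => (IsLocalization.lift_eq hu0 x).symm
  haveI : IsFractionRing D0 K'' := IsFractionRing.isFractionRing_of_isLocalization q0.primeCompl D0 K'' q0.primeCompl_le_nonZeroDivisors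
  letI : Algebra D0 L'' := ((algebraMap K'' L'').comp (algebraMap D0 K'')).toAlgebra
  haveI : IsScalarTower D0 K'' L'' := IsScalarTower.of_algebraMap_eq fun _ => rfl
  haveI : IsScalarTower A'' D0 L'' := IsScalarTower.of_algebraMap_eq (R := A'') (S := D0) (A := L'') fun x => by
    show _ = algebraMap K'' L'' (algebraMap D0 K'' (algebraMap A'' D0 x))
    rw [← IsScalarTower.algebraMap_apply A'' D0 K'', ← IsScalarTower.algebraMap_apply A'' K'' L'']
  obtain ⟨hfin0, het0⟩ := etale_of_regularLocal D0 K'' L'' (hB0 q0 fun i hi => by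
    rw [← show θ'' (root A f m i) = root R fR m i from kummerHom_root _ _ _ _ i]
    exact hi)
  have hu : ∀ s : 𝔮.primeCompl, IsUnit (algebraMap R'' F s) := fun s =>
    Ne.isUnit ((map_ne_zero_iff _ (IsFractionRing.injective R'' F)).2 fun h => s.2 (h ▸ 𝔮.zero_mem))
  let jD : D →+* Ω := (algebraMap F Ω).comp (IsLocalization.lift (M := 𝔮.primeCompl) hu)
  letI : Algebra D Ω := jD.toAlgebra
  let θD : D0 →+* D := Localization.localRingHom q0 𝔮 (θ'' : A'' →+* R'') rfl
  letI : Algebra D0 D := θD.toAlgebra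
  letI : Algebra D0 Ω := (jD.comp θD).toAlgebra
  haveI : IsScalarTower D0 D Ω := IsScalarTower.of_algebraMap_eq fun _ => rfl
  have hD0 : ∀ x : D0, φ (algebraMap D0 L'' x) = jD (θD x) := DFunLike.congr_fun
    (IsLocalization.ringHom_ext q0.primeCompl (j := φ.comp (algebraMap D0 L'')) (k := jD.comp θD) (RingHom.ext fun x => by
      show φ (algebraMap K'' L'' (algebraMap D0 K'' (algebraMap A'' D0 x))) =
        algebraMap F Ω (IsLocalization.lift hu (θD (algebraMap A'' D0 x)))
      rw [← IsScalarTower.algebraMap_apply A'' D0 K'', hφK, hθ''K]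
      congr 1
      rw [show θD (algebraMap A'' D0 x) = algebraMap R'' D (θ'' x) from Localization.localRingHom_to_map _ _ _ rfl x,
        IsLocalization.lift_eq]))
  let φD : L'' →ₐ[D0] Ω := { φ with commutes' := fun x => hD0 x }
  letI : Algebra R'' Ω := (jD.comp (algebraMap R'' D)).toAlgebra
  haveI : IsScalarTower R'' D Ω := IsScalarTower.of_algebraMap_eq (R := R'') (S := D) (A := Ω) fun _ => rfl
  letI : Algebra R' Ω := jR'.toAlgebra
  have hjD : ∀ x : R'', jD (algebraMap R'' D x) = algebraMap F Ω (algebraMap R'' F x) := fun x =>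
    congrArg (algebraMap F Ω) (IsLocalization.lift_eq hu x)
  haveI : IsScalarTower R'' R' Ω := IsScalarTower.of_algebraMap_eq fun x => by
    show jD (algebraMap R'' D x) = jR' (algebraMap R'' R' x)
    rw [hjR'', hjD]
  have hpw : ∀ z : R', ∃ (c : R'') (w : R'), z ^ p ^ k = algebraMap R'' R' c + (p : R') * w :=
    exists_pow_mod (A'' := R'') p k hp (fun i => root R fR N i)
      (top_unique fun x _ => by
        have hx : x ∈ Algebra.adjoin R (Set.range (root R fR N)) := adjoin_root R fR N ▸ Algebra.mem_top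
        exact (Algebra.adjoin_le (S := (Algebra.adjoin R'' (Set.range (root R fR N))).restrictScalars R)
          Algebra.subset_adjoin) hx)
      (fun i => by
        obtain ⟨d, hd'⟩ := ha i
        refine ⟨root R fR m i ^ d, ?_⟩
        rw [map_pow, show algebraMap R'' R' (root R fR m i) = root R fR N i ^ a i from kummerHom_root _ _ _ _ i,
          ← pow_mul, ← hd'])
  have hcore := range_of_radicial_closure (R'' := R'') (R' := R') (Ω := Ω) (D0 := D0) (D := D) 𝔮 hp hp𝔮 hpw Sf
    (fun d => hFSf _)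
    (fun y hy hint => by
      obtain ⟨y, rfl⟩ := hy
      let J' : F' →ₐ[R'] Ω := { (J : F' →+* Ω) with commutes' := fun _ => rfl }
      obtain ⟨z', hz'⟩ := IsIntegrallyClosed.isIntegral_iff.1
        ((isIntegral_algHom_iff J' (J : F' →+* Ω).injective).1 hint)
      exact ⟨z', by rw [← hz']; rfl⟩)
    (K := K'') hfin0 het0 φD hφSf
  intro x
  have h1 : φ x ∈ ((algebraMap Ω₀ Ω).comp j₀).fieldRange :=
    (Subfield.closure_le.2 (by rintro _ ⟨d, rfl⟩; exact ⟨IsLocalization.lift hu d, rfl⟩)) (hcore x)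
  obtain ⟨y, hy⟩ := h1
  exact ⟨y, (algebraMap Ω₀ Ω).injective hy⟩

end AbhyLib
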