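import Groth.Agent.SHDescLib.Conj
import Groth.Agent.EtRamTameLib.Main
import Mathlib.FieldTheory.IsSepClosed
import Mathlib.FieldTheory.IsAlgClosed.AlgebraicClosure

/-!
# Unramifiedness detected by embeddings into a weakly unramified extension
-/

set_option autoImplicit false
set_option linter.style.haveILetI false
set_option maxHeartbeats 1000000
set_option synthInstance.maxHeartbeats 100000

universe u

open IsLocalRing

namespace AbhyLib

/-- If every embedding of `L` lands in the fraction field of a DVR extension in which a uniformiser stays a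
uniformiser, then `L` has ramification index one. -/
theorem weaklyUnramified_of_embeddings {D K L R F : Type u} [CommRing D] [IsDomain D] [IsDiscreteValuationRing D]
    [Field K] [Algebra D K] [IsFractionRing D K] [Field L] [Algebra K L] [FiniteDimensional K L]
    [Algebra.IsSeparable K L] [CommRing R] [IsDomain R] [IsDiscreteValuationRing R] [Field F] [Algebra R F]
    [IsFractionRing R F] [Algebra D R] [IsLocalHom (algebraMap D R)] [Algebra K F]
    (hDR : ∀ d : D, algebraMap K F (algebraMap D K d) = algebraMap R F (algebraMap D R d))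
    {π : D} (hπ : Irreducible π) (hπR : Irreducible (algebraMap D R π))
    (hemb : ∀ (Ω : Type u) [Field Ω] (j : F →+* Ω) (φ : L →+* Ω),
      φ.comp (algebraMap K L) = j.comp (algebraMap K F) → ∀ x : L, φ x ∈ j.fieldRange)
    (V : ValuationSubring L) (hV : EtRam.Dominates D ((algebraMap K L).comp (algebraMap D K)) V) :
    letI : Algebra D V := (RingHom.codRestrict ((algebraMap K L).comp (algebraMap D K)) V hV.1).toAlgebra
    EtRam.IsWeaklyUnramified D V := by
  classical
  letI : Algebra D V := (RingHom.codRestrict ((algebraMap K L).comp (algebraMap D K)) V hV.1).toAlgebra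
  haveI hlV : IsLocalHom (algebraMap D V) := EtRamTameLib.isLocalHom_of_dominates V hV
  haveI := EtRamTameLib.isDVR (A := D) (K := K) V hV
  let Ω := AlgebraicClosure F
  let Ω₂ := SeparableClosure K
  let j₂ : Ω₂ →ₐ[K] Ω := IsAlgClosed.lift
  let ι : L →ₐ[K] Ω₂ := IsSepClosed.lift
  letI : Algebra D Ω₂ := ((algebraMap K Ω₂).comp (algebraMap D K)).toAlgebra
  haveI : IsScalarTower D K Ω₂ := IsScalarTower.of_algebraMap_eq fun _ => rfl
  -- valuations
  obtain ⟨U, hU1, hU2⟩ := IsLocalRing.exists_factor_valuationRing ((algebraMap F Ω).comp (algebraMap R F))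
  obtain ⟨W₂, hW₂1, hW₂2⟩ := IsLocalRing.exists_factor_valuationRing ((ι : L →+* Ω₂).comp V.subtype)
  haveI := hU2
  haveI := hW₂2
  let W₁ := U.comap (j₂ : Ω₂ →+* Ω)
  have hj₂ : ∀ d : D, j₂ (algebraMap D Ω₂ d) = algebraMap F Ω (algebraMap R F (algebraMap D R d)) := fun d => by
    show j₂ (algebraMap K Ω₂ (algebraMap D K d)) = _
    rw [AlgHom.commutes, IsScalarTower.algebraMap_apply K F Ω]
    exact congrArg (algebraMap F Ω) (hDR d)
  have hW₁ : EtRam.Dominates D (algebraMap D Ω₂) W₁ := by
    refine ⟨fun d => ?_, fun d hd => ?_⟩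
    · show j₂ _ ∈ U
      rw [hj₂]; exact hU1 _
    · refine (SHDescLib.valuation_comap_lt_one_iff U (j₂ : Ω₂ →+* Ω) _).2 ?_
      show U.valuation (j₂ _) < 1
      rw [hj₂]
      refine (U.valuation_lt_one_iff ⟨_, hU1 (algebraMap D R d)⟩).1 fun h => hd ?_
      exact isUnit_of_map_unit (algebraMap D R) d
        (isUnit_of_map_unit (((algebraMap F Ω).comp (algebraMap R F)).codRestrict U.toSubring hU1) _ h)
  have hW₂ : EtRam.Dominates D (algebraMap D Ω₂) W₂ := by
    have h : ∀ d : D, algebraMap D Ω₂ d = ι (algebraMap D V d : V) := fun d => (ι.commutes (algebraMap D K d)).symm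
    refine ⟨fun d => by rw [h]; exact hW₂1 (algebraMap D V d), fun d hd => ?_⟩
    rw [h]
    refine (W₂.valuation_lt_one_iff ⟨_, hW₂1 (algebraMap D V d)⟩).1 fun hu => hd ?_
    exact isUnit_of_map_unit (algebraMap D V) d
      (isUnit_of_map_unit (((ι : L →+* Ω₂).comp V.subtype).codRestrict W₂.toSubring hW₂1) _ hu)
  obtain ⟨σ, hσ⟩ := SHDescLib.exists_conj (B := D) (L := K) hW₂ hW₁
  let φ : L →+* Ω := (j₂ : Ω₂ →+* Ω).comp ((σ.toAlgHom : Ω₂ →+* Ω₂).comp (ι : L →+* Ω₂))
  have hφ : ∀ x : L, x ∈ V → φ x ∈ U := fun x hx => by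
    have h2 : ι x ∈ W₁.comap σ.toAlgHom.toRingHom := by rw [hσ]; exact hW₂1 ⟨x, hx⟩
    exact h2
  have hφlt : ∀ x : V, ¬ IsUnit x → U.valuation (φ x) < 1 := fun x hx => by
    have h1 : W₂.valuation (ι (x : L)) < 1 := (W₂.valuation_lt_one_iff ⟨_, hW₂1 x⟩).1 fun hu =>
      hx (isUnit_of_map_unit (((ι : L →+* Ω₂).comp V.subtype).codRestrict W₂.toSubring hW₂1) x hu)
    rw [← hσ] at h1
    exact (SHDescLib.valuation_comap_lt_one_iff U (j₂ : Ω₂ →+* Ω) _).1
      ((SHDescLib.valuation_comap_lt_one_iff W₁ σ.toAlgHom.toRingHom _).1 h1)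
  have hrange := hemb Ω (algebraMap F Ω) φ (RingHom.ext fun k => by
    show j₂ (σ (ι (algebraMap K L k))) = algebraMap F Ω (algebraMap K F k)
    rw [AlgHom.commutes, AlgEquiv.commutes, AlgHom.commutes, IsScalarTower.algebraMap_apply K F Ω])
  -- compare at a uniformiser
  obtain ⟨ϖ, hϖ⟩ := IsDiscreteValuationRing.exists_irreducible V
  obtain ⟨e, v, he, hv, hidx⟩ := EtRamTameLib.exists_idx (A := D) (V := V)
    (fun a b h => IsFractionRing.injective D K ((algebraMap K L).injective (congrArg Subtype.val h))) hπ hϖ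
  have hV1 : e = 1 := by
    obtain ⟨y, hy⟩ := hrange (ϖ : L)
    have hmem : ∀ z : F, algebraMap F Ω z ∈ U → ∃ r : R, algebraMap R F r = z := fun z hz => by
      rcases ValuationRing.isInteger_or_isInteger R z with hr | ⟨r, hr⟩
      · exact hr
      · by_cases hz0 : z = 0
        · exact ⟨0, by rw [hz0, map_zero]⟩
        by_cases hru : IsUnit r
        · exact ⟨((hru.unit⁻¹ : Rˣ) : R), by rw [map_units_inv, IsUnit.unit_spec, hr, inv_inv]⟩
        · exfalso
          have h1 := (U.valuation_lt_one_iff ⟨_, hU1 r⟩).1 fun hu =>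
            hru (isUnit_of_map_unit (((algebraMap F Ω).comp (algebraMap R F)).codRestrict U.toSubring hU1) r hu)
          change U.valuation (algebraMap F Ω (algebraMap R F r)) < 1 at h1
          rw [hr, map_inv₀, map_inv₀] at h1
          exact not_le.2 h1 ((one_le_inv₀ (zero_lt_iff.2 ((_root_.map_ne_zero _).2 ((_root_.map_ne_zero _).2 hz0)))).2
            ((U.valuation_le_one_iff _).2 hz))
    obtain ⟨r, hr⟩ := hmem y (by rw [hy]; exact hφ _ ϖ.2)
    obtain ⟨y', hy'⟩ := hrange ((v : V) : L)
    obtain ⟨r', hr'⟩ := hmem y' (by rw [hy']; exact hφ _ (v : V).2)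
    have hrn : ¬ IsUnit r := fun hu => by
      have h1 := hφlt ϖ hϖ.not_isUnit
      rw [← hy, ← hr] at h1
      exact h1.ne ((U.valuation_eq_one_iff ⟨_, hU1 r⟩).1
        (hu.map (((algebraMap F Ω).comp (algebraMap R F)).codRestrict U.toSubring hU1)))
    have heq : algebraMap D R π = r' * r ^ e := by
      refine IsFractionRing.injective R F ((algebraMap F Ω).injective ?_)
      rw [map_mul, map_mul, map_pow, map_pow, hr, hr', hy, hy', ← map_pow, ← map_mul, ← hj₂]
      show j₂ (algebraMap K Ω₂ (algebraMap D K π)) = φ _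
      have h1 : algebraMap K L (algebraMap D K π) = ((v : V) : L) * (ϖ : L) ^ e := by
        exact congrArg Subtype.val hv
      rw [← h1]
      show _ = j₂ (σ (ι (algebraMap K L (algebraMap D K π))))
      rw [AlgHom.commutes ι, AlgEquiv.commutes]
    by_contra hne
    obtain ⟨d, rfl⟩ : ∃ d, e = d + 2 := ⟨e - 2, by omega⟩
    rcases hπR.isUnit_or_isUnit (show algebraMap D R π = r * (r' * r ^ (d + 1)) by rw [heq]; ring) with h | h
    · exact hrn h
    · rw [IsUnit.mul_iff, isUnit_pow_iff (by omega)] at h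
      exact hrn h.2
  exact (EtRamTameLib.basic V hV).2.2 (hidx.trans hV1)

end AbhyLib
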