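import Groth.Agent.AbhyLib.SmallExp
import Groth.Agent.AbhyLib.Normalization

/-!
# The absolute Abhyankar lemma, in algebraic form
-/

set_option autoImplicit false
set_option linter.style.haveILetI false
set_option maxHeartbeats 2000000
set_option synthInstance.maxHeartbeats 200000

universe u

open IsLocalRing
open scoped TensorProduct

namespace AbhyLib

variable {A : Type u} [CommRing A] [IsRegularLocalRing A] [IsDomain A] {r : ℕ} {f : Fin r → A}

/-- The map `A[1/F] → A'[1/F]`. -/
noncomputable abbrev kummerAway (f : Fin r → A) (n : Fin r → ℕ) :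
    Localization.Away (∏ i, f i) →+* Localization.Away (algebraMap A (SGA1.kummerAlg A f n) (∏ i, f i)) :=
  Localization.awayMap (algebraMap A (SGA1.kummerAlg A f n)) (∏ i, f i)

/-- Moving a scalar across a tensor product. -/
theorem one_tmul_algebraMap {R S T : Type u} [CommRing R] [CommRing S] [CommRing T] [Algebra R S] [Algebra R T] (x : R) :
    (1 : S) ⊗ₜ[R] algebraMap R T x = algebraMap S (S ⊗[R] T) (algebraMap R S x) := by
  rw [Algebra.algebraMap_eq_smul_one (A := T), ← TensorProduct.smul_tmul, Algebra.algebraMap_eq_smul_one (A := S)]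
  rfl

omit [IsRegularLocalRing A] [IsDomain A] in
theorem kummerAway_algebraMap (n : Fin r → ℕ) (a : A) :
    kummerAway f n (algebraMap A _ a) =
      algebraMap (SGA1.kummerAlg A f n) (Localization.Away (algebraMap A (SGA1.kummerAlg A f n) (∏ i, f i)))
        (algebraMap A (SGA1.kummerAlg A f n) a) :=
  IsLocalization.map_eq _ a

set_option maxHeartbeats 4000000 in
/-- A cover unramified in codimension one after pull back extends. -/
theorem cover_extension (hd : Data A f) [∀ i, (Ideal.span {f i}).IsPrime] {n : Fin r → ℕ} (hn : ∀ i, 1 ≤ n i)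
    [Algebra (Localization.Away (∏ i, f i)) (Localization.Away (algebraMap A (SGA1.kummerAlg A f n) (∏ i, f i)))]
    (hmap : algebraMap (Localization.Away (∏ i, f i))
      (Localization.Away (algebraMap A (SGA1.kummerAlg A f n) (∏ i, f i))) = kummerAway f n)
    {E : Type u} [CommRing E] [Algebra A E] [Algebra (Localization.Away (∏ i, f i)) E]
    [IsScalarTower A (Localization.Away (∏ i, f i)) E] [Module.Finite (Localization.Away (∏ i, f i)) E]
    [Algebra.Etale (Localization.Away (∏ i, f i)) E]
    (K₀ : Type u) [Field K₀] [Algebra (SGA1.kummerAlg A f n) K₀] [IsFractionRing (SGA1.kummerAlg A f n) K₀]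
    [Algebra A K₀] [IsScalarTower A (SGA1.kummerAlg A f n) K₀]
    (hunr : ∀ (L : Type u) [Field L] [Algebra K₀ L] [Algebra A L] [Algebra (SGA1.kummerAlg A f n) L]
      [IsScalarTower (SGA1.kummerAlg A f n) K₀ L] [IsScalarTower A (SGA1.kummerAlg A f n) L]
      [FiniteDimensional K₀ L] [Algebra.IsSeparable K₀ L]
      (ψ : E →ₐ[A] L), IntermediateField.adjoin K₀ (Set.range ψ) = ⊤ → UnrCodimOne (SGA1.kummerAlg A f n) L) :
    ∃ (B : Type u) (_ : CommRing B) (_ : Algebra (SGA1.kummerAlg A f n) B),
      Module.Finite (SGA1.kummerAlg A f n) B ∧ Algebra.Etale (SGA1.kummerAlg A f n) B ∧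
      Nonempty (Localization.Away (algebraMap A (SGA1.kummerAlg A f n) (∏ i, f i)) ⊗[SGA1.kummerAlg A f n] B
        ≃ₐ[Localization.Away (algebraMap A (SGA1.kummerAlg A f n) (∏ i, f i))]
          Localization.Away (algebraMap A (SGA1.kummerAlg A f n) (∏ i, f i)) ⊗[Localization.Away (∏ i, f i)] E) := by
  obtain ⟨hreg, -, hinj, -⟩ := kummer_facts A r f hd.hm hd.hf n hn
  haveI := hreg
  haveI := CommAlgDim.isDomain_of_isRegularLocalRing (SGA1.kummerAlg A f n)
  haveI : IsIntegrallyClosed (SGA1.kummerAlg A f n) := NormalLib.isIntegrallyClosed_of_isRegularLocalRing _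
  let A' := SGA1.kummerAlg A f n
  let G := algebraMap A A' (∏ i, f i)
  let S := Localization.Away G
  have hG : G ≠ 0 := (map_ne_zero_iff _ hinj).2 (Finset.prod_ne_zero_iff.2 fun i _ => hd.ne_zero i)
  have hM : Submonoid.powers G ≤ nonZeroDivisors A' := powers_le_nonZeroDivisors_of_noZeroDivisors hG
  have hu : ∀ y : Submonoid.powers G, IsUnit (algebraMap A' K₀ y) := fun y =>
    Ne.isUnit ((map_ne_zero_iff _ (IsFractionRing.injective A' K₀)).2 (nonZeroDivisors.ne_zero (hM y.2)))
  letI : Algebra S K₀ := (IsLocalization.lift (M := Submonoid.powers G) hu).toAlgebra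
  haveI : IsScalarTower A' S K₀ := IsScalarTower.of_algebraMap_eq fun x => (IsLocalization.lift_eq hu x).symm
  refine exists_extension A' (fun p _ => CommAlgDim.isRegularLocalRing_localization A' p) G hG S K₀
    (S ⊗[Localization.Away (∏ i, f i)] E) ?_
  intro L _ _ _ _ _ _ _ _ _ ψ hgen
  letI : Algebra A L := ((algebraMap A' L).comp (algebraMap A A')).toAlgebra
  haveI : IsScalarTower A A' L := IsScalarTower.of_algebraMap_eq (R := A) (S := A') (A := L) fun _ => rfl
  have hψE : ∀ a : A, ψ (1 ⊗ₜ algebraMap A E a) = algebraMap A L a := fun a => by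
    have h1 : (1 : S) ⊗ₜ[Localization.Away (∏ i, f i)] algebraMap A E a =
        algebraMap S (S ⊗[Localization.Away (∏ i, f i)] E) (algebraMap A' S (algebraMap A A' a)) := by
      rw [IsScalarTower.algebraMap_apply A (Localization.Away (∏ i, f i)) E, one_tmul_algebraMap]
      exact congrArg _ ((DFunLike.congr_fun hmap _).trans (kummerAway_algebraMap n a))
    refine (congrArg ψ h1).trans ((AlgHom.commutes ψ _).trans ?_)
    rw [← IsScalarTower.algebraMap_apply A' S L]
    rfl
  let ψE : E →ₐ[A] L :=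
    { (ψ : S ⊗[Localization.Away (∏ i, f i)] E →+* L).comp
        (Algebra.TensorProduct.includeRight : E →ₐ[Localization.Away (∏ i, f i)] S ⊗[Localization.Away (∏ i, f i)] E).toRingHom with
      commutes' := hψE }
  refine hunr L ψE (top_unique ?_)
  rw [← hgen, IntermediateField.adjoin_le_iff]
  rintro _ ⟨z, rfl⟩
  induction z using TensorProduct.induction_on with
  | zero => rw [map_zero]; exact zero_mem _
  | add y z hy hz => rw [map_add]; exact add_mem hy hz
  | tmul s e =>
    rw [show s ⊗ₜ[Localization.Away (∏ i, f i)] e = s • ((1 : S) ⊗ₜ[Localization.Away (∏ i, f i)] e) by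
      rw [TensorProduct.smul_tmul', smul_eq_mul, mul_one], map_smul, Algebra.smul_def,
      IsScalarTower.algebraMap_apply S K₀ L]
    exact mul_mem (IntermediateField.algebraMap_mem _ _) (IntermediateField.subset_adjoin _ _ ⟨e, rfl⟩)

/-- Points of the pulled back cover factor through the extension. -/
theorem points_factor {n : Fin r → ℕ}
    [Algebra (Localization.Away (∏ i, f i)) (Localization.Away (algebraMap A (SGA1.kummerAlg A f n) (∏ i, f i)))]
    (hmap : algebraMap (Localization.Away (∏ i, f i))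
      (Localization.Away (algebraMap A (SGA1.kummerAlg A f n) (∏ i, f i))) = kummerAway f n)
    {E : Type u} [CommRing E] [Algebra A E] [Algebra (Localization.Away (∏ i, f i)) E]
    [IsScalarTower A (Localization.Away (∏ i, f i)) E]
    {B : Type u} [CommRing B] [Algebra (SGA1.kummerAlg A f n) B]
    (e : Localization.Away (algebraMap A (SGA1.kummerAlg A f n) (∏ i, f i)) ⊗[SGA1.kummerAlg A f n] B
      ≃ₐ[Localization.Away (algebraMap A (SGA1.kummerAlg A f n) (∏ i, f i))]
        Localization.Away (algebraMap A (SGA1.kummerAlg A f n) (∏ i, f i)) ⊗[Localization.Away (∏ i, f i)] E)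
    (Ω : Type u) [Field Ω] (j : SGA1.kummerAlg A f n →+* Ω) (h : E →+* Ω)
    (hh : h.comp (algebraMap A E) = j.comp (algebraMap A _)) (hj : j (algebraMap A _ (∏ i, f i)) ≠ 0) :
    ∃ χ : B →+* Ω, χ.comp (algebraMap (SGA1.kummerAlg A f n) B) = j ∧ Set.range h ⊆ Subfield.closure (Set.range χ) := by
  let A' := SGA1.kummerAlg A f n
  let G := algebraMap A A' (∏ i, f i)
  let S := Localization.Away G
  let AF := Localization.Away (∏ i, f i)
  have hu : IsUnit (j G) := Ne.isUnit hj
  let jS : S →+* Ω := IsLocalization.Away.lift G hu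
  have hjS : ∀ x : A', jS (algebraMap A' S x) = j x := fun x => IsLocalization.Away.lift_eq G hu x
  have hAF : ∀ x : AF, h (algebraMap AF E x) = jS (algebraMap AF S x) := DFunLike.congr_fun
    (IsLocalization.ringHom_ext (Submonoid.powers (∏ i, f i)) (j := h.comp (algebraMap AF E))
      (k := jS.comp (algebraMap AF S)) (RingHom.ext fun a => by
        show h (algebraMap AF E (algebraMap A AF a)) = jS (algebraMap AF S (algebraMap A AF a))
        rw [← IsScalarTower.algebraMap_apply A AF E, hmap, kummerAway_algebraMap, hjS]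
        exact DFunLike.congr_fun hh a))
  letI : Algebra S Ω := jS.toAlgebra
  letI : Algebra AF Ω := (jS.comp (algebraMap AF S)).toAlgebra
  haveI : IsScalarTower AF S Ω := IsScalarTower.of_algebraMap_eq fun _ => rfl
  let hA : E →ₐ[AF] Ω := { h with commutes' := hAF }
  let σ : S ⊗[AF] E →ₐ[S] Ω := Algebra.TensorProduct.lift (Algebra.ofId S Ω) hA fun _ _ => Commute.all _ _
  let σB : S ⊗[A'] B →ₐ[S] Ω := σ.comp e.toAlgHom
  let χ : B →+* Ω := (σB : S ⊗[A'] B →+* Ω).comp
    (Algebra.TensorProduct.includeRight : B →ₐ[A'] S ⊗[A'] B).toRingHom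
  have hχ : χ.comp (algebraMap A' B) = j := RingHom.ext fun x => by
    show σB ((1 : S) ⊗ₜ[A'] algebraMap A' B x) = j x
    rw [one_tmul_algebraMap, AlgHom.commutes]
    exact hjS x
  refine ⟨χ, hχ, ?_⟩
  have hj' : ∀ x : A', j x ∈ Subfield.closure (Set.range χ) := fun x => by
    rw [← hχ]; exact Subfield.subset_closure ⟨_, rfl⟩
  have key : ∀ z, σB z ∈ Subfield.closure (Set.range χ) := fun z => by
    induction z using TensorProduct.induction_on with
    | zero => rw [map_zero]; exact zero_mem _
    | add y z hy hz => rw [map_add]; exact add_mem hy hz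
    | tmul s b =>
      rw [show s ⊗ₜ[A'] b = s • ((1 : S) ⊗ₜ[A'] b) by rw [TensorProduct.smul_tmul', smul_eq_mul, mul_one], map_smul,
        Algebra.smul_def]
      refine mul_mem ?_ (Subfield.subset_closure ⟨b, rfl⟩)
      show jS s ∈ _
      obtain ⟨x, ⟨_, k, rfl⟩, rfl⟩ := IsLocalization.exists_mk'_eq (Submonoid.powers G) s
      have h1 := congrArg jS (IsLocalization.mk'_spec S x (⟨G ^ k, k, rfl⟩ : Submonoid.powers G))
      rw [map_mul, hjS, hjS] at h1
      rw [eq_div_iff (by rw [map_pow]; exact pow_ne_zero k hj) |>.2 h1]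
      exact div_mem (hj' x) (hj' _)
  rintro _ ⟨x, rfl⟩
  have h1 := key (e.symm ((1 : S) ⊗ₜ[AF] x))
  have h2 : σB (e.symm ((1 : S) ⊗ₜ[AF] x)) = h x := by
    show σ (e (e.symm ((1 : S) ⊗ₜ[AF] x))) = h x
    rw [AlgEquiv.apply_symm_apply, show σ ((1 : S) ⊗ₜ[AF] x) = algebraMap S Ω 1 * h x from
      Algebra.TensorProduct.lift_tmul _ _ _ _ _, map_one, one_mul]
  rwa [h2] at h1

/-- A common multiple of the tame indices of bounded size. -/
theorem exists_tame_multiple (κ : Type u) [Field κ] (d : ℕ) :
    ∃ N : ℕ, 1 ≤ N ∧ (N : κ) ≠ 0 ∧ ∀ e : ℕ, e ≤ d → (e : κ) ≠ 0 → e ∣ N := by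
  classical
  refine ⟨∏ e ∈ (Finset.range (d + 1)).filter (fun e : ℕ => (e : κ) ≠ 0), e, ?_, ?_, fun e he hne =>
    Finset.dvd_prod_of_mem _ (Finset.mem_filter.2 ⟨Finset.mem_range.2 (Nat.lt_succ_of_le he), hne⟩)⟩
  · refine Finset.one_le_prod' fun e he => Nat.one_le_iff_ne_zero.2 fun h => ?_
    exact (Finset.mem_filter.1 he).2 (by rw [h, Nat.cast_zero])
  · rw [Nat.cast_prod]
    exact Finset.prod_ne_zero_iff.2 fun e he => (Finset.mem_filter.1 he).2

set_option maxHeartbeats 4000000 in
/-- **Absolute Abhyankar lemma**, algebraic form. -/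
theorem exists_exponents (hd : Data A f) [∀ i, (Ideal.span {f i}).IsPrime]
    {E : Type u} [CommRing E] [Algebra A E] [Algebra (Localization.Away (∏ i, f i)) E]
    [IsScalarTower A (Localization.Away (∏ i, f i)) E] [Module.Finite (Localization.Away (∏ i, f i)) E]
    [Algebra.Etale (Localization.Away (∏ i, f i)) E] (htame : SGA1.IsTameAlong f (algebraMap A E)) :
    ∃ n : Fin r → ℕ, (∀ i, 1 ≤ n i) ∧ (∀ i, IsUnit ((n i : ℕ) : ResidueField A)) ∧
      ∃ (B : Type u) (_ : CommRing B) (_ : Algebra (SGA1.kummerAlg A f n) B),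
        Module.Finite (SGA1.kummerAlg A f n) B ∧ Algebra.Etale (SGA1.kummerAlg A f n) B ∧
        (letI : Algebra (Localization.Away (∏ i, f i))
          (Localization.Away (algebraMap A (SGA1.kummerAlg A f n) (∏ i, f i))) := (kummerAway f n).toAlgebra
        Nonempty (Localization.Away (algebraMap A (SGA1.kummerAlg A f n) (∏ i, f i)) ⊗[SGA1.kummerAlg A f n] B
          ≃ₐ[Localization.Away (algebraMap A (SGA1.kummerAlg A f n) (∏ i, f i))]
            Localization.Away (algebraMap A (SGA1.kummerAlg A f n) (∏ i, f i)) ⊗[Localization.Away (∏ i, f i)] E)) := by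
  classical
  have hF0 : (∏ i, f i) ≠ 0 := Finset.prod_ne_zero_iff.2 fun i _ => hd.ne_zero i
  obtain ⟨sE, hsE⟩ := exists_spanning hF0 (Localization.Away (∏ i, f i)) E
  choose N hN hNκ hNdvd using fun i =>
    exists_tame_multiple (ResidueField (Localization.AtPrime (Ideal.span {f i}))) sE.card
  let p := ringChar (ResidueField A)
  let m : Fin r → ℕ := fun i => ordCompl[p] (N i)
  let a : Fin r → ℕ := fun i => ordProj[p] (N i)
  let k : ℕ := ∑ i, (N i).factorization p
  have hm : ∀ i, 1 ≤ m i := fun i => Nat.ordCompl_pos p (by have := hN i; omega)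
  have hNm : ∀ i, N i = m i * a i := fun i => by
    rw [mul_comm]; exact (Nat.ordProj_mul_ordCompl_eq_self (N i) p).symm
  have ha : ∀ i, a i ∣ p ^ k := fun i =>
    pow_dvd_pow p (Finset.single_le_sum (f := fun i => (N i).factorization p) (fun j _ => Nat.zero_le _) (Finset.mem_univ i))
  have hmκ : ∀ i, IsUnit ((m i : ℕ) : ResidueField A) := fun i => Ne.isUnit fun h0 => by
    have hdvd : p ∣ m i := (ringChar.spec _ _).1 h0
    rcases CharP.char_is_prime_or_zero (ResidueField A) p with hp | hp
    · exact Nat.not_dvd_ordCompl hp (by have := hN i; omega) hdvd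
    · rw [hp, zero_dvd_iff] at hdvd
      have := hm i; omega
  have hmu : ∀ i, IsUnit ((m i : ℕ) : A) := fun i =>
    isUnit_of_map_unit (residue A) _ (by rw [map_natCast]; exact hmκ i)
  have hchg : ∀ i, (p : A) ∈ Ideal.span {f i} → a i = 1 := fun i hi => by
    show p ^ (N i).factorization p = 1
    rw [Nat.factorization_eq_zero_of_not_dvd, pow_zero]
    rintro ⟨c, hc⟩
    refine hNκ i ?_
    rw [hc, Nat.cast_mul, ← map_natCast (residue (Localization.AtPrime (Ideal.span {f i}))),
      ← map_natCast (algebraMap A (Localization.AtPrime (Ideal.span {f i}))), (residue_eq_zero_iff _).2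
      ((IsLocalization.AtPrime.to_map_mem_maximal_iff _ (Ideal.span {f i}) (p : A)).2 hi), zero_mul]
  obtain ⟨hregm, -, hinjm, -⟩ := kummer_facts A r f hd.hm hd.hf m hm
  haveI := hregm
  haveI := CommAlgDim.isDomain_of_isRegularLocalRing (SGA1.kummerAlg A f m)
  refine ⟨m, hm, hmκ, ?_⟩
  letI : Algebra (Localization.Away (∏ i, f i))
      (Localization.Away (algebraMap A (SGA1.kummerAlg A f m) (∏ i, f i))) := (kummerAway f m).toAlgebra
  refine cover_extension hd hm rfl (FractionRing (SGA1.kummerAlg A f m)) ?_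
  intro L _ _ _ _ _ _ _ _ ψ hgen
  haveI : IsScalarTower A (FractionRing (SGA1.kummerAlg A f m)) L := IsScalarTower.of_algebraMap_eq fun x => by
    rw [IsScalarTower.algebraMap_apply A (SGA1.kummerAlg A f m) L,
      IsScalarTower.algebraMap_apply (SGA1.kummerAlg A f m) (FractionRing (SGA1.kummerAlg A f m)) L,
      ← IsScalarTower.algebraMap_apply A (SGA1.kummerAlg A f m) (FractionRing (SGA1.kummerAlg A f m))]
  by_cases hall : ∀ i, a i = 1
  · intro q _ hq g hg
    refine unr_at_prime (AF := Localization.Away (∏ i, f i)) hd hm htame sE hsE ψ hgen q hq (fun i _ e he hne => ?_) g hg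
    have h := hNdvd i e he hne
    rwa [hNm, hall i, mul_one] at h
  push Not at hall
  obtain ⟨i₀, hi₀⟩ := hall
  have hp : p.Prime := (CharP.char_is_prime_or_zero (ResidueField A) p).resolve_right fun hp => hi₀ (by
    show p ^ (N i₀).factorization p = 1
    rw [hp, Nat.factorization_eq_zero_of_not_prime _ Nat.not_prime_zero, pow_zero])
  have hpm : (p : A) ∈ maximalIdeal A :=
    (residue_eq_zero_iff (R := A) _).1 (by rw [map_natCast]; exact CharP.cast_eq_zero _ p)
  have hp0 : (p : A) ≠ 0 := fun h0 => hi₀ (hchg i₀ (by rw [h0]; exact zero_mem _))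
  obtain ⟨hregN, -, hinjN, -⟩ := kummer_facts A r f hd.hm hd.hf N hN
  haveI := hregN
  haveI := CommAlgDim.isDomain_of_isRegularLocalRing (SGA1.kummerAlg A f N)
  letI : Algebra (Localization.Away (∏ i, f i))
      (Localization.Away (algebraMap A (SGA1.kummerAlg A f N) (∏ i, f i))) := (kummerAway f N).toAlgebra
  obtain ⟨B, _, _, hBfin, hBet, ⟨e⟩⟩ := cover_extension hd hN rfl (FractionRing (SGA1.kummerAlg A f N)) (E := E)
    fun L' _ _ _ _ _ _ _ _ ψ' hgen' q _ hq g hg =>
      unr_at_prime (AF := Localization.Away (∏ i, f i)) hd hN htame sE hsE ψ' hgen' q hq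
        (fun i _ => hNdvd i) g hg
  haveI := hBfin
  haveI := hBet
  exact unrCodimOne_small (AF := Localization.Away (∏ i, f i)) hd htame sE hsE hp hpm hp0 hN hm hmu a hNm ha hNdvd hchg B
    (fun Ω _ j h hh hj => points_factor rfl e Ω j h hh hj) ψ hgen

end AbhyLib
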