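import Groth.Agent.AbhyLib.Codim
import Mathlib.FieldTheory.SeparableClosure
import Mathlib.RingTheory.Ideal.KrullsHeightTheorem

/-!
# The function field of a Kummer algebra, and unramifiedness at a single prime
-/

set_option autoImplicit false
set_option linter.style.haveILetI false
set_option maxHeartbeats 2000000
set_option synthInstance.maxHeartbeats 200000

universe u

open IsLocalRing
open scoped TensorProduct

namespace AbhyLib

/-- The localisation of a regular local ring at a prime of height one is a DVR. -/
theorem dvr_of_height_one (R : Type u) [CommRing R] [IsRegularLocalRing R] [IsDomain R] (q : Ideal R) [q.IsPrime]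
    (hq : q.height = 1) : IsDiscreteValuationRing (Localization.AtPrime q) := by
  let D := Localization.AtPrime q
  haveI : IsRegularLocalRing D := CommAlgDim.isRegularLocalRing_localization R q
  haveI : IsDomain D := IsLocalization.isDomain_localization q.primeCompl_le_nonZeroDivisors
  haveI : IsIntegrallyClosed D := NormalLib.isIntegrallyClosed_of_isRegularLocalRing D
  have hdim : (maximalIdeal D).height = 1 := by
    rw [← hq, ← IsLocalization.height_under q.primeCompl, Localization.AtPrime.comap_maximalIdeal]
  have hm0 : maximalIdeal D ≠ ⊥ := fun h => by rw [h, Ideal.height_bot] at hdim; exact zero_ne_one hdim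
  have hnf : ¬ IsField D := fun h => hm0 ((IsLocalRing.isField_iff_maximalIdeal_eq).1 h)
  have h4 : IsIntegrallyClosed D ∧ ∃! P : Ideal D, P ≠ ⊥ ∧ P.IsPrime :=
    ⟨inferInstance, maximalIdeal D, ⟨hm0, inferInstance⟩, fun P ⟨hP0, hP⟩ => by
      rcases (IsLocalRing.le_maximalIdeal hP.ne_top).eq_or_lt with h | h
      · exact h
      · have hlt := Ideal.height_strict_mono_of_isPrime h
        rw [hdim, ENat.lt_one_iff_eq_zero, Ideal.height_eq_zero_iff, IsDomain.minimalPrimes_eq_singleton_bot,
          Set.mem_singleton_iff] at hlt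
        exact absurd hlt hP0⟩
  exact ((IsDiscreteValuationRing.TFAE D hnf).out 3 0).1 h4

variable {A : Type u} [CommRing A] [IsRegularLocalRing A] [IsDomain A] {r : ℕ} {f : Fin r → A}

/-- The roots of a Kummer algebra form part of a regular system of parameters. -/
theorem Data.kummer (hd : Data A f) {n : Fin r → ℕ} (hn : ∀ i, 1 ≤ n i)
    [IsLocalRing (SGA1.kummerAlg A f n)] : Data (SGA1.kummerAlg A f n) (root A f n) := by
  obtain ⟨_, -, -, -, -, hT, hli⟩ := kummer_facts A r f hd.hm hd.hf n hn
  exact ⟨hT, hli⟩

/-- A product of powers lies in a prime ideal with some factor. -/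
theorem notMem_of_forall_root (f : Fin r → A) (n : Fin r → ℕ) (q : Ideal (SGA1.kummerAlg A f n)) [hq : q.IsPrime]
    (h : ∀ i, root A f n i ∉ q) : algebraMap A (SGA1.kummerAlg A f n) (∏ i, f i) ∉ q := fun hF => by
  rw [map_prod] at hF
  obtain ⟨i, -, hi⟩ := (Ideal.IsPrime.prod_mem_iff (hp := hq)).1 hF
  rw [← root_pow] at hi
  exact h i (hq.mem_of_pow_mem _ hi)

variable {K K' : Type u} [Field K] [Algebra A K] [IsFractionRing A K] [Field K'] [Algebra A K'] [Algebra K K']
  [IsScalarTower A K K'] {n : Fin r → ℕ} [Algebra (SGA1.kummerAlg A f n) K']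
  [IsFractionRing (SGA1.kummerAlg A f n) K'] [IsScalarTower A (SGA1.kummerAlg A f n) K']

omit [IsRegularLocalRing A] [IsDomain A] [IsFractionRing A K] in
/-- The function field is generated by the roots. -/
theorem adjoin_roots_eq_top :
    IntermediateField.adjoin K (Set.range fun i => algebraMap (SGA1.kummerAlg A f n) K' (root A f n i)) = ⊤ := by
  refine eq_top_iff.2 fun x _ => ?_
  obtain ⟨a, b, -, rfl⟩ := IsFractionRing.div_surjective (SGA1.kummerAlg A f n) x
  have h : ∀ y : SGA1.kummerAlg A f n, algebraMap (SGA1.kummerAlg A f n) K' y ∈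
      IntermediateField.adjoin K (Set.range fun i => algebraMap (SGA1.kummerAlg A f n) K' (root A f n i)) := fun y => by
    have hy : y ∈ Algebra.adjoin A (Set.range (root A f n)) := adjoin_root A f n ▸ Algebra.mem_top
    induction hy using Algebra.adjoin_induction with
    | mem z hz =>
      obtain ⟨i, rfl⟩ := hz
      exact IntermediateField.subset_adjoin _ _ ⟨i, rfl⟩
    | algebraMap c =>
      rw [← IsScalarTower.algebraMap_apply A (SGA1.kummerAlg A f n) K', IsScalarTower.algebraMap_apply A K K']
      exact IntermediateField.algebraMap_mem _ _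
    | add z w _ _ hz hw => rw [map_add]; exact add_mem hz hw
    | mul z w _ _ hz hw => rw [map_mul]; exact mul_mem hz hw
  exact div_mem (h a) (h b)

omit [IsRegularLocalRing A] [IsDomain A] [IsFractionRing A K] in
theorem root_pow_map (i : Fin r) :
    algebraMap (SGA1.kummerAlg A f n) K' (root A f n i) ^ n i = algebraMap K K' (algebraMap A K (f i)) := by
  rw [← map_pow, root_pow, ← IsScalarTower.algebraMap_apply A (SGA1.kummerAlg A f n) K',
    ← IsScalarTower.algebraMap_apply A K K']

include f in
omit [IsRegularLocalRing A] [IsDomain A] [IsFractionRing A K] in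
/-- The function field is finite over the base field. -/
theorem finiteDimensional_field (hn : ∀ i, 1 ≤ n i) : FiniteDimensional K K' := by
  have h : FiniteDimensional K
      (IntermediateField.adjoin K (Set.range fun i => algebraMap (SGA1.kummerAlg A f n) K' (root A f n i))) :=
    IntermediateField.finiteDimensional_adjoin (by
      rintro _ ⟨i, rfl⟩
      refine IsIntegral.of_pow (hn i) ?_
      rw [root_pow_map (K := K)]
      exact isIntegral_algebraMap)
  rw [adjoin_roots_eq_top] at h
  exact LinearEquiv.finiteDimensional (IntermediateField.topEquiv (F := K) (E := K')).toLinearEquiv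

omit [IsRegularLocalRing A] [IsDomain A] in
/-- The function field is separable when the exponents are nonzero in the base field. -/
theorem isSeparable_field (hf0 : ∀ i, f i ≠ 0) (hn : ∀ i, ((n i : ℕ) : K) ≠ 0) : Algebra.IsSeparable K K' := by
  have h : Algebra.IsSeparable K
      (IntermediateField.adjoin K (Set.range fun i => algebraMap (SGA1.kummerAlg A f n) K' (root A f n i))) := by
    refine (IntermediateField.isSeparable_adjoin_iff_isSeparable K K').2 ?_
    rintro _ ⟨i, rfl⟩
    refine (Polynomial.separable_X_pow_sub_C (algebraMap A K (f i)) (hn i)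
      ((map_ne_zero_iff _ (IsFractionRing.injective A K)).2 (hf0 i))).of_dvd (minpoly.dvd K _ ?_)
    rw [map_sub, map_pow, Polynomial.aeval_X, Polynomial.aeval_C, root_pow_map (K := K), sub_self]
  rw [adjoin_roots_eq_top] at h
  exact Algebra.IsSeparable.of_algHom K _ (IntermediateField.topEquiv (F := K) (E := K')).symm.toAlgHom

/-- A finite set of a finite algebra over `A[1/F]` spanning up to denominators. -/
theorem exists_spanning {A : Type u} [CommRing A] [IsDomain A] {F : A} (hF : F ≠ 0) (AF E : Type u) [CommRing AF]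
    [CommRing E] [Algebra A AF] [IsLocalization.Away F AF] [Algebra A E] [Algebra AF E] [IsScalarTower A AF E]
    [Module.Finite AF E] :
    ∃ s : Finset E, ∀ e : E, ∃ a : A, a ≠ 0 ∧ a • e ∈ Submodule.span A (s : Set E) := by
  obtain ⟨s, hs⟩ := (Module.Finite.fg_top (R := AF) (M := E))
  refine ⟨s, fun e => ?_⟩
  obtain ⟨⟨t, k, rfl⟩, ht⟩ := multiple_mem_span_of_mem_localization_span (R := A) (Submonoid.powers F) AF (s : Set E) e
    (hs ▸ Submodule.mem_top)
  exact ⟨F ^ k, pow_ne_zero k hF, ht⟩

/-- Unramifiedness of a tame cover pulled back to a Kummer algebra, at a prime of height one all of whose roots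
have exponents absorbing the ramification. -/
theorem unr_at_prime [∀ i, (Ideal.span {f i}).IsPrime] (hd : Data A f) (hn : ∀ i, 1 ≤ n i)
    {AF E : Type u} [CommRing AF] [CommRing E] [Algebra A AF] [IsLocalization.Away (∏ i, f i) AF] [Algebra A E]
    [Algebra AF E] [IsScalarTower A AF E] [Module.Finite AF E] [Algebra.Etale AF E]
    (htame : SGA1.IsTameAlong f (algebraMap A E)) (sE : Finset E)
    (hsE : ∀ e : E, ∃ a : A, a ≠ 0 ∧ a • e ∈ Submodule.span A (sE : Set E))
    {K₀ L' : Type u} [Field K₀] [Algebra (SGA1.kummerAlg A f n) K₀] [IsFractionRing (SGA1.kummerAlg A f n) K₀]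
    [Algebra A K₀] [IsScalarTower A (SGA1.kummerAlg A f n) K₀]
    [Field L'] [Algebra A L'] [Algebra K₀ L'] [Algebra (SGA1.kummerAlg A f n) L']
    [IsScalarTower (SGA1.kummerAlg A f n) K₀ L'] [IsScalarTower A (SGA1.kummerAlg A f n) L']
    [FiniteDimensional K₀ L'] (ψ : E →ₐ[A] L') (hgen : IntermediateField.adjoin K₀ (Set.range ψ) = ⊤)
    (q : Ideal (SGA1.kummerAlg A f n)) [q.IsPrime] (hq : q.height = 1)
    (hdiv : ∀ i, root A f n i ∈ q →
      ∀ e : ℕ, e ≤ sE.card → (e : ResidueField (Localization.AtPrime (Ideal.span {f i}))) ≠ 0 → e ∣ n i)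
    (g : Localization.AtPrime q →+* L') (hg : g.comp (algebraMap (SGA1.kummerAlg A f n) _) = algebraMap _ L') :
    EtRam.IsUnramifiedExt (Localization.AtPrime q) g := by
  obtain ⟨hreg, -, hinj, -⟩ := kummer_facts A r f hd.hm hd.hf n hn
  haveI := hreg
  haveI := CommAlgDim.isDomain_of_isRegularLocalRing (SGA1.kummerAlg A f n)
  haveI : IsScalarTower A K₀ L' := IsScalarTower.of_algebraMap_eq fun a => by
    rw [IsScalarTower.algebraMap_apply A (SGA1.kummerAlg A f n) L',
      IsScalarTower.algebraMap_apply (SGA1.kummerAlg A f n) K₀ L',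
      ← IsScalarTower.algebraMap_apply A (SGA1.kummerAlg A f n) K₀]
  have hgK : g.comp (algebraMap (SGA1.kummerAlg A f n) _) = (algebraMap K₀ L').comp (algebraMap _ K₀) :=
    hg.trans (IsScalarTower.algebraMap_eq _ K₀ L')
  by_cases h : ∃ i, root A f n i ∈ q
  · obtain ⟨i, hi⟩ := h
    have heq := eq_span_root hd hn q hq hi
    subst heq
    have hinjK : Function.Injective (algebraMap A K₀) := by
      rw [IsScalarTower.algebraMap_eq A (SGA1.kummerAlg A f n) K₀]
      exact (IsFractionRing.injective _ K₀).comp hinj
    letI : Algebra (FractionRing A) K₀ := (IsFractionRing.lift hinjK).toAlgebra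
    haveI : IsScalarTower A (FractionRing A) K₀ :=
      IsScalarTower.of_algebraMap_eq fun a => (IsFractionRing.lift_algebraMap hinjK a).symm
    letI : Algebra (FractionRing A) L' := ((algebraMap K₀ L').comp (algebraMap (FractionRing A) K₀)).toAlgebra
    haveI : IsScalarTower (FractionRing A) K₀ L' := IsScalarTower.of_algebraMap_eq fun _ => rfl
    haveI : IsScalarTower A (FractionRing A) L' := IsScalarTower.of_algebraMap_eq fun a => by
      show algebraMap A L' a = algebraMap K₀ L' (algebraMap (FractionRing A) K₀ (algebraMap A (FractionRing A) a))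
      rw [← IsScalarTower.algebraMap_apply A (FractionRing A) K₀, ← IsScalarTower.algebraMap_apply A K₀ L']
    haveI : FiniteDimensional (FractionRing A) K₀ := finiteDimensional_field (A := A) (f := f) hn
    haveI : FiniteDimensional (FractionRing A) L' := FiniteDimensional.trans (FractionRing A) K₀ L'
    exact unramified_root (K := FractionRing A) hd htame hn ψ hgen i sE hsE (hdiv i hi) g hgK
  · haveI := dvr_of_height_one (SGA1.kummerAlg A f n) q hq
    exact unramified_off (∏ i, f i) (AF := AF) ψ hgen q
      (notMem_of_forall_root f n q fun i hi => h ⟨i, hi⟩) g hg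

end AbhyLib
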