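import Groth.Agent.AbhyLib.Exponents
import Groth.Agent.PurityLib.Normal

/-!
# A regular tame cover of a strictly henselian regular base is a Kummer cover
-/

set_option autoImplicit false
set_option linter.style.haveILetI false
set_option maxHeartbeats 2000000
set_option synthInstance.maxHeartbeats 200000

universe u

open IsLocalRing
open scoped TensorProduct

namespace AbhyLib

/-- The fraction field of a finite extension is finite over the fraction field. -/
theorem finiteDimensional_frac (A B K L : Type u) [CommRing A] [CommRing B] [Algebra A B] [Module.Finite A B]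
    [Field K] [Algebra A K] [Field L] [Algebra B L] [IsFractionRing B L] [Algebra A L] [IsScalarTower A B L]
    [Algebra K L] [IsScalarTower A K L] : FiniteDimensional K L := by
  classical
  obtain ⟨s, hs⟩ := (Module.Finite.fg_top (R := A) (M := B))
  let T : Set L := algebraMap B L '' (s : Set B)
  have h : FiniteDimensional K (IntermediateField.adjoin K T) := by
    haveI : Finite T := (s.finite_toSet.image _).to_subtype
    refine IntermediateField.finiteDimensional_adjoin ?_
    rintro _ ⟨b, -, rfl⟩
    exact ((Algebra.IsIntegral.of_finite A B).isIntegral b).algebraMap.tower_top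
  have htop : IntermediateField.adjoin K T = ⊤ := by
    refine eq_top_iff.2 fun x _ => ?_
    have key : ∀ b : B, algebraMap B L b ∈ IntermediateField.adjoin K T := fun b => by
      have hb : b ∈ Submodule.span A (s : Set B) := hs ▸ Submodule.mem_top
      induction hb using Submodule.span_induction with
      | mem y hy => exact IntermediateField.subset_adjoin _ _ ⟨y, hy, rfl⟩
      | zero => rw [map_zero]; exact zero_mem _
      | add y z _ _ hy hz => rw [map_add]; exact add_mem hy hz
      | smul a y _ hy =>
        rw [Algebra.smul_def, map_mul, ← IsScalarTower.algebraMap_apply, IsScalarTower.algebraMap_apply A K L]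
        exact mul_mem (IntermediateField.algebraMap_mem _ _) hy
    obtain ⟨b, c, -, rfl⟩ := IsFractionRing.div_surjective B x
    exact div_mem (key b) (key c)
  rw [htop] at h
  exact LinearEquiv.finiteDimensional (IntermediateField.topEquiv (F := K) (E := L)).toLinearEquiv

variable {A : Type u} [CommRing A] [IsRegularLocalRing A] [IsDomain A] {r : ℕ} {f : Fin r → A}
  [∀ i, (Ideal.span {f i}).IsPrime] {B : Type u} [CommRing B] [IsDomain B] [Algebra A B] [Module.Finite A B]

set_option maxHeartbeats 4000000 in
/-- Tameness passes to the localised algebra. -/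
theorem isTameAlong_tensor (hd : Data A f) (hinj : Function.Injective (algebraMap A B))
    (htame : SGA1.IsTameAlong f (algebraMap A B)) :
    SGA1.IsTameAlong f (algebraMap A (Localization.Away (∏ i, f i) ⊗[A] B)) := by
  intro i q' hqp hq'
  let AF := Localization.Away (∏ i, f i)
  let E := AF ⊗[A] B
  let ι : B →ₐ[A] E := Algebra.TensorProduct.includeRight
  let P := Ideal.span {f i}
  let AP := Localization.AtPrime P
  let q : Ideal B := q'.comap (ι : B →+* E)
  have hq : q.comap (algebraMap A B) = ⊥ := by rw [Ideal.comap_comap, AlgHom.comp_algebraMap, hq']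
  have hA : ∀ a : A, a ≠ 0 → algebraMap B q.ResidueField (algebraMap A B a) ≠ 0 := fun a ha h0 => ha (by
    rw [← RingHom.mem_ker, Ideal.ker_algebraMap_residueField] at h0
    have h : a ∈ q.comap (algebraMap A B) := h0
    rwa [hq, Ideal.mem_bot] at h)
  have hF : IsUnit (algebraMap A q.ResidueField (∏ i, f i)) := Ne.isUnit (by
    rw [IsScalarTower.algebraMap_apply A B q.ResidueField]
    exact hA _ (Finset.prod_ne_zero_iff.2 fun i _ => hd.ne_zero i))
  let lF : AF →ₐ[A] q.ResidueField :=
    { IsLocalization.Away.lift (∏ i, f i) hF with commutes' := fun a => IsLocalization.Away.lift_eq _ hF a }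
  let h : E →ₐ[A] q.ResidueField :=
    Algebra.TensorProduct.lift lF (IsScalarTower.toAlgHom A B q.ResidueField) fun _ _ => Commute.all _ _
  have hι : ∀ b : B, h (ι b) = algebraMap B q.ResidueField b := fun b => by
    show Algebra.TensorProduct.lift _ _ _ ((1 : AF) ⊗ₜ[A] b) = _
    rw [Algebra.TensorProduct.lift_tmul, map_one, one_mul]
    rfl
  have hclear : ∀ z : E, ∃ (k : ℕ) (b : B), algebraMap A E ((∏ i, f i) ^ k) * z = ι b := fun z => by
    obtain ⟨⟨b, ⟨_, k, rfl⟩⟩, hb⟩ := IsLocalizedModule.surj (Submonoid.powers (∏ i, f i)) (TensorProduct.mk A AF B 1) z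
    exact ⟨k, b, (Algebra.smul_def _ _).symm.trans hb⟩
  have hker : RingHom.ker (h : E →+* q.ResidueField) = q' := Ideal.ext fun z => by
    obtain ⟨k, b, hkb⟩ := hclear z
    have hu1 : IsUnit (algebraMap A E ((∏ i, f i) ^ k)) := by
      rw [IsScalarTower.algebraMap_apply A AF E]
      exact ((IsLocalization.map_units AF (⟨_, k, rfl⟩ : Submonoid.powers (∏ i, f i)))).map _
    rw [RingHom.mem_ker, ← q'.unit_mul_mem_iff_mem hu1, hkb]
    have h1 := congrArg h hkb
    rw [map_mul, hι] at h1
    refine ⟨fun hz => ?_, fun hb => ?_⟩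
    · replace hz : h z = 0 := hz
      rw [hz, mul_zero, eq_comm, ← RingHom.mem_ker, Ideal.ker_algebraMap_residueField] at h1
      exact h1
    · have h2 : algebraMap B q.ResidueField b = 0 := by
        rw [← RingHom.mem_ker, Ideal.ker_algebraMap_residueField]; exact hb
      rw [h2] at h1
      exact (hu1.map h).mul_right_eq_zero.1 h1
  have hjinj : Function.Injective (Ideal.Quotient.lift q' (h : E →+* q.ResidueField) fun x hx => hker.ge hx) :=
    RingHom.lift_injective_of_ker_le_ideal _ _ hker.le
  let K := FractionRing A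
  have hinjM : Function.Injective (algebraMap A q.ResidueField) := (injective_iff_map_eq_zero _).2 fun a ha => by
    by_contra h0
    exact hA a h0 (by rwa [← IsScalarTower.algebraMap_apply])
  letI : Algebra K q.ResidueField := (IsFractionRing.lift hinjM).toAlgebra
  haveI : IsScalarTower A K q.ResidueField :=
    IsScalarTower.of_algebraMap_eq fun a => (IsFractionRing.lift_algebraMap hinjM a).symm
  have hq0 : q = ⊥ := by
    haveI : FaithfulSMul A B := (faithfulSMul_iff_algebraMap_injective A B).2 hinj
    haveI : Algebra.IsIntegral A B := Algebra.IsIntegral.of_finite A B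
    exact Ideal.eq_bot_of_comap_eq_bot (R := A) hq
  haveI : FaithfulSMul B q.ResidueField := (faithfulSMul_iff_algebraMap_injective _ _).2
    ((RingHom.injective_iff_ker_eq_bot _).2 (by rw [Ideal.ker_algebraMap_residueField, hq0]))
  haveI : IsFractionRing B q.ResidueField := IsFractionRing.of_field B q.ResidueField fun z => by
    obtain ⟨x, y, -, rfl⟩ := IsFractionRing.div_surjective (B ⧸ q) z
    obtain ⟨x, rfl⟩ := Ideal.Quotient.mk_surjective x
    obtain ⟨y, rfl⟩ := Ideal.Quotient.mk_surjective y
    exact ⟨x, y, rfl⟩
  haveI : FiniteDimensional K q.ResidueField := finiteDimensional_frac A B K q.ResidueField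
  -- the field of the point of the tensor product
  have hinjL : Function.Injective (algebraMap A q'.ResidueField) := (injective_iff_map_eq_zero _).2 fun a ha => by
    rw [IsScalarTower.algebraMap_apply A E q'.ResidueField, ← RingHom.mem_ker, Ideal.ker_algebraMap_residueField] at ha
    have h : a ∈ q'.comap (algebraMap A E) := ha
    rwa [hq', Ideal.mem_bot] at h
  letI : Algebra K q'.ResidueField := (IsFractionRing.lift hinjL).toAlgebra
  haveI : IsScalarTower A K q'.ResidueField :=
    IsScalarTower.of_algebraMap_eq fun a => (IsFractionRing.lift_algebraMap hinjL a).symm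
  letI : Algebra q'.ResidueField q.ResidueField := (IsFractionRing.lift hjinj).toAlgebra
  have hj : ∀ z : E, algebraMap q'.ResidueField q.ResidueField (algebraMap E q'.ResidueField z) = h z := fun z => by
    rw [IsScalarTower.algebraMap_apply E (E ⧸ q') q'.ResidueField]
    exact IsFractionRing.lift_algebraMap hjinj _
  haveI : IsScalarTower K q'.ResidueField q.ResidueField := IsScalarTower.of_algebraMap_eq (DFunLike.congr_fun
    (IsLocalization.ringHom_ext (nonZeroDivisors A) (j := algebraMap K q.ResidueField)
      (k := (algebraMap q'.ResidueField q.ResidueField).comp (algebraMap K q'.ResidueField)) (RingHom.ext fun a => by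
        show algebraMap K q.ResidueField (algebraMap A K a) =
          algebraMap q'.ResidueField q.ResidueField (algebraMap K q'.ResidueField (algebraMap A K a))
        rw [← IsScalarTower.algebraMap_apply A K q.ResidueField, ← IsScalarTower.algebraMap_apply A K q'.ResidueField,
          IsScalarTower.algebraMap_apply A E q'.ResidueField, hj, AlgHom.commutes])))
  -- compare the maps from the DVR
  obtain ⟨hdvr, -⟩ := atPrime_dvr hd i
  haveI := hdvr
  haveI : IsDomain AP := IsLocalization.isDomain_localization P.primeCompl_le_nonZeroDivisors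
  have huK : ∀ y : P.primeCompl, IsUnit (algebraMap A K y) := fun y =>
    Ne.isUnit ((map_ne_zero_iff _ (IsFractionRing.injective A K)).2 fun h => y.2 (h ▸ P.zero_mem))
  letI : Algebra AP K := (IsLocalization.lift (M := P.primeCompl) huK).toAlgebra
  haveI : IsScalarTower A AP K := IsScalarTower.of_algebraMap_eq fun a => (IsLocalization.lift_eq huK a).symm
  haveI : IsFractionRing AP K := IsFractionRing.isFractionRing_of_isLocalization P.primeCompl AP K P.primeCompl_le_nonZeroDivisors
  have hM : SGA1.genericResidueMap (algebraMap A B) P q hq = (algebraMap K q.ResidueField).comp (algebraMap AP K) :=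
    IsLocalization.ringHom_ext P.primeCompl (RingHom.ext fun a => by
      show SGA1.genericResidueMap (algebraMap A B) P q hq (algebraMap A AP a) =
        algebraMap K q.ResidueField (algebraMap AP K (algebraMap A AP a))
      rw [show SGA1.genericResidueMap (algebraMap A B) P q hq (algebraMap A AP a) =
          algebraMap B q.ResidueField (algebraMap A B a) from IsLocalization.lift_eq _ a,
        ← IsScalarTower.algebraMap_apply A AP K, ← IsScalarTower.algebraMap_apply A K q.ResidueField,
        ← IsScalarTower.algebraMap_apply A B q.ResidueField])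
  have hL : SGA1.genericResidueMap (algebraMap A E) P q' hq' = (algebraMap K q'.ResidueField).comp (algebraMap AP K) :=
    IsLocalization.ringHom_ext P.primeCompl (RingHom.ext fun a => by
      show SGA1.genericResidueMap (algebraMap A E) P q' hq' (algebraMap A AP a) =
        algebraMap K q'.ResidueField (algebraMap AP K (algebraMap A AP a))
      rw [show SGA1.genericResidueMap (algebraMap A E) P q' hq' (algebraMap A AP a) =
          algebraMap E q'.ResidueField (algebraMap A E a) from IsLocalization.lift_eq _ a,
        ← IsScalarTower.algebraMap_apply A AP K, ← IsScalarTower.algebraMap_apply A K q'.ResidueField,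
        ← IsScalarTower.algebraMap_apply A E q'.ResidueField])
  have ht := htame i q hq
  rw [hM] at ht
  rw [hL]
  exact EtRamTameLib.tame_sub (M := q.ResidueField) ht

set_option maxHeartbeats 4000000 in
/-- The parameters acquire prime roots in a regular tame cover. -/
theorem exists_root_param (hd : Data A f) [IsRegularLocalRing B] [HenselianLocalRing A] [IsSepClosed (ResidueField A)]
    [HenselianLocalRing B] [IsSepClosed (ResidueField B)] (hloc : IsLocalHom (algebraMap A B))
    (hinj : Function.Injective (algebraMap A B))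
    [Algebra.Etale (Localization.Away (∏ i, f i)) (Localization.Away (∏ i, f i) ⊗[A] B)]
    (htame : SGA1.IsTameAlong f (algebraMap A B)) :
    ∃ (e : Fin r → ℕ) (y : Fin r → B), (∀ i, 1 ≤ e i) ∧ (∀ i, IsUnit ((e i : ℕ) : ResidueField A)) ∧
      (∀ i, y i ^ e i = algebraMap A B (f i)) ∧ ∀ i, Prime (y i) := by
  classical
  let AF := Localization.Away (∏ i, f i)
  obtain ⟨N, hN, hNu, C, _, _, hCfin, hCet, ⟨eC⟩⟩ := exists_exponents hd (isTameAlong_tensor hd hinj htame)
  haveI := hCfin
  haveI := hCet
  obtain ⟨hreg, hfin, hinjA', -⟩ := kummer_facts A r f hd.hm hd.hf N hN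
  haveI := hreg
  haveI := hfin
  let A' := SGA1.kummerAlg A f N
  haveI := CommAlgDim.isDomain_of_isRegularLocalRing A'
  haveI : IsIntegrallyClosed A' := NormalLib.isIntegrallyClosed_of_isRegularLocalRing A'
  haveI : Algebra.IsIntegral A A' := Algebra.IsIntegral.of_finite A A'
  haveI : Algebra.IsIntegral A B := Algebra.IsIntegral.of_finite A B
  obtain ⟨hhens, hlocA'⟩ := HensFormalLib.henselian_of_integral_domain A A'
  haveI := hhens
  haveI := hlocA'
  haveI := (HensFormalLib.sepClosed_residue A A').1
  let S := Localization.Away (algebraMap A A' (∏ i, f i))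
  letI : Algebra AF S := (kummerAway f N).toAlgebra
  let E := AF ⊗[A] B
  have hF0 : (∏ i, f i) ≠ 0 := Finset.prod_ne_zero_iff.2 fun i _ => hd.ne_zero i
  haveI : Nontrivial AF := (IsLocalization.injective AF (powers_le_nonZeroDivisors_of_noZeroDivisors hF0)).nontrivial
  haveI : Nontrivial E := (Algebra.TensorProduct.includeLeft_injective (R := A) (A := AF) (B := B) (S := AF) hinj).nontrivial
  have hinjS : Function.Injective (algebraMap AF S) := Localization.awayMap_injective_iff.2 fun a ha =>
    ⟨0, by rw [hinjA' (ha.trans (map_zero _).symm), mul_zero]⟩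
  haveI : Nontrivial (S ⊗[AF] E) :=
    (Algebra.TensorProduct.includeRight_injective (R := AF) (A := S) (B := E) hinjS).nontrivial
  obtain ⟨I, hI, Ψ, hΨ⟩ := PurityLib.exists_split A' C
  obtain ⟨i₀⟩ : Nonempty I := by
    by_contra hI'
    haveI := not_nonempty_iff.1 hI'
    haveI : Subsingleton C := hΨ.1.subsingleton
    haveI : Subsingleton (S ⊗[A'] C) := subsingleton_of_forall_eq 0 fun z => by
      induction z using TensorProduct.induction_on with
      | zero => rfl
      | add y z hy hz => rw [hy, hz, add_zero]
      | tmul s b => rw [Subsingleton.elim b 0, TensorProduct.tmul_zero]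
    exact not_subsingleton (S ⊗[AF] E) eC.symm.toEquiv.subsingleton
  let σC : S ⊗[A'] C →ₐ[S] S := Algebra.TensorProduct.lift (AlgHom.id S S)
    ((Algebra.ofId A' S).comp ((Pi.evalAlgHom _ (fun _ : I => A') i₀).comp Ψ)) fun _ _ => Commute.all _ _
  let s : E →ₐ[AF] S := ((σC.comp eC.symm.toAlgHom).restrictScalars AF).comp Algebra.TensorProduct.includeRight
  have hs : ∀ a : A, s ((1 : AF) ⊗ₜ[A] algebraMap A B a) = algebraMap A S a := fun a => by
    rw [one_tmul_algebraMap, AlgHom.commutes, IsScalarTower.algebraMap_apply A A' S]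
    exact kummerAway_algebraMap N a
  let θ : B →ₐ[A] S := { (s : E →+* S).comp (Algebra.TensorProduct.includeRight : B →ₐ[A] E).toRingHom with
    commutes' := hs }
  have hM : Submonoid.powers (algebraMap A A' (∏ i, f i)) ≤ nonZeroDivisors A' :=
    powers_le_nonZeroDivisors_of_noZeroDivisors ((map_ne_zero_iff _ hinjA').2 hF0)
  haveI : IsDomain S := IsLocalization.isDomain_of_le_nonZeroDivisors (R := A') S hM
  have hu : ∀ y : Submonoid.powers (algebraMap A A' (∏ i, f i)), IsUnit (algebraMap A' (FractionRing A') y) := fun y =>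
    Ne.isUnit ((map_ne_zero_iff _ (IsFractionRing.injective A' (FractionRing A'))).2 (nonZeroDivisors.ne_zero (hM y.2)))
  let jS : S →+* FractionRing A' := IsLocalization.lift hu
  let JS : S →ₐ[A'] FractionRing A' := { jS with commutes' := fun x => IsLocalization.lift_eq hu x }
  have hθA' : ∀ b : B, θ b ∈ (IsScalarTower.toAlgHom A A' S).range := fun b => by
    have h1 : IsIntegral A' (JS (θ b)) := (((Algebra.IsIntegral.isIntegral (R := A) b).map θ).tower_top).map JS
    obtain ⟨a, ha⟩ := IsIntegrallyClosed.isIntegral_iff.1 h1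
    refine ⟨a, ?_⟩
    haveI : IsFractionRing A' (FractionRing A') := inferInstance
    have hJinj : Function.Injective JS :=
      (IsLocalization.lift_injective_iff _).2 fun x y => ⟨fun h => congrArg _ (IsLocalization.injective S hM h),
        fun h => congrArg _ (IsFractionRing.injective A' (FractionRing A') h)⟩
    exact hJinj ((JS.commutes a).trans ha)
  let eI : A' ≃ₐ[A] (IsScalarTower.toAlgHom A A' S).range :=
    AlgEquiv.ofInjective (IsScalarTower.toAlgHom A A' S) (IsLocalization.injective S hM)
  let θ' : B →ₐ[A] A' := eI.symm.toAlgHom.comp (θ.codRestrict _ hθA')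
  have hθinj : Function.Injective θ' := by
    change Function.Injective (θ' : B →+* A')
    haveI : FaithfulSMul A B := (faithfulSMul_iff_algebraMap_injective A B).2 hinj
    rw [RingHom.injective_iff_ker_eq_bot]
    refine Ideal.eq_bot_of_comap_eq_bot (R := A) ?_
    rw [RingHom.comap_ker, AlgHom.comp_algebraMap, ← RingHom.injective_iff_ker_eq_bot]
    exact hinjA'
  haveI : IsLocalHom (θ' : B →+* A') := ⟨fun x hx => by
    by_contra hxu
    have h1 : (maximalIdeal B).map (θ' : B →+* A') ≠ ⊤ := fun htop => by
      letI : Algebra B A' := (θ' : B →+* A').toAlgebra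
      haveI : IsScalarTower A B A' := IsScalarTower.of_algebraMap_eq fun a => (θ'.commutes a).symm
      haveI : Algebra.IsIntegral B A' := Algebra.IsIntegral.tower_top A
      obtain ⟨Q, hQmax, hQ⟩ := Ideal.exists_ideal_over_maximal_of_isIntegral (S := A') (maximalIdeal B)
        (((RingHom.injective_iff_ker_eq_bot (θ' : B →+* A')).1 hθinj).trans_le bot_le)
      exact hQmax.ne_top (top_unique (htop.ge.trans (Ideal.map_le_iff_le_comap.2 hQ.ge)))
    exact h1 (Ideal.eq_top_of_isUnit_mem _ (Ideal.mem_map_of_mem _ hxu) hx)⟩
  haveI := RegUFDLib.uniqueFactorizationMonoid B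
  haveI hP : ∀ i, (Ideal.span {root A f N i}).IsPrime := fun i => prime_span_root hd N hN i
  have main : ∀ i, ∃ (e : ℕ) (π : B) (u : Bˣ), 1 ≤ e ∧ IsUnit ((e : ℕ) : ResidueField A) ∧ Prime π ∧
      algebraMap A B (f i) = u * π ^ e := by
    intro i
    let Pi := (Ideal.span {root A f N i}).comap (θ' : B →+* A')
    haveI : Pi.IsPrime := Ideal.comap_isPrime _ _
    have hPi : Pi.comap (algebraMap A B) = Ideal.span {f i} := by
      rw [Ideal.comap_comap, AlgHom.comp_algebraMap]
      exact (root_prime hd.hm hd.hf hN i).2
    have hfi0 : algebraMap A B (f i) ≠ 0 := (map_ne_zero_iff _ hinj).2 (hd.ne_zero i)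
    have hfim : algebraMap A B (f i) ∈ Pi := (hPi.ge (Ideal.mem_span_singleton_self _) :)
    obtain ⟨π, hπP, hπ⟩ := Ideal.IsPrime.exists_mem_prime_of_ne_bot (I := Pi) ‹_› fun h0 => hfi0 (by
      rw [h0] at hfim; exact (Ideal.mem_bot).1 hfim)
    haveI : (Ideal.span {π}).IsPrime := (Ideal.span_singleton_prime hπ.ne_zero).2 hπ
    have key : ∀ ρ : B, Prime ρ → ρ ∣ algebraMap A B (f i) → Pi = Ideal.span {ρ} := fun ρ hρ hdvd => by
      haveI : (Ideal.span {ρ}).IsPrime := (Ideal.span_singleton_prime hρ.ne_zero).2 hρ
      obtain ⟨c, hc⟩ := hdvd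
      -- `ρ` lies in `Pi`
      have hρP : ρ ∈ Pi := by
        show θ' ρ ∈ Ideal.span {root A f N i}
        have h1 : θ' ρ ∣ root A f N i ^ N i := by
          rw [root_pow, ← θ'.commutes (f i), hc, map_mul]; exact dvd_mul_right _ _
        obtain ⟨k, -, hk⟩ := (dvd_prime_pow ((Ideal.span_singleton_prime (fun h0 => hd.ne_zero i (hinjA' (by
          rw [← root_pow A f N i, h0, zero_pow (by have := hN i; omega), map_zero])))).1 (hP i)) _).1 h1
        rcases k.eq_zero_or_pos with rfl | hkpos
        · rw [pow_zero] at hk
          exact absurd (isUnit_of_map_unit (θ' : B →+* A') ρ (associated_one_iff_isUnit.1 hk)) hρ.not_unit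
        · exact Ideal.mem_span_singleton.2 (((dvd_pow_self _ hkpos.ne').trans hk.dvd'))
      have hle : Ideal.span {ρ} ≤ Pi := (Ideal.span_singleton_le_iff_mem _).2 hρP
      refine (hle.eq_or_lt.resolve_right fun hlt => ?_).symm
      obtain ⟨-, x, hx, hxρ⟩ := SetLike.lt_iff_le_and_exists.1 hlt
      have h2 := Ideal.comap_lt_comap_of_integral_mem_sdiff (R := A) hle ⟨hx, hxρ⟩ (Algebra.IsIntegral.isIntegral x)
      rw [hPi] at h2
      exact h2.not_ge ((Ideal.span_singleton_le_iff_mem _).2 (Ideal.mem_span_singleton.2 ⟨c, hc⟩))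
    obtain ⟨ρ₀, hρ₀, hρ₀d⟩ := WfDvdMonoid.exists_irreducible_factor
      (fun hu0 => (hd.hm i) (isUnit_of_map_unit (algebraMap A B) _ hu0)) hfi0
    have hPπ : Pi = Ideal.span {π} := by
      have h1 := key ρ₀ (UniqueFactorizationMonoid.irreducible_iff_prime.1 hρ₀) hρ₀d
      rw [h1] at hπP ⊢
      exact Ideal.span_singleton_eq_span_singleton.2
        ((UniqueFactorizationMonoid.irreducible_iff_prime.1 hρ₀).associated_of_dvd hπ (Ideal.mem_span_singleton.1 hπP))
    obtain ⟨e, g, hg, hfe⟩ := WfDvdMonoid.max_power_factor hfi0 hπ.irreducible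
    have hgu : IsUnit g := by
      by_contra hgu
      obtain ⟨ρ, hρ, hρg⟩ := WfDvdMonoid.exists_irreducible_factor hgu (fun h0 => hfi0 (by rw [hfe, h0, mul_zero]))
      have hρp := UniqueFactorizationMonoid.irreducible_iff_prime.1 hρ
      have h1 := key ρ hρp (hfe ▸ hρg.mul_left _)
      rw [hPπ, Ideal.span_singleton_eq_span_singleton] at h1
      exact hg (h1.dvd.trans hρg)
    refine ⟨e, π, hgu.unit, ?_, ?_, hπ, by rw [hfe, IsUnit.unit_spec, mul_comm]⟩
    · refine Nat.one_le_iff_ne_zero.2 fun he => hd.hm i (isUnit_of_map_unit (algebraMap A B) _ ?_)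
      rw [hfe, he, pow_zero, one_mul]; exact hgu
    · have hroot : Prime (root A f N i) := (Ideal.span_singleton_prime (fun h0 => hd.ne_zero i (hinjA' (by
          rw [← root_pow A f N i, h0, zero_pow (by have := hN i; omega), map_zero])))).1 (hP i)
      obtain ⟨c, -, hc⟩ := (dvd_prime_pow hroot (N i)).1 (show θ' (π ^ 1) ∣ root A f N i ^ N i by
        rw [root_pow, ← θ'.commutes (f i), hfe, pow_one, map_mul, map_pow]
        exact (dvd_pow_self _ (Nat.one_le_iff_ne_zero.1 (Nat.one_le_iff_ne_zero.2 fun he => hd.hm i
          (isUnit_of_map_unit (algebraMap A B) _ (by rw [hfe, he, pow_zero, one_mul]; exact hgu))))).mul_right _)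
      rw [pow_one] at hc
      have h2 : Associated (root A f N i ^ N i) (root A f N i ^ (c * e)) := by
        rw [root_pow, ← θ'.commutes (f i), hfe, map_mul, map_pow, pow_mul]
        exact (associated_mul_unit_left _ _ (hgu.map θ')).trans (hc.pow_pow)
      have hce : N i = c * e := by
        rcases le_total (N i) (c * e) with h | h
        · exact le_antisymm h ((pow_dvd_pow_iff hroot.ne_zero hroot.not_unit).1 h2.dvd')
        · exact le_antisymm ((pow_dvd_pow_iff hroot.ne_zero hroot.not_unit).1 h2.dvd) h
      have h3 := hNu i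
      rw [hce, Nat.cast_mul] at h3
      exact isUnit_of_mul_isUnit_right h3
  choose e π u he heu hπ hfe using main
  have hroots : ∀ i, ∃ w : B, w ^ e i = (u i : B) := fun i => by
    have hne : ((e i : ℕ) : ResidueField B) ≠ 0 := by
      rw [← map_natCast (algebraMap (ResidueField A) (ResidueField B))]
      exact (_root_.map_ne_zero _).2 (heu i).ne_zero
    haveI : NeZero ((e i : ℕ) : ResidueField B) := ⟨hne⟩
    obtain ⟨z, hz⟩ := IsSepClosed.exists_pow_nat_eq (residue B (u i : B)) (e i)
    obtain ⟨z, rfl⟩ := residue_surjective z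
    have hz0 : residue B z ≠ 0 := fun h0 => by
      rw [h0, zero_pow (by have := he i; omega)] at hz
      exact ((u i).isUnit.map (residue B)).ne_zero hz.symm
    obtain ⟨w, hw, -⟩ := HenselianLocalRing.is_henselian (Polynomial.X ^ e i - Polynomial.C (u i : B))
      (Polynomial.monic_X_pow_sub_C _ (by have := he i; omega)) z
      (by
        rw [← residue_eq_zero_iff]
        simp [hz])
      (by
        refine (residue_ne_zero_iff_isUnit _).1 ?_
        simp [Polynomial.derivative_X_pow, hne, hz0])
    exact ⟨w, by simpa [Polynomial.IsRoot, sub_eq_zero] using hw⟩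
  choose w hw using hroots
  refine ⟨e, fun i => w i * π i, he, heu, fun i => by rw [mul_pow, hw, hfe], fun i => ?_⟩
  have hwu : IsUnit (w i) := (isUnit_pow_iff (by have := he i; omega)).1 (hw i ▸ (u i).isUnit)
  exact (Associated.prime (associated_unit_mul_right _ _ hwu) (hπ i))

end AbhyLib
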