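import Groth.Agent.AbhyLib.Regular

/-!
# Identifying a regular tame cover with a Kummer algebra
-/

set_option autoImplicit false
set_option linter.style.haveILetI false
set_option maxHeartbeats 2000000
set_option synthInstance.maxHeartbeats 200000

universe u

open IsLocalRing
open scoped TensorProduct

namespace AbhyLib

/-- Away from the divisor the cover is unramified over the base. -/
theorem formallyUnramified_off {A B : Type u} [CommRing A] [CommRing B] [Algebra A B] (F : A)
    [Algebra.Etale (Localization.Away F) (Localization.Away F ⊗[A] B)] (Q : Ideal B) [Q.IsPrime]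
    (hF : algebraMap A B F ∉ Q) : Algebra.IsUnramifiedAt A Q := by
  let AF := Localization.Away F
  haveI : Algebra.FormallyUnramified A AF := Algebra.FormallyUnramified.of_isLocalization (Submonoid.powers F)
  haveI : Algebra.FormallyUnramified A (AF ⊗[A] B) := Algebra.FormallyUnramified.comp A AF _
  let D := Localization.AtPrime Q
  have hu : IsUnit (algebraMap A D F) := by
    rw [IsScalarTower.algebraMap_apply A B D]
    exact IsLocalization.map_units D (⟨_, hF⟩ : Q.primeCompl)
  let lF : AF →ₐ[A] D :=
    { IsLocalization.Away.lift F hu with commutes' := fun a => IsLocalization.Away.lift_eq _ hu a }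
  let h : AF ⊗[A] B →ₐ[A] D := Algebra.TensorProduct.lift lF (IsScalarTower.toAlgHom A B D) fun _ _ => Commute.all _ _
  show Algebra.FormallyUnramified A D
  refine Algebra.FormallyUnramified.iff_comp_injective.2 fun C _ _ I hI g₁ g₂ hg => ?_
  have key : g₁.comp h = g₂.comp h :=
    (Algebra.FormallyUnramified.iff_comp_injective.1 inferInstance) I hI (by
      rw [← AlgHom.comp_assoc, ← AlgHom.comp_assoc]; exact congrArg (fun g => AlgHom.comp g h) hg)
  refine AlgHom.coe_ringHom_injective (IsLocalization.ringHom_ext Q.primeCompl (RingHom.ext fun b => ?_))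
  have h1 := DFunLike.congr_fun key ((1 : AF) ⊗ₜ[A] b)
  have h2 : h ((1 : AF) ⊗ₜ[A] b) = algebraMap B D b := by
    show Algebra.TensorProduct.lift _ _ _ ((1 : AF) ⊗ₜ[A] b) = _
    rw [Algebra.TensorProduct.lift_tmul, map_one, one_mul]
    rfl
  rw [AlgHom.comp_apply, AlgHom.comp_apply, h2] at h1
  exact h1

variable {A : Type u} [CommRing A] [IsRegularLocalRing A] [IsDomain A] {r : ℕ} {f : Fin r → A}
  [∀ i, (Ideal.span {f i}).IsPrime] {B : Type u} [CommRing B] [IsDomain B] [Algebra A B] [Module.Finite A B]

set_option maxHeartbeats 4000000 in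
/-- The residue extension at a divisor is separable. -/
theorem separable_at_divisor (hd : Data A f) (hinj : Function.Injective (algebraMap A B))
    (htame : SGA1.IsTameAlong f (algebraMap A B)) (i : Fin r) (Q : Ideal B) [Q.IsPrime]
    [IsDiscreteValuationRing (Localization.AtPrime Q)] [Q.LiesOver (Ideal.span {f i})]
    [Algebra (Localization.AtPrime (Ideal.span {f i})) (Localization.AtPrime Q)]
    [IsLocalHom (algebraMap (Localization.AtPrime (Ideal.span {f i})) (Localization.AtPrime Q))]
    (hcomp : ∀ a : A, algebraMap (Localization.AtPrime (Ideal.span {f i})) (Localization.AtPrime Q) (algebraMap A _ a) =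
      algebraMap B (Localization.AtPrime Q) (algebraMap A B a)) :
    Algebra.IsSeparable (ResidueField (Localization.AtPrime (Ideal.span {f i}))) (ResidueField (Localization.AtPrime Q)) := by
  let P := Ideal.span {f i}
  let AP := Localization.AtPrime P
  let D := Localization.AtPrime Q
  have hbot : (⊥ : Ideal B).comap (algebraMap A B) = ⊥ := by
    rw [← RingHom.ker_eq_comap_bot, (RingHom.injective_iff_ker_eq_bot _).1 hinj]
  let L := (⊥ : Ideal B).ResidueField
  haveI : IsDomain D := IsLocalization.isDomain_localization Q.primeCompl_le_nonZeroDivisors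
  haveI : FaithfulSMul B L := (faithfulSMul_iff_algebraMap_injective _ _).2
    ((RingHom.injective_iff_ker_eq_bot _).2 (Ideal.ker_algebraMap_residueField _))
  haveI : IsFractionRing B L := IsFractionRing.of_field B L fun z => by
    obtain ⟨x, y, -, rfl⟩ := IsFractionRing.div_surjective (B ⧸ (⊥ : Ideal B)) z
    obtain ⟨x, rfl⟩ := Ideal.Quotient.mk_surjective x
    obtain ⟨y, rfl⟩ := Ideal.Quotient.mk_surjective y
    exact ⟨x, y, rfl⟩
  have hu : ∀ s : Q.primeCompl, IsUnit (algebraMap B L s) := fun s =>
    Ne.isUnit ((map_ne_zero_iff _ (IsFractionRing.injective B L)).2 fun h => s.2 (h ▸ Q.zero_mem))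
  letI : Algebra D L := (IsLocalization.lift (M := Q.primeCompl) hu).toAlgebra
  haveI : IsScalarTower B D L := IsScalarTower.of_algebraMap_eq fun b => (IsLocalization.lift_eq hu b).symm
  haveI : IsFractionRing D L := IsFractionRing.isFractionRing_of_isLocalization Q.primeCompl D L Q.primeCompl_le_nonZeroDivisors
  let g := SGA1.genericResidueMap (algebraMap A B) P ⊥ hbot
  have hgD : ∀ x : AP, g x = algebraMap D L (algebraMap AP D x) := DFunLike.congr_fun
    (IsLocalization.ringHom_ext P.primeCompl (j := g) (k := (algebraMap D L).comp (algebraMap AP D))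
      (RingHom.ext fun a => by
        show g (algebraMap A AP a) = algebraMap D L (algebraMap AP D (algebraMap A AP a))
        rw [hcomp, ← IsScalarTower.algebraMap_apply B D L]
        exact IsLocalization.lift_eq _ a))
  let V := valOfRange D L
  let eD := valEquiv D L
  have hV : EtRam.Dominates AP g V :=
    ⟨fun x => ⟨_, (hgD x).symm⟩, fun x hx => by
      rw [hgD]
      exact (V.valuation_lt_one_iff (eD (algebraMap AP D x))).1 fun hu' =>
        hx (isUnit_of_map_unit (algebraMap AP D) x ((isUnit_map_iff eD _).1 hu'))⟩
  letI : Algebra AP V := (RingHom.codRestrict g V hV.1).toAlgebra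
  have hAV : algebraMap AP V = (eD : D →+* V).comp (algebraMap AP D) := RingHom.ext fun x => Subtype.ext (hgD x)
  haveI : IsLocalHom (algebraMap AP V) := ⟨fun x hx => by
    rw [hAV] at hx
    exact isUnit_of_map_unit _ x ((isUnit_map_iff eD _).1 hx)⟩
  haveI : Algebra.IsSeparable (ResidueField AP) (ResidueField V) := (htame i ⊥ hbot V hV).1
  refine Algebra.IsSeparable.of_equiv_equiv (RingEquiv.refl _) (ResidueField.mapEquiv eD.symm) ?_
  refine RingHom.ext fun y => ?_
  obtain ⟨y, rfl⟩ := residue_surjective y
  show residue D (algebraMap _ D y) = residue D (eD.symm (algebraMap _ V y))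
  rw [hAV]
  exact congrArg _ (eD.symm_apply_apply _).symm

set_option maxHeartbeats 4000000 in
/-- A regular tame cover of a strictly henselian regular local ring is a Kummer algebra. -/
theorem exists_kummer_equiv (hd : Data A f) [IsRegularLocalRing B] [HenselianLocalRing A] [IsSepClosed (ResidueField A)]
    [HenselianLocalRing B] [IsSepClosed (ResidueField B)] (hloc : IsLocalHom (algebraMap A B))
    (hinj : Function.Injective (algebraMap A B))
    [Algebra.Etale (Localization.Away (∏ i, f i)) (Localization.Away (∏ i, f i) ⊗[A] B)]
    (htame : SGA1.IsTameAlong f (algebraMap A B)) :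
    ∃ n : Fin r → ℕ, (∀ i, 1 ≤ n i) ∧ (∀ i, IsUnit ((n i : ℕ) : ResidueField A)) ∧
      Nonempty (B ≃ₐ[A] SGA1.kummerAlg A f n) := by
  classical
  obtain ⟨e, y, he, heu, hy, hyp⟩ := exists_root_param hd hloc hinj htame
  refine ⟨e, he, heu, ?_⟩
  let A' := SGA1.kummerAlg A f e
  obtain ⟨hreg, hfin, hinjA', -⟩ := kummer_facts A r f hd.hm hd.hf e he
  haveI := hreg
  haveI := hfin
  haveI := CommAlgDim.isDomain_of_isRegularLocalRing A'
  haveI : Algebra.IsIntegral A A' := Algebra.IsIntegral.of_finite A A'
  obtain ⟨hhens, hlocA'⟩ := HensFormalLib.henselian_of_integral_domain A A'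
  haveI := hhens
  haveI := hlocA'
  haveI := (HensFormalLib.sepClosed_residue A A').1
  let θ : A' →ₐ[A] B := kummerHom f e y hy
  letI : Algebra A' B := θ.toRingHom.toAlgebra
  haveI : IsScalarTower A A' B := IsScalarTower.of_algebraMap_eq fun a => (θ.commutes a).symm
  haveI : Module.Finite A' B := Module.Finite.of_restrictScalars_finite A A' B
  have hinj' : Function.Injective (algebraMap A' B) := by
    rw [RingHom.injective_iff_ker_eq_bot]
    refine Ideal.eq_bot_of_comap_eq_bot (R := A) ?_
    rw [RingHom.comap_ker, ← IsScalarTower.algebraMap_eq, ← RingHom.injective_iff_ker_eq_bot]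
    exact hinj
  haveI : IsIntegrallyClosed B := NormalLib.isIntegrallyClosed_of_isRegularLocalRing B
  haveI het : Algebra.Etale A' B := by
    by_cases hr : r = 0
    · subst hr
      have h1 : IsUnit (∏ i : Fin 0, f i) := by simp
      let eA : A ≃ₐ[A] Localization.Away (∏ i : Fin 0, f i) := IsLocalization.atUnit A _ _ h1
      haveI : Algebra.Etale A (Localization.Away (∏ i : Fin 0, f i)) := Algebra.Etale.of_equiv eA
      haveI : Algebra.Etale A (Localization.Away (∏ i : Fin 0, f i) ⊗[A] B) :=
        Algebra.Etale.comp A (Localization.Away (∏ i : Fin 0, f i)) _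
      haveI : Algebra.Etale A B := Algebra.Etale.of_equiv
        ((Algebra.TensorProduct.congr eA.symm AlgEquiv.refl).trans (Algebra.TensorProduct.lid A B))
      have hsurj : Function.Surjective (algebraMap A A') := fun x => by
        have hx : x ∈ Algebra.adjoin A (Set.range (root A f e)) := adjoin_root A f e ▸ Algebra.mem_top
        rw [show Set.range (root A f e) = (∅ : Set (SGA1.kummerAlg A f e)) from Set.range_eq_empty _, Algebra.adjoin_empty] at hx
        exact hx
      haveI : Algebra.Etale A A' := Algebra.Etale.of_equiv
        (AlgEquiv.ofBijective (Algebra.ofId A A') ⟨hinjA', hsurj⟩)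
      exact Algebra.Etale.of_restrictScalars A A' B
    · have i₀ : Fin r := ⟨0, Nat.pos_of_ne_zero hr⟩
      haveI : ∀ i, (Ideal.span {root A f e i}).IsPrime := fun i => prime_span_root hd e he i
      have hdim : (1 : WithBot ℕ∞) ≤ ringKrullDim A' := by
        rw [← maximalIdeal_height_eq_ringKrullDim]
        refine WithBot.coe_le_coe.2 (ENat.one_le_iff_ne_zero.2 fun h0 => (hd.kummer he).ne_zero i₀ ?_)
        rw [Ideal.height_eq_zero_iff, IsDomain.minimalPrimes_eq_singleton_bot, Set.mem_singleton_iff] at h0
        exact Ideal.mem_bot.1 (h0 ▸ (hd.kummer he).hm i₀)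
      refine PurityLib.etale_of_normal_finite_base A' B hinj' hdim fun Q _ hQ hQ1 => ?_
      by_cases h : ∃ i, y i ∈ Q
      · obtain ⟨i, hi⟩ := h
        haveI : (Ideal.span {y i}).IsPrime := (Ideal.span_singleton_prime (hyp i).ne_zero).2 (hyp i)
        have hQy : Q = Ideal.span {y i} := by
          have hle : Ideal.span {y i} ≤ Q := (Ideal.span_singleton_le_iff_mem _).2 hi
          rcases hle.eq_or_lt with h | h
          · exact h.symm
          · have hlt := Ideal.height_strict_mono_of_isPrime h
            rw [hQ, ENat.lt_one_iff_eq_zero, Ideal.height_eq_zero_iff, IsDomain.minimalPrimes_eq_singleton_bot,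
              Set.mem_singleton_iff, Ideal.span_singleton_eq_bot] at hlt
            exact absurd hlt (hyp i).ne_zero
        subst hQy
        have hθi : algebraMap A' B (root A f e i) = y i := kummerHom_root _ _ _ _ i
        let Q' := Ideal.span {y i}
        let q := Q'.under A'
        have hrq : root A f e i ∈ q := by
          show algebraMap A' B (root A f e i) ∈ Q'
          rw [hθi]; exact Ideal.mem_span_singleton_self _
        have hq : q = Ideal.span {root A f e i} := by
          have hle : Ideal.span {root A f e i} ≤ q := (Ideal.span_singleton_le_iff_mem _).2 hrq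
          rcases hle.eq_or_lt with h | h
          · exact h.symm
          · have h0 := (Ideal.height_strict_mono_of_isPrime h).trans_le hQ1
            rw [ENat.lt_one_iff_eq_zero, Ideal.height_eq_zero_iff, IsDomain.minimalPrimes_eq_singleton_bot,
              Set.mem_singleton_iff, Ideal.span_singleton_eq_bot] at h0
            exact absurd h0 ((hd.kummer he).ne_zero i)
        haveI : Q'.LiesOver (Ideal.span {root A f e i}) := ⟨hq.symm⟩
        haveI : (Ideal.span {root A f e i}).LiesOver (Ideal.span {f i}) := ⟨(root_prime hd.hm hd.hf he i).2.symm⟩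
        haveI : Q'.LiesOver (Ideal.span {f i}) := Ideal.LiesOver.trans Q' (Ideal.span {root A f e i}) _
        let AP := Localization.AtPrime (Ideal.span {f i})
        let Aq := Localization.AtPrime (Ideal.span {root A f e i})
        let D := Localization.AtPrime Q'
        haveI : IsDomain D := IsLocalization.isDomain_localization Q'.primeCompl_le_nonZeroDivisors
        haveI hdvrD : IsDiscreteValuationRing D := dvr_of_height_one B Q' hQ
        letI : Algebra AP Aq := Localization.AtPrime.algebraOfLiesOver _ _
        letI : Algebra Aq D := Localization.AtPrime.algebraOfLiesOver _ _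
        letI : Algebra AP D := Localization.AtPrime.algebraOfLiesOver _ _
        haveI : IsLocalHom (algebraMap AP Aq) :=
          Localization.isLocalHom_localRingHom _ _ (algebraMap A A') (Ideal.over_def _ _)
        haveI : IsLocalHom (algebraMap Aq D) :=
          Localization.isLocalHom_localRingHom _ _ (algebraMap A' B) (Ideal.over_def _ _)
        haveI : IsLocalHom (algebraMap AP D) :=
          Localization.isLocalHom_localRingHom _ _ (algebraMap A B) (Ideal.over_def _ _)
        have h1 : ∀ a : A, algebraMap AP D (algebraMap A AP a) = algebraMap B D (algebraMap A B a) := fun a =>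
          Localization.localRingHom_to_map (Ideal.span {f i}) Q' (algebraMap A B) (Ideal.over_def _ _) a
        have h2 : ∀ a : A', algebraMap Aq D (algebraMap A' Aq a) = algebraMap B D (algebraMap A' B a) := fun a =>
          Localization.localRingHom_to_map (Ideal.span {root A f e i}) Q' (algebraMap A' B) (Ideal.over_def _ _) a
        have h3 : ∀ a : A, algebraMap AP Aq (algebraMap A AP a) = algebraMap A' Aq (algebraMap A A' a) := fun a =>
          Localization.localRingHom_to_map (Ideal.span {f i}) (Ideal.span {root A f e i}) (algebraMap A A') (Ideal.over_def _ _) a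
        have h4 : ∀ x : AP, algebraMap AP D x = algebraMap Aq D (algebraMap AP Aq x) := DFunLike.congr_fun
          (IsLocalization.ringHom_ext (Ideal.span {f i}).primeCompl (j := algebraMap AP D)
            (k := (algebraMap Aq D).comp (algebraMap AP Aq)) (RingHom.ext fun a => by
              show algebraMap AP D (algebraMap A AP a) = algebraMap Aq D (algebraMap AP Aq (algebraMap A AP a))
              rw [h1, h3, h2, ← IsScalarTower.algebraMap_apply A A' B]))
        haveI : IsScalarTower AP Aq D := IsScalarTower.of_algebraMap_eq h4
        haveI : IsScalarTower A' Aq D := IsScalarTower.of_algebraMap_eq fun a => by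
          rw [h2, IsScalarTower.algebraMap_apply A' B D]
        haveI hsepAP := separable_at_divisor hd hinj htame i Q' h1
        haveI : IsScalarTower (ResidueField AP) (ResidueField Aq) (ResidueField D) :=
          IsScalarTower.of_algebraMap_eq fun c => by
            obtain ⟨c, rfl⟩ := residue_surjective c
            exact congrArg (residue D) (h4 c)
        haveI : Algebra.IsSeparable (ResidueField Aq) (ResidueField D) :=
          Algebra.isSeparable_tower_top_of_isSeparable (ResidueField AP) (ResidueField Aq) (ResidueField D)
        have hmap : (maximalIdeal Aq).map (algebraMap Aq D) = maximalIdeal D := by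
          rw [← Localization.AtPrime.map_eq_maximalIdeal, ← Localization.AtPrime.map_eq_maximalIdeal, Ideal.map_map,
            Ideal.map_span, Ideal.map_span, Set.image_singleton, Set.image_singleton, RingHom.comp_apply, h2, hθi]
        haveI : Algebra.EssFiniteType A' D := Algebra.EssFiniteType.comp A' B D
        haveI : Algebra.EssFiniteType Aq D := Algebra.EssFiniteType.of_comp A' _ _
        haveI : Algebra.FormallyUnramified Aq D := Algebra.FormallyUnramified.of_map_maximalIdeal hmap
        haveI : Algebra.FormallyUnramified A' Aq :=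
          Algebra.FormallyUnramified.of_isLocalization (Ideal.span {root A f e i}).primeCompl
        exact Algebra.FormallyUnramified.comp A' Aq D
      · have hFQ : algebraMap A B (∏ i, f i) ∉ Q := fun hF => by
          rw [map_prod] at hF
          obtain ⟨i, -, hi⟩ := (Ideal.IsPrime.prod_mem_iff (hp := ‹Q.IsPrime›)).1 hF
          rw [← hy] at hi
          exact h ⟨i, Ideal.IsPrime.mem_of_pow_mem ‹Q.IsPrime› _ hi⟩
        haveI : Algebra.FormallyUnramified A (Localization.AtPrime Q) := formallyUnramified_off (∏ i, f i) Q hFQ
        exact Algebra.FormallyUnramified.of_restrictScalars A A' (Localization.AtPrime Q)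
  obtain ⟨I, hI, Ψ, hΨ⟩ := PurityLib.exists_split A' B
  have hne : Nonempty I := by
    by_contra hI'
    haveI := not_nonempty_iff.1 hI'
    haveI := hΨ.1.subsingleton
    exact not_subsingleton B inferInstance
  haveI : Subsingleton I := ⟨fun i j => by
    by_contra hij
    have h0 : (Pi.single i (1 : A') : I → A') * Pi.single j 1 = 0 := by
      funext k
      by_cases hk : k = i
      · subst hk; simp [Pi.single_eq_of_ne hij]
      · simp [Pi.single_eq_of_ne hk]
    obtain ⟨x, hx⟩ := hΨ.2 (Pi.single i 1)
    obtain ⟨z, hz⟩ := hΨ.2 (Pi.single j 1)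
    rw [← hx, ← hz, ← map_mul, map_eq_zero_iff _ hΨ.1, mul_eq_zero] at h0
    rcases h0 with h | h
    · rw [h, map_zero] at hx
      simpa using congrFun hx i
    · rw [h, map_zero] at hz
      simpa using congrFun hz j⟩
  obtain ⟨i⟩ := hne
  exact ⟨((AlgEquiv.ofBijective ((Pi.evalAlgHom A' (fun _ : I => A') i).comp Ψ)
    ⟨fun x z h => hΨ.1 (funext fun k => by rw [Subsingleton.elim k i]; exact h),
      fun c => (hΨ.2 fun _ => c).imp fun x hx => congrFun hx i⟩).restrictScalars A)⟩

end AbhyLib
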