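import Groth.Prelude.Def_SGA1
import Groth.Prelude.Def_FEt
import Mathlib.AlgebraicGeometry.Morphisms.Etale
import Mathlib.AlgebraicGeometry.Morphisms.Finite
import Mathlib.AlgebraicGeometry.Pullbacks
import Mathlib.RingTheory.RingHom.Etale

/-!
# Finite étale covers of basic opens of affine schemes
-/

set_option autoImplicit false
set_option linter.style.haveILetI false
set_option maxHeartbeats 1000000

universe u

open AlgebraicGeometry CategoryTheory CategoryTheory.Limits
open scoped TensorProduct

noncomputable section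

namespace AbhyLib

/-- An open immersion with the same range as `Spec` of a localisation away from an element. -/
theorem range_SpecMap_away {A : Type u} [CommRing A] (F : A) (AF : Type u) [CommRing AF] [Algebra A AF]
    [IsLocalization.Away F AF] :
    Set.range (Spec.map (CommRingCat.ofHom (algebraMap A AF))) = (SGA1.specBasicOpen A F : Set (Spec (CommRingCat.of A))) :=
  PrimeSpectrum.localization_away_comap_range AF F

instance isOpenImmersion_away {A : Type u} [CommRing A] (F : A) :
    IsOpenImmersion (Spec.map (CommRingCat.ofHom (algebraMap A (Localization.Away F)))) :=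
  IsOpenImmersion.of_isLocalization F

/-- The pull back of a basic open is a basic open. -/
theorem preimage_specBasicOpen {A A' : Type u} [CommRing A] [CommRing A'] (g : A →+* A') (F : A) :
    Spec.map (CommRingCat.ofHom g) ⁻¹ᵁ SGA1.specBasicOpen A F = SGA1.specBasicOpen A' (g F) :=
  PrimeSpectrum.comap_basicOpen g F

/-- A basic open is affine. -/
def basicIso (A : Type u) [CommRing A] (F : A) :
    (SGA1.specBasicOpen A F : Scheme.{u}) ≅ Spec (CommRingCat.of (Localization.Away F)) :=
  IsOpenImmersion.isoOfRangeEq (SGA1.specBasicOpen A F).ι (Spec.map (CommRingCat.ofHom (algebraMap A (Localization.Away F))))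
    (by rw [range_SpecMap_away F (Localization.Away F)]; exact Scheme.Opens.range_ι _)

@[reassoc]
theorem basicIso_inv_ι (A : Type u) [CommRing A] (F : A) :
    (basicIso A F).inv ≫ (SGA1.specBasicOpen A F).ι = Spec.map (CommRingCat.ofHom (algebraMap A (Localization.Away F))) :=
  IsOpenImmersion.isoOfRangeEq_inv_fac _ _ _

/-- Equal opens give isomorphic schemes. -/
def preimageIso {A A' : Type u} [CommRing A] [CommRing A'] (g : A →+* A') (F : A) :
    ((Spec.map (CommRingCat.ofHom g) ⁻¹ᵁ SGA1.specBasicOpen A F) : Scheme.{u}) ≅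
      Spec (CommRingCat.of (Localization.Away (g F))) :=
  IsOpenImmersion.isoOfRangeEq (Spec.map (CommRingCat.ofHom g) ⁻¹ᵁ SGA1.specBasicOpen A F).ι
    (Spec.map (CommRingCat.ofHom (algebraMap A' (Localization.Away (g F)))))
    (by rw [range_SpecMap_away (g F) (Localization.Away (g F)), preimage_specBasicOpen]; exact Scheme.Opens.range_ι _)

@[reassoc]
theorem preimageIso_inv_ι {A A' : Type u} [CommRing A] [CommRing A'] (g : A →+* A') (F : A) :
    (preimageIso g F).inv ≫ (Spec.map (CommRingCat.ofHom g) ⁻¹ᵁ SGA1.specBasicOpen A F).ι =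
      Spec.map (CommRingCat.ofHom (algebraMap A' (Localization.Away (g F)))) :=
  IsOpenImmersion.isoOfRangeEq_inv_fac _ _ _

/-- The restricted map is the map of localisations. -/
@[reassoc]
theorem preimageIso_inv_restrict {A A' : Type u} [CommRing A] [CommRing A'] (g : A →+* A') (F : A)
    (gF : Localization.Away F →+* Localization.Away (g F))
    (hgF : gF.comp (algebraMap A _) = (algebraMap A' _).comp g) :
    (preimageIso g F).inv ≫ (Spec.map (CommRingCat.ofHom g) ∣_ SGA1.specBasicOpen A F) =
      Spec.map (CommRingCat.ofHom gF) ≫ (basicIso A F).inv := by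
  rw [← cancel_mono (SGA1.specBasicOpen A F).ι, Category.assoc, morphismRestrict_ι, preimageIso_inv_ι_assoc,
    Category.assoc, basicIso_inv_ι, ← Spec.map_comp, ← Spec.map_comp]
  congr 1
  exact CommRingCat.hom_ext hgF.symm

/-- Algebraic data of a finite étale cover of a basic open. -/
theorem exists_algebra {A : Type u} [CommRing A] (F : A) (V : FEt.Cat (SGA1.specBasicOpen A F : Scheme.{u})) :
    ∃ (E : CommRingCat.{u}) (v : V.left ≅ Spec E) (ψ : Localization.Away F →+* E),
      RingHom.Finite ψ ∧ RingHom.Etale ψ ∧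
      v.inv ≫ V.hom ≫ (basicIso A F).hom = Spec.map (CommRingCat.ofHom ψ) ∧
      ∀ {r : ℕ} (f : Fin r → A) [∀ i, (Ideal.span {f i}).IsPrime],
        SGA1.IsTameAlong f (((V.hom ≫ (SGA1.specBasicOpen A F).ι).appTop).hom.comp
          (Scheme.ΓSpecIso (CommRingCat.of A)).inv.hom) → SGA1.IsTameAlong f (ψ.comp (algebraMap A _)) := by
  obtain ⟨hfin, het⟩ : IsFinite V.hom ∧ Etale V.hom := V.prop
  haveI := hfin
  haveI := het
  haveI : IsAffine (SGA1.specBasicOpen A F : Scheme.{u}) := .of_isIso (basicIso A F).hom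
  let q : V.left ⟶ (SGA1.specBasicOpen A F : Scheme.{u}) := V.hom
  haveI : IsFinite q := hfin
  haveI : Etale q := het
  haveI : IsAffine V.left := isAffine_of_isAffineHom q
  let v := V.left.isoSpec
  let G : Spec Γ(V.left, ⊤) ⟶ Spec (CommRingCat.of (Localization.Away F)) := v.inv ≫ q ≫ (basicIso A F).hom
  let ψ := Spec.preimage G
  have hψ : Spec.map ψ = G := Spec.map_preimage G
  refine ⟨Γ(V.left, ⊤), v, ψ.hom, ?_, ?_, by rw [CommRingCat.ofHom_hom, hψ], fun {_} f _ ht => ?_⟩
  · rw [← IsFinite.SpecMap_iff, hψ]; infer_instance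
  · rw [← HasRingHomProperty.Spec_iff (P := @Etale), hψ]; infer_instance
  · suffices h : CommRingCat.ofHom (algebraMap A (Localization.Away F)) ≫ ψ =
        (Scheme.ΓSpecIso (CommRingCat.of A)).inv ≫ (q ≫ (SGA1.specBasicOpen A F).ι).appTop ≫ 𝟙 _ from by
      rw [show ψ.hom.comp (algebraMap A _) = (CommRingCat.ofHom (algebraMap A (Localization.Away F)) ≫ ψ).hom from rfl, h]
      exact ht
    apply Spec.map_injective
    rw [Spec.map_comp, hψ, Category.comp_id, Spec.map_comp, ← basicIso_inv_ι]
    show (v.inv ≫ q ≫ (basicIso A F).hom) ≫ (basicIso A F).inv ≫ (SGA1.specBasicOpen A F).ι = _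
    simp only [Category.assoc, Iso.hom_inv_id_assoc]
    rw [Iso.inv_comp_eq, show v = V.left.isoSpec from rfl, Scheme.isoSpec_hom_naturality_assoc, Scheme.isoSpec_Spec_hom, ← Spec.map_comp,
      Iso.inv_hom_id, Spec.map_id, Category.comp_id]

/-- The cover given by a finite étale algebra. -/
def ofAlgebra (R B : Type u) [CommRing R] [CommRing B] [Algebra R B] [Module.Finite R B] [Algebra.Etale R B] :
    FEt.Cat (Spec (CommRingCat.of R)) :=
  MorphismProperty.Over.mk ⊤ (Spec.map (CommRingCat.ofHom (algebraMap R B)))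
    ⟨(IsFinite.SpecMap_iff _).2 (RingHom.finite_algebraMap.2 inferInstance),
      (HasRingHomProperty.Spec_iff (P := @Etale)).2 (RingHom.etale_algebraMap.2 inferInstance)⟩

/-- The pull back to a chart, computed by a tensor product. -/
theorem isPullback_chart {R S T : Type u} [CommRing R] [CommRing S] [CommRing T] [Algebra R S] [Algebra R T]
    {X Y Z : Scheme.{u}} {p : X ⟶ Y} {q : Z ⟶ Y} (x : X ≅ Spec (CommRingCat.of T)) (y : Y ≅ Spec (CommRingCat.of R))
    (z : Z ≅ Spec (CommRingCat.of S)) (hp : p ≫ y.hom = x.hom ≫ Spec.map (CommRingCat.ofHom (algebraMap R T)))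
    (hq : q ≫ y.hom = z.hom ≫ Spec.map (CommRingCat.ofHom (algebraMap R S))) :
    IsPullback (Spec.map (CommRingCat.ofHom (Algebra.TensorProduct.includeRight : T →ₐ[R] S ⊗[R] T).toRingHom) ≫ x.inv)
      (Spec.map (CommRingCat.ofHom (Algebra.TensorProduct.includeLeftRingHom : S →+* S ⊗[R] T)) ≫ z.inv) p q := by
  refine (isPullback_SpecMap_of_isPushout _ _ _ _ (CommRingCat.isPushout_tensorProduct R S T).flip).of_iso
    (Iso.refl _) x.symm z.symm y.symm ?_ ?_ ?_ ?_
  · simp
  · simp
  · rw [Iso.symm_hom, Iso.symm_hom, ← cancel_epi x.hom, Iso.hom_inv_id_assoc, ← cancel_mono y.hom]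
    simp [hp]
  · rw [Iso.symm_hom, Iso.symm_hom, ← cancel_epi z.hom, Iso.hom_inv_id_assoc, ← cancel_mono y.hom]
    simp [hq]

end AbhyLib
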