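import Groth.Agent.AbhyLib.KummerField
import Groth.Agent.AbhyLib.Downgrade
import Groth.Agent.AbhyLib.Embed

/-!
# The prime-to-`p` exponents already suffice
-/

set_option autoImplicit false
set_option linter.style.haveILetI false
set_option maxHeartbeats 2000000
set_option synthInstance.maxHeartbeats 200000

universe u

open IsLocalRing
open scoped TensorProduct

namespace AbhyLib

variable {A : Type u} [CommRing A] [IsRegularLocalRing A] [IsDomain A] {r : ℕ} {f : Fin r → A}

/-- A complete base with algebraically closed residue field and a prime over `p` avoiding the roots `i` with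
`p ∉ (f i)`. -/
theorem exists_base (hd : Data A f) [∀ i, (Ideal.span {f i}).IsPrime] {p : ℕ} (hpm : (p : A) ∈ maximalIdeal A)
    (hp0 : (p : A) ≠ 0) {m : Fin r → ℕ} (hm : ∀ i, 1 ≤ m i) :
    ∃ (R : Type u) (_ : CommRing R) (_ : IsRegularLocalRing R) (_ : IsDomain R) (_ : Algebra A R)
      (_ : HenselianLocalRing R) (_ : IsSepClosed (ResidueField R)),
      Data R (fun i => algebraMap A R (f i)) ∧ Function.Injective (algebraMap A R) ∧
      (∀ i, (Ideal.span {algebraMap A R (f i)}).IsPrime) ∧
      (∀ I : Ideal A, (I.map (algebraMap A R)).comap (algebraMap A R) = I) ∧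
      ∃ 𝔮 : Ideal (SGA1.kummerAlg R (fun i => algebraMap A R (f i)) m), 𝔮.IsPrime ∧
        (p : SGA1.kummerAlg R (fun i => algebraMap A R (f i)) m) ∈ 𝔮 ∧
        ∀ i, root R (fun i => algebraMap A R (f i)) m i ∈ 𝔮 → (p : A) ∈ Ideal.span {f i} := by
  obtain ⟨R, _, _, _, hcomp, halg, hff, hmR, hdim⟩ := PurityLib.exists_closed_extension A
  haveI := hcomp
  haveI := halg
  haveI := hff
  haveI : HenselianRing R (maximalIdeal R) := IsAdicComplete.henselianRing R (maximalIdeal R)
  haveI : HenselianLocalRing R := HenselLib.henselianLocalRing_of_henselianRing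
  haveI := CommAlgDim.isDomain_of_isRegularLocalRing R
  haveI : IsSepClosed (ResidueField R) := inferInstance
  have hdR : Data R (fun i => algebraMap A R (f i)) := hd.baseChange hmR hdim
  have hinjR : Function.Injective (algebraMap A R) := FaithfulSMul.algebraMap_injective A R
  haveI hPR : ∀ i, (Ideal.span {algebraMap A R (f i)}).IsPrime := fun i =>
    (Ideal.span_singleton_prime (kummer_ne_zero hdR.hm hdR.hf i).1).2
      (PurMuLib.prime_of_notMem_sq (hdR.hm i) (kummer_ne_zero hdR.hm hdR.hf i).2)
  refine ⟨R, inferInstance, inferInstance, inferInstance, inferInstance, inferInstance, inferInstance, hdR, hinjR, hPR,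
    fun I => Ideal.comap_map_eq_self_of_faithfullyFlat I, ?_⟩
  let fR : Fin r → R := fun i => algebraMap A R (f i)
  obtain ⟨hreg, -, hinj, hloc, -⟩ := kummer_facts R r fR hdR.hm hdR.hf m hm
  haveI := hreg
  haveI := hloc
  haveI := CommAlgDim.isDomain_of_isRegularLocalRing (SGA1.kummerAlg R fR m)
  let R'' := SGA1.kummerAlg R fR m
  have hpR : (p : R'') ∈ maximalIdeal R'' := by
    have h1 : algebraMap A R (p : A) ∈ maximalIdeal R := hmR ▸ Ideal.mem_map_of_mem _ hpm
    rw [map_natCast] at h1
    rw [← map_natCast (algebraMap R R'')]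
    exact map_nonunit (algebraMap R R'') _ h1
  obtain ⟨𝔮, h𝔮, -⟩ := Ideal.exists_minimalPrimes_le (I := Ideal.span {(p : R'')}) (J := maximalIdeal R'')
    ((Ideal.span_singleton_le_iff_mem _).2 hpR)
  haveI := h𝔮.1.1
  have hpq : (p : R'') ∈ 𝔮 := h𝔮.1.2 (Ideal.mem_span_singleton_self _)
  refine ⟨𝔮, inferInstance, hpq, fun i hi => ?_⟩
  have h0 : (p : R'') ≠ 0 := by
    rw [← map_natCast (algebraMap R R''), map_ne_zero_iff _ hinj, ← map_natCast (algebraMap A R),
      map_ne_zero_iff _ hinjR]
    exact hp0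
  have hht : 𝔮.height = 1 := le_antisymm (Ideal.height_le_one_of_isPrincipal_of_mem_minimalPrimes _ _ h𝔮)
    (ENat.one_le_iff_ne_zero.2 fun h => by
      rw [Ideal.height_eq_zero_iff, IsDomain.minimalPrimes_eq_singleton_bot, Set.mem_singleton_iff] at h
      exact h0 ((Ideal.mem_bot).1 (h ▸ hpq)))
  have heq := eq_span_root hdR hm 𝔮 hht hi
  rw [heq, ← map_natCast (algebraMap R R''), ← Ideal.mem_comap, (root_prime hdR.hm hdR.hf hm i).2,
    ← map_natCast (algebraMap A R), ← Ideal.mem_comap, ← Set.image_singleton, ← Ideal.map_span,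
    Ideal.comap_map_eq_self_of_faithfullyFlat] at hpq
  exact hpq

/-- The residue extension of a tame cover pulled back along prime-to-`p` exponents is separable. -/
theorem residue_separable (hd : Data A f) [∀ i, (Ideal.span {f i}).IsPrime] {E : Type u} [CommRing E] [Algebra A E]
    (htame : SGA1.IsTameAlong f (algebraMap A E)) (sE : Finset E)
    (hsE : ∀ e : E, ∃ a : A, a ≠ 0 ∧ a • e ∈ Submodule.span A (sE : Set E))
    {m : Fin r → ℕ} (hm : ∀ i, 1 ≤ m i) (hmu : ∀ i, IsUnit ((m i : ℕ) : A))
    {K'' L'' : Type u} [Field K''] [Algebra (SGA1.kummerAlg A f m) K''] [IsFractionRing (SGA1.kummerAlg A f m) K'']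
    [Algebra A K''] [IsScalarTower A (SGA1.kummerAlg A f m) K''] [Field L''] [Algebra A L''] [Algebra K'' L'']
    [IsScalarTower A K'' L''] [FiniteDimensional K'' L''] (ψ : E →ₐ[A] L'')
    (hgen : IntermediateField.adjoin K'' (Set.range ψ) = ⊤) (i : Fin r) [(Ideal.span {root A f m i}).IsPrime]
    [Algebra (Localization.AtPrime (Ideal.span {root A f m i})) K'']
    [IsScalarTower (SGA1.kummerAlg A f m) (Localization.AtPrime (Ideal.span {root A f m i})) K'']
    (V : ValuationSubring L'') (hV : EtRam.Dominates (Localization.AtPrime (Ideal.span {root A f m i}))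
      ((algebraMap K'' L'').comp (algebraMap (Localization.AtPrime (Ideal.span {root A f m i})) K'')) V) :
    letI : Algebra (Localization.AtPrime (Ideal.span {root A f m i})) V :=
      (RingHom.codRestrict ((algebraMap K'' L'').comp
        (algebraMap (Localization.AtPrime (Ideal.span {root A f m i})) K'')) V hV.1).toAlgebra
    ∀ [IsLocalHom (algebraMap (Localization.AtPrime (Ideal.span {root A f m i})) V)],
      Algebra.IsSeparable (ResidueField (Localization.AtPrime (Ideal.span {root A f m i}))) (ResidueField V) := by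
  letI : Algebra (Localization.AtPrime (Ideal.span {root A f m i})) V :=
      (RingHom.codRestrict ((algebraMap K'' L'').comp
        (algebraMap (Localization.AtPrime (Ideal.span {root A f m i})) K'')) V hV.1).toAlgebra
  intro hlV
  obtain ⟨hreg, -, hinj, -⟩ := kummer_facts A r f hd.hm hd.hf m hm
  haveI := hreg
  haveI := CommAlgDim.isDomain_of_isRegularLocalRing (SGA1.kummerAlg A f m)
  let A'' := SGA1.kummerAlg A f m
  let P := Ideal.span {f i}
  let P' := Ideal.span {root A f m i}
  let AP := Localization.AtPrime P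
  let D := Localization.AtPrime P'
  obtain ⟨hdvrP, hirrP⟩ := atPrime_dvr hd i
  haveI := hdvrP
  haveI : IsDomain AP := IsLocalization.isDomain_localization P.primeCompl_le_nonZeroDivisors
  haveI : P'.LiesOver P := ⟨(root_prime hd.hm hd.hf hm i).2.symm⟩
  letI : Algebra AP D := Localization.AtPrime.algebraOfLiesOver P P'
  haveI hlD : IsLocalHom (algebraMap AP D) :=
    Localization.isLocalHom_localRingHom P P' (algebraMap A A'') (P'.over_def P)
  let K := FractionRing A
  have hinjK : Function.Injective (algebraMap A K'') := by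
    rw [IsScalarTower.algebraMap_eq A A'' K'']
    exact (IsFractionRing.injective _ K'').comp hinj
  letI : Algebra K K'' := (IsFractionRing.lift hinjK).toAlgebra
  haveI : IsScalarTower A K K'' :=
    IsScalarTower.of_algebraMap_eq fun a => (IsFractionRing.lift_algebraMap hinjK a).symm
  letI : Algebra K L'' := ((algebraMap K'' L'').comp (algebraMap K K'')).toAlgebra
  haveI : IsScalarTower K K'' L'' := IsScalarTower.of_algebraMap_eq fun _ => rfl
  haveI : IsScalarTower A K L'' := IsScalarTower.of_algebraMap_eq fun a => by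
    show algebraMap A L'' a = algebraMap K'' L'' (algebraMap K K'' (algebraMap A K a))
    rw [← IsScalarTower.algebraMap_apply A K K'', ← IsScalarTower.algebraMap_apply A K'' L'']
  haveI : FiniteDimensional K K'' := finiteDimensional_field (A := A) (f := f) hm
  haveI : FiniteDimensional K L'' := FiniteDimensional.trans K K'' L''
  haveI : Algebra.IsSeparable K K'' := isSeparable_field (f := f) hd.ne_zero fun j => by
    rw [← map_natCast (algebraMap A K), map_ne_zero_iff _ (IsFractionRing.injective A K)]
    exact (hmu j).ne_zero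
  have huK : ∀ y : P.primeCompl, IsUnit (algebraMap A K y) := fun y =>
    Ne.isUnit ((map_ne_zero_iff _ (IsFractionRing.injective A K)).2 fun h => y.2 (h ▸ P.zero_mem))
  letI : Algebra AP K := (IsLocalization.lift (M := P.primeCompl) huK).toAlgebra
  haveI : IsScalarTower A AP K := IsScalarTower.of_algebraMap_eq fun a => (IsLocalization.lift_eq huK a).symm
  haveI : IsFractionRing AP K := IsFractionRing.isFractionRing_of_isLocalization P.primeCompl AP K P.primeCompl_le_nonZeroDivisors
  have hAPK : ∀ x : AP, algebraMap K K'' (algebraMap AP K x) = algebraMap D K'' (algebraMap AP D x) :=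
    DFunLike.congr_fun (IsLocalization.ringHom_ext P.primeCompl
      (j := (algebraMap K K'').comp (algebraMap AP K)) (k := (algebraMap D K'').comp (algebraMap AP D))
      (RingHom.ext fun a => by
        show algebraMap K K'' (algebraMap AP K (algebraMap A AP a)) = algebraMap D K'' (algebraMap AP D (algebraMap A AP a))
        rw [show algebraMap AP D (algebraMap A AP a) = algebraMap A'' D (algebraMap A A'' a) from
            Localization.localRingHom_to_map P P' (algebraMap A A'') (P'.over_def P) a,
          ← IsScalarTower.algebraMap_apply A AP K, ← IsScalarTower.algebraMap_apply A K K'',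
          ← IsScalarTower.algebraMap_apply A'' D K'', ← IsScalarTower.algebraMap_apply A A'' K'']))
  obtain ⟨L, _, _, _, _, _, -, hgenA, htL⟩ := residue_setup (K := K) (K' := K'') htame i ψ hgen sE hsE
  -- the Kummer extension is tame
  let t : Fin r → K'' := fun j => algebraMap A'' K'' (root A f m j)
  let gK : AP →+* K'' := (algebraMap K K'').comp (algebraMap AP K)
  have hcl : ∀ x : A'', algebraMap A'' K'' x ∈ Subring.closure (Set.range gK ∪ Set.range t) := fun x => by
    have hx : x ∈ Algebra.adjoin A (Set.range (root A f m)) := adjoin_root A f m ▸ Algebra.mem_top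
    induction hx using Algebra.adjoin_induction with
    | mem y hy =>
      obtain ⟨j, rfl⟩ := hy
      exact Subring.subset_closure (Or.inr ⟨j, rfl⟩)
    | algebraMap c =>
      refine Subring.subset_closure (Or.inl ⟨algebraMap A AP c, ?_⟩)
      show algebraMap K K'' (algebraMap AP K (algebraMap A AP c)) = _
      rw [← IsScalarTower.algebraMap_apply A AP K, ← IsScalarTower.algebraMap_apply A K K'',
        ← IsScalarTower.algebraMap_apply A A'' K'']
    | add y z _ _ hy hz => rw [map_add]; exact add_mem hy hz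
    | mul y z _ _ hy hz => rw [map_mul]; exact mul_mem hy hz
  have htK : EtRam.IsTamelyRamified AP gK := TameKummerLib.isTamelyRamified_of_radical gK
    ((algebraMap K K'').injective.comp (IsFractionRing.injective AP K)) i m
    (fun j => by rw [← map_natCast (algebraMap A AP)]; exact (hmu j).map _)
    (fun j => algebraMap A AP (f j)) hirrP
    (fun j hj => IsLocalization.map_units AP (⟨f j, hd.notMem hj⟩ : P.primeCompl)) t
    (fun j => by
      show algebraMap A'' K'' (root A f m j) ^ m j = algebraMap K K'' (algebraMap AP K (algebraMap A AP (f j)))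
      rw [root_pow_map (K := K), ← IsScalarTower.algebraMap_apply A AP K])
    (fun x => by
      obtain ⟨b, c, hc, rfl⟩ := IsFractionRing.div_surjective A'' x
      exact ⟨_, _, hcl b, hcl c, (map_ne_zero_iff _ (IsFractionRing.injective A'' K'')).2 (nonZeroDivisors.ne_zero hc),
        rfl⟩)
  have htM := EtRamTameLib.tame_sup (A := AP) (K := K) (L := L) (K₁ := K'') (M := L'') hgenA htL htK
  have hgV : ∀ x : AP, (algebraMap K L'').comp (algebraMap AP K) x =
      (algebraMap K'' L'').comp (algebraMap D K'') (algebraMap AP D x) := fun x => by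
    show algebraMap K'' L'' (algebraMap K K'' (algebraMap AP K x)) = _
    rw [hAPK]; rfl
  have hVA : EtRam.Dominates AP ((algebraMap K L'').comp (algebraMap AP K)) V :=
    ⟨fun x => by rw [hgV]; exact hV.1 _,
      fun x hx => by rw [hgV]; exact hV.2 _ fun h => hx (isUnit_of_map_unit (algebraMap AP D) x h)⟩
  letI : Algebra AP V := (RingHom.codRestrict ((algebraMap K L'').comp (algebraMap AP K)) V hVA.1).toAlgebra
  haveI : IsLocalHom (algebraMap AP V) := EtRamTameLib.isLocalHom_of_dominates V hVA
  haveI : IsScalarTower (ResidueField AP) (ResidueField D) (ResidueField V) := IsScalarTower.of_algebraMap_eq fun c => by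
    obtain ⟨c, rfl⟩ := residue_surjective c
    show residue V (algebraMap AP V c) = residue V (algebraMap D V (algebraMap AP D c))
    exact congrArg _ (Subtype.ext (hgV c))
  haveI : Algebra.IsSeparable (ResidueField AP) (ResidueField V) := (htM V hVA).1
  exact Algebra.isSeparable_tower_top_of_isSeparable (ResidueField AP) (ResidueField D) (ResidueField V)

/-- The image of a prime of a localisation avoids the inverted elements. -/
theorem comap_le_of_atPrime {R : Type u} [CommRing R] (p : Ideal R) [p.IsPrime]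
    (Q : Ideal (Localization.AtPrime p)) [hQ : Q.IsPrime] : Q.comap (algebraMap R _) ≤ p := fun x hx => by
  by_contra h
  exact hQ.ne_top (Ideal.eq_top_of_isUnit_mem _ hx (IsLocalization.map_units _ (⟨x, h⟩ : p.primeCompl)))

/-- Contracting to before a localisation at a prime keeps the height. -/
theorem height_comap_atPrime {R : Type u} [CommRing R] (p : Ideal R) [p.IsPrime]
    (Q : Ideal (Localization.AtPrime p)) [Q.IsPrime] : (Q.comap (algebraMap R _)).height = Q.height :=
  IsLocalization.height_under p.primeCompl Q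

set_option maxHeartbeats 4000000 in
/-- Unramifiedness at a root with changed exponent. -/
theorem unr_changed (hd : Data A f) [∀ i, (Ideal.span {f i}).IsPrime]
    {E : Type u} [CommRing E] [Algebra A E] (htame : SGA1.IsTameAlong f (algebraMap A E)) (sE : Finset E)
    (hsE : ∀ e : E, ∃ a : A, a ≠ 0 ∧ a • e ∈ Submodule.span A (sE : Set E))
    {p k : ℕ} (hp : p.Prime) {N m : Fin r → ℕ}
    (hN : ∀ i, 1 ≤ N i) (hm : ∀ i, 1 ≤ m i) (hmu : ∀ i, IsUnit ((m i : ℕ) : A)) (a : Fin r → ℕ)
    (hNm : ∀ i, N i = m i * a i) (ha : ∀ i, a i ∣ p ^ k)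
    (B : Type u) [CommRing B] [Algebra (SGA1.kummerAlg A f N) B] [Module.Finite (SGA1.kummerAlg A f N) B]
    [Algebra.Etale (SGA1.kummerAlg A f N) B]
    (hB : ∀ (Ω : Type u) [Field Ω] (j : SGA1.kummerAlg A f N →+* Ω) (h : E →+* Ω),
      h.comp (algebraMap A E) = j.comp (algebraMap A _) → j (algebraMap A _ (∏ i, f i)) ≠ 0 →
      ∃ χ : B →+* Ω, χ.comp (algebraMap (SGA1.kummerAlg A f N) B) = j ∧ Set.range h ⊆ Subfield.closure (Set.range χ))
    {R : Type u} [CommRing R] [IsRegularLocalRing R] [IsDomain R] [Algebra A R] [HenselianLocalRing R]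
    [IsSepClosed (ResidueField R)] (hdR : Data R (fun i => algebraMap A R (f i)))
    [hPR : ∀ i, (Ideal.span {algebraMap A R (f i)}).IsPrime] (hinjR : Function.Injective (algebraMap A R))
    (hcomap : ∀ I : Ideal A, (I.map (algebraMap A R)).comap (algebraMap A R) = I)
    (𝔮 : Ideal (SGA1.kummerAlg R (fun i => algebraMap A R (f i)) m)) [𝔮.IsPrime]
    (hp𝔮 : (p : SGA1.kummerAlg R (fun i => algebraMap A R (f i)) m) ∈ 𝔮)
    {K'' L'' : Type u} [Field K''] [Algebra (SGA1.kummerAlg A f m) K''] [IsFractionRing (SGA1.kummerAlg A f m) K'']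
    [Algebra A K''] [IsScalarTower A (SGA1.kummerAlg A f m) K''] [Field L''] [Algebra A L''] [Algebra K'' L'']
    [IsScalarTower A K'' L''] [Algebra (SGA1.kummerAlg A f m) L''] [IsScalarTower (SGA1.kummerAlg A f m) K'' L'']
    [FiniteDimensional K'' L''] [Algebra.IsSeparable K'' L'']
    (ψ : E →ₐ[A] L'') (hgen : IntermediateField.adjoin K'' (Set.range ψ) = ⊤)
    (hB0 : ∀ (q0 : Ideal (SGA1.kummerAlg A f m)) [q0.IsPrime],
      (∀ j, root A f m j ∈ q0 → root R (fun i => algebraMap A R (f i)) m j ∈ 𝔮) →
      ∀ [Algebra (Localization.AtPrime q0) L'']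
        [IsScalarTower (SGA1.kummerAlg A f m) (Localization.AtPrime q0) L''],
        UnrCodimOne (Localization.AtPrime q0) L'')
    (i : Fin r) [(Ideal.span {root A f m i}).IsPrime]
    (g : Localization.AtPrime (Ideal.span {root A f m i}) →+* L'')
    (hg : g.comp (algebraMap (SGA1.kummerAlg A f m) _) = algebraMap _ L'') :
    EtRam.IsUnramifiedExt (Localization.AtPrime (Ideal.span {root A f m i})) g := by
  obtain ⟨hreg, hfin, hinj, -⟩ := kummer_facts A r f hd.hm hd.hf m hm
  haveI := hreg
  haveI := hfin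
  haveI := CommAlgDim.isDomain_of_isRegularLocalRing (SGA1.kummerAlg A f m)
  haveI : ∀ j, (Ideal.span {root A f m j}).IsPrime := fun j => prime_span_root hd m hm j
  let A'' := SGA1.kummerAlg A f m
  let fR : Fin r → R := fun i => algebraMap A R (f i)
  let R'' := SGA1.kummerAlg R fR m
  obtain ⟨hregR'', -, hinjR'', -⟩ := kummer_facts R r fR hdR.hm hdR.hf m hm
  haveI := hregR''
  haveI := CommAlgDim.isDomain_of_isRegularLocalRing R''
  haveI : ∀ j, (Ideal.span {root R fR m j}).IsPrime := fun j => prime_span_root hdR m hm j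
  let θ : A'' →ₐ[A] R'' := kummerHom f m (fun j => root R fR m j) (fun j => by
    rw [root_pow, IsScalarTower.algebraMap_apply A R R''])
  have hθroot : ∀ j, θ (root A f m j) = root R fR m j := kummerHom_root _ _ _ _
  let F := FractionRing R''
  have hθinj : Function.Injective θ := by
    change Function.Injective (θ : A'' →+* R'')
    haveI : Algebra.IsIntegral A A'' := Algebra.IsIntegral.of_finite A A''
    rw [RingHom.injective_iff_ker_eq_bot]
    refine Ideal.eq_bot_of_comap_eq_bot (R := A) ?_
    rw [RingHom.comap_ker, AlgHom.comp_algebraMap, ← RingHom.injective_iff_ker_eq_bot, IsScalarTower.algebraMap_eq A R R'']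
    exact hinjR''.comp hinjR
  have hinjF : Function.Injective ((algebraMap R'' F).comp (θ : A'' →+* R'')) :=
    (IsFractionRing.injective R'' F).comp hθinj
  let ιK : K'' →+* F := IsFractionRing.lift hinjF
  have hι : ∀ x : A'', ιK (algebraMap A'' K'' x) = algebraMap R'' F (θ x) := IsFractionRing.lift_algebraMap hinjF
  have hιK : ∀ j, ιK (algebraMap A'' K'' (root A f m j)) = algebraMap R'' F (root R fR m j) := fun j => by
    rw [hι, hθroot]
  have hιA : ∀ x : A, ιK (algebraMap A K'' x) = algebraMap R'' F (algebraMap R R'' (algebraMap A R x)) := fun x => by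
    rw [IsScalarTower.algebraMap_apply A A'' K'', hι, AlgHom.commutes, ← IsScalarTower.algebraMap_apply A R R'']
  let P := Ideal.span {root A f m i}
  let P₁ := Ideal.span {root R fR m i}
  have hcomapθ : P = P₁.comap (θ : A'' →+* R'') := by
    have hle : P ≤ P₁.comap (θ : A'' →+* R'') :=
      (Ideal.span_singleton_le_iff_mem _).2 (by
        show θ (root A f m i) ∈ P₁
        rw [hθroot]; exact Ideal.mem_span_singleton_self _)
    rcases hle.eq_or_lt with h | h
    · exact h
    · obtain ⟨-, x, hx, hxP⟩ := SetLike.lt_iff_le_and_exists.1 h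
      have hlt := Ideal.comap_lt_comap_of_integral_mem_sdiff (R := A) hle ⟨hx, hxP⟩
        ((Algebra.IsIntegral.of_finite A A'').isIntegral x)
      exfalso
      rw [Ideal.comap_comap, AlgHom.comp_algebraMap, IsScalarTower.algebraMap_eq A R R'', ← Ideal.comap_comap,
        (root_prime hdR.hm hdR.hf hm i).2, ← Set.image_singleton, ← Ideal.map_span, hcomap,
        (root_prime hd.hm hd.hf hm i).2] at hlt
      exact lt_irrefl _ hlt
  let D := Localization.AtPrime P
  let D₁ := Localization.AtPrime P₁
  obtain ⟨hdvrD, hirrD⟩ := atPrime_dvr (hd.kummer hm) i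
  obtain ⟨hdvrD₁, hirrD₁⟩ := atPrime_dvr (hdR.kummer hm) i
  haveI := hdvrD
  haveI := hdvrD₁
  haveI : IsDomain D := IsLocalization.isDomain_localization P.primeCompl_le_nonZeroDivisors
  haveI : IsDomain D₁ := IsLocalization.isDomain_localization P₁.primeCompl_le_nonZeroDivisors
  letI : Algebra D D₁ := (Localization.localRingHom P P₁ (θ : A'' →+* R'') hcomapθ).toAlgebra
  haveI : IsLocalHom (algebraMap D D₁) := Localization.isLocalHom_localRingHom P P₁ (θ : A'' →+* R'') hcomapθ
  have hu : ∀ y : P.primeCompl, IsUnit (algebraMap A'' K'' y) := fun y =>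
    Ne.isUnit ((map_ne_zero_iff _ (IsFractionRing.injective A'' K'')).2 fun h => y.2 (h ▸ P.zero_mem))
  letI : Algebra D K'' := (IsLocalization.lift (M := P.primeCompl) hu).toAlgebra
  haveI : IsScalarTower A'' D K'' := IsScalarTower.of_algebraMap_eq fun x => (IsLocalization.lift_eq hu x).symm
  haveI : IsFractionRing D K'' := IsFractionRing.isFractionRing_of_isLocalization P.primeCompl D K'' P.primeCompl_le_nonZeroDivisors
  have hu₁ : ∀ y : P₁.primeCompl, IsUnit (algebraMap R'' F y) := fun y =>
    Ne.isUnit ((map_ne_zero_iff _ (IsFractionRing.injective R'' F)).2 fun h => y.2 (h ▸ P₁.zero_mem))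
  letI : Algebra D₁ F := (IsLocalization.lift (M := P₁.primeCompl) hu₁).toAlgebra
  haveI : IsScalarTower R'' D₁ F := IsScalarTower.of_algebraMap_eq fun x => (IsLocalization.lift_eq hu₁ x).symm
  haveI : IsFractionRing D₁ F := IsFractionRing.isFractionRing_of_isLocalization P₁.primeCompl D₁ F P₁.primeCompl_le_nonZeroDivisors
  letI : Algebra K'' F := ιK.toAlgebra
  have hθD : ∀ x : A'', algebraMap D D₁ (algebraMap A'' D x) = algebraMap R'' D₁ (θ x) := fun x =>
    Localization.localRingHom_to_map P P₁ (θ : A'' →+* R'') hcomapθ x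
  have hDR : ∀ d : D, algebraMap K'' F (algebraMap D K'' d) = algebraMap D₁ F (algebraMap D D₁ d) :=
    DFunLike.congr_fun (IsLocalization.ringHom_ext P.primeCompl
      (j := (algebraMap K'' F).comp (algebraMap D K'')) (k := (algebraMap D₁ F).comp (algebraMap D D₁))
      (RingHom.ext fun x => by
        show ιK (algebraMap D K'' (algebraMap A'' D x)) = algebraMap D₁ F (algebraMap D D₁ (algebraMap A'' D x))
        rw [← IsScalarTower.algebraMap_apply A'' D K'', hι, hθD, ← IsScalarTower.algebraMap_apply R'' D₁ F]))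
  have hirr₁ : Irreducible (algebraMap D D₁ (algebraMap A'' D (root A f m i))) := by rw [hθD, hθroot]; exact hirrD₁
  have hgeq : g = (algebraMap K'' L'').comp (algebraMap D K'') :=
    IsLocalization.ringHom_ext P.primeCompl (hg.trans (RingHom.ext fun x => by
      show _ = algebraMap K'' L'' (algebraMap D K'' (algebraMap A'' D x))
      rw [← IsScalarTower.algebraMap_apply A'' D K'', ← IsScalarTower.algebraMap_apply A'' K'' L'']))
  subst hgeq
  intro V hV
  letI : Algebra D V := (RingHom.codRestrict ((algebraMap K'' L'').comp (algebraMap D K'')) V hV.1).toAlgebra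
  intro hlV
  obtain ⟨π0, hp0, hp1⟩ : ∃ π : D, Irreducible π ∧ Irreducible (algebraMap D D₁ π) := ⟨_, hirrD, hirr₁⟩
  have hemb : ∀ (Ω : Type u) [Field Ω] (j : F →+* Ω) (φ : L'' →+* Ω),
      φ.comp (algebraMap K'' L'') = j.comp (algebraMap K'' F) → ∀ x : L'', φ x ∈ j.fieldRange :=
    fun Ω _ j φ hφ => embedding_range hd hp hN hm a hNm ha B hB hdR hinjR 𝔮 hp𝔮 ψ hgen hB0 ιK hιK hιA j φ hφ
  have hw := weaklyUnramified_of_embeddings (D := D) (K := K'') (L := L'') (R := D₁) (F := F) (π := π0) hDR hp0 hp1 hemb
  exact ⟨hw V hV, residue_separable hd htame sE hsE hm hmu ψ hgen i V hV⟩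

set_option maxHeartbeats 4000000 in
/-- **Prime-to-`p` exponents suffice.** -/
theorem unrCodimOne_small (hd : Data A f) [∀ i, (Ideal.span {f i}).IsPrime]
    {AF E : Type u} [CommRing AF] [CommRing E] [Algebra A AF] [IsLocalization.Away (∏ i, f i) AF] [Algebra A E]
    [Algebra AF E] [IsScalarTower A AF E] [Module.Finite AF E] [Algebra.Etale AF E]
    (htame : SGA1.IsTameAlong f (algebraMap A E)) (sE : Finset E)
    (hsE : ∀ e : E, ∃ a : A, a ≠ 0 ∧ a • e ∈ Submodule.span A (sE : Set E))
    {p k : ℕ} (hp : p.Prime) (hpm : (p : A) ∈ maximalIdeal A) (hp0 : (p : A) ≠ 0) {N m : Fin r → ℕ}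
    (hN : ∀ i, 1 ≤ N i) (hm : ∀ i, 1 ≤ m i) (hmu : ∀ i, IsUnit ((m i : ℕ) : A)) (a : Fin r → ℕ)
    (hNm : ∀ i, N i = m i * a i) (ha : ∀ i, a i ∣ p ^ k)
    (hdiv : ∀ i, ∀ e : ℕ, e ≤ sE.card → (e : ResidueField (Localization.AtPrime (Ideal.span {f i}))) ≠ 0 → e ∣ N i)
    (hchg : ∀ i, (p : A) ∈ Ideal.span {f i} → a i = 1)
    (B : Type u) [CommRing B] [Algebra (SGA1.kummerAlg A f N) B] [Module.Finite (SGA1.kummerAlg A f N) B]
    [Algebra.Etale (SGA1.kummerAlg A f N) B]
    (hB : ∀ (Ω : Type u) [Field Ω] (j : SGA1.kummerAlg A f N →+* Ω) (h : E →+* Ω),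
      h.comp (algebraMap A E) = j.comp (algebraMap A _) → j (algebraMap A _ (∏ i, f i)) ≠ 0 →
      ∃ χ : B →+* Ω, χ.comp (algebraMap (SGA1.kummerAlg A f N) B) = j ∧ Set.range h ⊆ Subfield.closure (Set.range χ))
    {K'' L'' : Type u} [Field K''] [Algebra (SGA1.kummerAlg A f m) K''] [IsFractionRing (SGA1.kummerAlg A f m) K'']
    [Algebra A K''] [IsScalarTower A (SGA1.kummerAlg A f m) K''] [Field L''] [Algebra A L''] [Algebra K'' L'']
    [IsScalarTower A K'' L''] [Algebra (SGA1.kummerAlg A f m) L''] [IsScalarTower (SGA1.kummerAlg A f m) K'' L'']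
    [IsScalarTower A (SGA1.kummerAlg A f m) L''] [FiniteDimensional K'' L''] [Algebra.IsSeparable K'' L'']
    (ψ : E →ₐ[A] L'') (hgen : IntermediateField.adjoin K'' (Set.range ψ) = ⊤) :
    UnrCodimOne (SGA1.kummerAlg A f m) L'' := by
  intro q hqp hq g hg
  by_cases hc : ∀ i, root A f m i ∈ q → a i = 1
  · exact unr_at_prime (AF := AF) hd hm htame sE hsE ψ hgen q hq (fun i hi e he hne => by
      have h := hdiv i e he hne
      rwa [hNm, hc i hi, mul_one] at h) g hg
  push Not at hc
  obtain ⟨i, hi, hai⟩ := hc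
  have hpi : (p : A) ∉ Ideal.span {f i} := fun h => hai (hchg i h)
  obtain ⟨hreg, hfin, hinj, -⟩ := kummer_facts A r f hd.hm hd.hf m hm
  haveI := hreg
  haveI := hfin
  haveI := CommAlgDim.isDomain_of_isRegularLocalRing (SGA1.kummerAlg A f m)
  haveI : ∀ j, (Ideal.span {root A f m j}).IsPrime := fun j => prime_span_root hd m hm j
  obtain rfl := eq_span_root hd hm q hq hi
  obtain ⟨R, _, _, _, _, _, _, hdR, hinjR, hPR, hcomap, 𝔮, h𝔮, hp𝔮, havoid⟩ := exists_base hd hpm hp0 hm
  haveI := h𝔮
  haveI := hPR
  let A'' := SGA1.kummerAlg A f m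
  let fR : Fin r → R := fun i => algebraMap A R (f i)
  let R'' := SGA1.kummerAlg R fR m
  obtain ⟨hregR'', -, hinjR'', -⟩ := kummer_facts R r fR hdR.hm hdR.hf m hm
  haveI := hregR''
  haveI := CommAlgDim.isDomain_of_isRegularLocalRing R''
  haveI : ∀ j, (Ideal.span {root R fR m j}).IsPrime := fun j => prime_span_root hdR m hm j
  have hB0 : ∀ (q0 : Ideal A'') [q0.IsPrime], (∀ j, root A f m j ∈ q0 → root R fR m j ∈ 𝔮) →
      ∀ [Algebra (Localization.AtPrime q0) L''] [IsScalarTower A'' (Localization.AtPrime q0) L''],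
        UnrCodimOne (Localization.AtPrime q0) L'' := by
    intro q0 _ hq0 _ _
    have key : ∀ (Q0 : Ideal A'') [Q0.IsPrime], Q0 ≤ q0 → Q0.height = 1 → ∀ g' : Localization.AtPrime Q0 →+* L'',
        g'.comp (algebraMap A'' _) = algebraMap A'' L'' → EtRam.IsUnramifiedExt (Localization.AtPrime Q0) g' :=
      fun Q0 _ hle hQ0 g' hg' => unr_at_prime (AF := AF) hd hm htame sE hsE ψ hgen Q0 hQ0 (fun j hj e he hne => by
        have h := hdiv j e he hne
        rwa [hNm, hchg j (havoid j (hq0 j (hle hj))), mul_one] at h) g' hg'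
    exact UnrCodimOne.localization q0.primeCompl fun Q _ hQ g' hg' =>
      key _ (comap_le_of_atPrime q0 Q) ((height_comap_atPrime q0 Q).trans hQ) g' hg'
  exact unr_changed hd htame sE hsE hp hN hm hmu a hNm ha B hB hdR hinjR hcomap 𝔮 hp𝔮 ψ hgen hB0 i g hg

end AbhyLib
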