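import Groth.Agent.PurityLib.Normal
import Groth.Prelude.Def_EtRam
import Mathlib.RingTheory.DiscreteValuationRing.TFAE
import Mathlib.RingTheory.DedekindDomain.IntegralClosure
import Mathlib.RingTheory.Etale.Field

/-!
# Normalisation in a field extension unramified in codimension one

Over a regular domain, the integral closure in a finite separable extension which is unramified at every
prime of height one is finite étale (purity of the branch locus).
-/

set_option autoImplicit false
set_option linter.style.haveILetI false
set_option maxHeartbeats 1000000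
set_option synthInstance.maxHeartbeats 100000

universe u

open IsLocalRing
open scoped TensorProduct

namespace AbhyLib

/-- The hypothesis "unramified at every prime of height one". -/
def UnrCodimOne (R L : Type u) [CommRing R] [Field L] [Algebra R L] : Prop :=
  ∀ (q : Ideal R) [q.IsPrime], q.height = 1 → ∀ g : Localization.AtPrime q →+* L,
    g.comp (algebraMap R (Localization.AtPrime q)) = algebraMap R L → EtRam.IsUnramifiedExt (Localization.AtPrime q) g

/-- The valuation subring given by a valuation ring with fraction field `L`. -/
def valOfRange (D L : Type u) [CommRing D] [IsDomain D] [ValuationRing D] [Field L] [Algebra D L]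
    [IsFractionRing D L] : ValuationSubring L :=
  { (algebraMap D L).range with
    mem_or_inv_mem' := fun x => by
      rcases ValuationRing.isInteger_or_isInteger D x with h | h
      · exact Or.inl h
      · exact Or.inr h }

noncomputable def valEquiv (D L : Type u) [CommRing D] [IsDomain D] [ValuationRing D] [Field L] [Algebra D L]
    [IsFractionRing D L] : D ≃+* valOfRange D L :=
  RingEquiv.ofBijective ((algebraMap D L).codRestrict (valOfRange D L) fun d => ⟨d, rfl⟩)
    ⟨fun _ _ h => IsFractionRing.injective D L (congrArg Subtype.val h), fun ⟨_, d, hd⟩ => ⟨d, Subtype.ext hd⟩⟩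

theorem formallyUnramified_atPrime {A B L : Type u} [CommRing A] [IsDomain A] [CommRing B] [IsDomain B]
    [IsIntegrallyClosed B] [IsNoetherianRing B] [Algebra A B] [Module.Finite A B] [Field L] [Algebra A L] [Algebra B L]
    [IsScalarTower A B L] [IsFractionRing B L] (hinj : Function.Injective (algebraMap A B))
    (hunr : UnrCodimOne A L) (Q : Ideal B) [Q.IsPrime] (hQ : Q.height = 1) (hQ1 : (Q.under A).height ≤ 1) :
    Algebra.IsUnramifiedAt A Q := by
  classical
  let q := Q.under A
  let D := Localization.AtPrime Q
  haveI : Q.LiesOver q := ⟨rfl⟩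
  haveI : IsDomain D := IsLocalization.isDomain_localization Q.primeCompl_le_nonZeroDivisors
  haveI : IsNoetherianRing D := IsLocalization.isNoetherianRing Q.primeCompl D inferInstance
  haveI : IsIntegrallyClosed D := isIntegrallyClosed_of_isLocalization D Q.primeCompl Q.primeCompl_le_nonZeroDivisors
  haveI : Algebra.IsIntegral A B := Algebra.IsIntegral.of_finite A B
  haveI : FaithfulSMul A B := (faithfulSMul_iff_algebraMap_injective A B).2 hinj
  have hQ0 : Q ≠ ⊥ := fun h => by rw [h, Ideal.height_bot] at hQ; exact zero_ne_one hQ
  have hq : q.height = 1 := le_antisymm hQ1 (ENat.one_le_iff_ne_zero.2 fun h0 => hQ0 (by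
    rw [Ideal.height_eq_zero_iff, IsDomain.minimalPrimes_eq_singleton_bot, Set.mem_singleton_iff] at h0
    exact Ideal.eq_bot_of_comap_eq_bot (R := A) h0))
  have hdim : (maximalIdeal D).height = 1 := by
    rw [← hQ, ← IsLocalization.height_under Q.primeCompl, Localization.AtPrime.comap_maximalIdeal]
  have hm0 : maximalIdeal D ≠ ⊥ := fun h => by rw [h, Ideal.height_bot] at hdim; exact zero_ne_one hdim
  have hnf : ¬ IsField D := fun h => hm0 ((IsLocalRing.isField_iff_maximalIdeal_eq).1 h)
  haveI : IsDiscreteValuationRing D := by
    have h4 : IsIntegrallyClosed D ∧ ∃! P : Ideal D, P ≠ ⊥ ∧ P.IsPrime :=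
      ⟨inferInstance, maximalIdeal D, ⟨hm0, inferInstance⟩, fun P ⟨hP0, hP⟩ => by
        rcases (IsLocalRing.le_maximalIdeal hP.ne_top).eq_or_lt with h | h
        · exact h
        · have hlt := Ideal.height_strict_mono_of_isPrime h
          rw [hdim, ENat.lt_one_iff_eq_zero, Ideal.height_eq_zero_iff, IsDomain.minimalPrimes_eq_singleton_bot,
            Set.mem_singleton_iff] at hlt
          exact absurd hlt hP0⟩
    exact ((IsDiscreteValuationRing.TFAE D hnf).out 3 0).1 h4
  let jD : D →+* L := IsLocalization.lift (M := Q.primeCompl) (g := algebraMap B L) fun s =>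
    (Ne.isUnit ((map_ne_zero_iff _ (IsFractionRing.injective B L)).2 fun h => s.2 (h ▸ Q.zero_mem)))
  letI : Algebra D L := jD.toAlgebra
  haveI : IsScalarTower B D L := IsScalarTower.of_algebraMap_eq fun b => (IsLocalization.lift_eq _ b).symm
  haveI : IsFractionRing D L := IsFractionRing.isFractionRing_of_isLocalization Q.primeCompl D L Q.primeCompl_le_nonZeroDivisors
  let V := valOfRange D L
  let eD := valEquiv D L
  letI : Algebra (Localization.AtPrime q) D := Localization.AtPrime.algebraOfLiesOver q Q
  haveI hlocD : IsLocalHom (algebraMap (Localization.AtPrime q) D) :=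
    Localization.isLocalHom_localRingHom q Q (algebraMap A B) (Q.over_def q)
  have hAD : ∀ a : A, algebraMap (Localization.AtPrime q) D (algebraMap A _ a) = algebraMap A D a := fun a => by
    rw [IsScalarTower.algebraMap_apply A B D]
    exact Localization.localRingHom_to_map q Q (algebraMap A B) (Q.over_def q) a
  let g : Localization.AtPrime q →+* L := jD.comp (algebraMap (Localization.AtPrime q) D)
  have hg : g.comp (algebraMap A (Localization.AtPrime q)) = algebraMap A L := RingHom.ext fun a => by
    show jD (algebraMap (Localization.AtPrime q) D (algebraMap A _ a)) = _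
    rw [hAD, IsScalarTower.algebraMap_apply A B D]
    exact (IsLocalization.lift_eq _ _).trans (IsScalarTower.algebraMap_apply A B L a).symm
  have hV : EtRam.Dominates (Localization.AtPrime q) g V :=
    ⟨fun x => ⟨_, rfl⟩, fun x hx => (V.valuation_lt_one_iff (eD (algebraMap _ D x))).1 fun hu =>
      hx (isUnit_of_map_unit (algebraMap (Localization.AtPrime q) D) x ((isUnit_map_iff eD _).1 hu))⟩
  letI : Algebra (Localization.AtPrime q) V := (RingHom.codRestrict g V hV.1).toAlgebra
  have hcomp : algebraMap (Localization.AtPrime q) V = (eD : D →+* V).comp (algebraMap _ D) :=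
    RingHom.ext fun _ => Subtype.ext rfl
  haveI hlocV : IsLocalHom (algebraMap (Localization.AtPrime q) V) := ⟨fun x hx => by
    rw [hcomp] at hx
    exact isUnit_of_map_unit _ x ((isUnit_map_iff eD _).1 hx)⟩
  obtain ⟨hw, hs⟩ := @hunr q _ hq g hg V hV hlocV
  haveI : Algebra.IsSeparable (ResidueField (Localization.AtPrime q)) (ResidueField D) := by
    refine Algebra.IsSeparable.of_equiv_equiv (RingEquiv.refl _) (ResidueField.mapEquiv eD.symm) ?_
    refine RingHom.ext fun y => ?_
    obtain ⟨y, rfl⟩ := residue_surjective y
    show residue D (algebraMap _ D y) = residue D (eD.symm (algebraMap _ V y))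
    rw [hcomp]
    exact congrArg _ (eD.symm_apply_apply _).symm
  have hmap : (maximalIdeal (Localization.AtPrime q)).map (algebraMap _ D) = maximalIdeal D := by
    have h := congrArg (Ideal.map (eD.symm : V →+* D)) (show (maximalIdeal (Localization.AtPrime q)).map
      (algebraMap _ V) = maximalIdeal V from hw)
    rw [Ideal.map_map, hcomp, ← RingHom.comp_assoc, RingEquiv.symm_comp, RingHom.id_comp] at h
    rw [h]
    exact IsLocalRing.eq_maximalIdeal (Ideal.map_isMaximal_of_equiv eD.symm)
  haveI : IsScalarTower A (Localization.AtPrime q) D := IsScalarTower.of_algebraMap_eq fun a => (hAD a).symm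
  haveI : Algebra.EssFiniteType A D := Algebra.EssFiniteType.comp A B D
  haveI : Algebra.EssFiniteType (Localization.AtPrime q) D := Algebra.EssFiniteType.of_comp A _ _
  haveI : Algebra.FormallyUnramified (Localization.AtPrime q) D :=
    Algebra.FormallyUnramified.of_map_maximalIdeal hmap
  haveI : Algebra.FormallyUnramified A (Localization.AtPrime q) :=
    Algebra.FormallyUnramified.of_isLocalization q.primeCompl
  exact Algebra.FormallyUnramified.comp A (Localization.AtPrime q) D

/-- Passing to a localisation. -/
theorem UnrCodimOne.localization {R L : Type u} [CommRing R] (M : Submonoid R) [Field L] [Algebra R L]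
    [Algebra (Localization M) L] [IsScalarTower R (Localization M) L]
    (hunr : ∀ (q : Ideal (Localization M)) [q.IsPrime], q.height = 1 →
      ∀ g : Localization.AtPrime (q.comap (algebraMap R (Localization M))) →+* L, g.comp (algebraMap R _) = algebraMap R L →
        EtRam.IsUnramifiedExt (Localization.AtPrime (q.comap (algebraMap R (Localization M)))) g) :
    UnrCodimOne (Localization M) L :=
  fun q _ hq g hg => by
    let Rp := Localization M
    let q₀ := q.comap (algebraMap R Rp)
    let e := IsLocalization.localizationLocalizationAtPrimeIsoLocalization M q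
    have key := hunr q hq (g.comp e.toRingEquiv.toRingHom) (RingHom.ext fun r => by
      show g (e (algebraMap R (Localization.AtPrime q₀) r)) = _
      rw [AlgEquiv.commutes, IsScalarTower.algebraMap_apply R Rp (Localization.AtPrime q)]
      exact (DFunLike.congr_fun hg (algebraMap R Rp r)).trans (IsScalarTower.algebraMap_apply R Rp L r).symm)
    intro V hV
    letI : Algebra (Localization.AtPrime q) V := (RingHom.codRestrict g V hV.1).toAlgebra
    intro hloc
    have hV' : EtRam.Dominates (Localization.AtPrime q₀) (g.comp e.toRingEquiv.toRingHom) V :=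
      ⟨fun x => hV.1 _, fun x hx => hV.2 _ fun h => hx ((isUnit_map_iff e.toRingEquiv x).1 h)⟩
    letI : Algebra (Localization.AtPrime q₀) V :=
      (RingHom.codRestrict (g.comp e.toRingEquiv.toRingHom) V hV'.1).toAlgebra
    have hcomp : algebraMap (Localization.AtPrime q₀) V =
        (algebraMap (Localization.AtPrime q) V).comp e.toRingEquiv.toRingHom := RingHom.ext fun _ => Subtype.ext rfl
    haveI : IsLocalHom (algebraMap (Localization.AtPrime q₀) V) := ⟨fun x hx => by
      rw [hcomp] at hx
      exact (isUnit_map_iff e.toRingEquiv x).1 (isUnit_of_map_unit (algebraMap (Localization.AtPrime q) V) _ hx)⟩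
    obtain ⟨hw, hs⟩ := @key V hV' inferInstance
    refine ⟨?_, Algebra.IsSeparable.of_equiv_equiv (ResidueField.mapEquiv e.toRingEquiv) (RingEquiv.refl _) ?_⟩
    · have hw' : (maximalIdeal (Localization.AtPrime q₀)).map (algebraMap _ V) = maximalIdeal V := hw
      show (maximalIdeal (Localization.AtPrime q)).map (algebraMap _ V) = maximalIdeal V
      rw [← hw', hcomp, ← Ideal.map_map]
      congr 1
      exact (IsLocalRing.eq_maximalIdeal (Ideal.map_isMaximal_of_equiv e.toRingEquiv)).symm
    · refine RingHom.ext fun y => ?_
      obtain ⟨y, rfl⟩ := residue_surjective y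
      rfl

/-- The local form. -/
theorem etale_of_regularLocal (A : Type u) [CommRing A] [IsRegularLocalRing A] [IsDomain A] (K : Type u) [Field K]
    [Algebra A K] [IsFractionRing A K] (L : Type u) [Field L] [Algebra K L] [Algebra A L] [IsScalarTower A K L]
    [FiniteDimensional K L] [Algebra.IsSeparable K L] (hunr : UnrCodimOne A L) :
    Module.Finite A (integralClosure A L) ∧ Algebra.Etale A (integralClosure A L) := by
  haveI : IsIntegrallyClosed A := NormalLib.isIntegrallyClosed_of_isRegularLocalRing A
  haveI hfin : Module.Finite A (integralClosure A L) := IsIntegralClosure.finite A K L (integralClosure A L)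
  refine ⟨hfin, ?_⟩
  haveI : IsIntegrallyClosed (integralClosure A L) :=
    integralClosure.isIntegrallyClosedOfFiniteExtension K
  haveI : IsFractionRing (integralClosure A L) L := integralClosure.isFractionRing_of_finite_extension K L
  haveI : IsNoetherianRing (integralClosure A L) := IsNoetherianRing.of_finite A _
  have hinjL : Function.Injective (algebraMap A L) := by
    rw [IsScalarTower.algebraMap_eq A K L]; exact (algebraMap K L).injective.comp (IsFractionRing.injective A K)
  have hinj : Function.Injective (algebraMap A (integralClosure A L)) := fun a b h => hinjL (congrArg Subtype.val h)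
  by_cases hf : IsField A
  · have hsurj : Function.Surjective (algebraMap A K) := fun x => by
      obtain ⟨a, b, hb, rfl⟩ := IsFractionRing.div_surjective A x
      obtain ⟨c, hc⟩ := hf.mul_inv_cancel (nonZeroDivisors.ne_zero hb)
      refine ⟨a * c, ?_⟩
      rw [eq_div_iff ((map_ne_zero_iff _ (IsFractionRing.injective A K)).2 (nonZeroDivisors.ne_zero hb)), ← map_mul,
        mul_assoc, mul_comm c, hc, mul_one]
    haveI : Module.Finite A K := Module.Finite.of_surjective (Algebra.linearMap A K) hsurj
    haveI : Algebra.FormallyEtale A K := Algebra.FormallyEtale.of_isLocalization (nonZeroDivisors A)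
    haveI : Algebra.FinitePresentation A K := Algebra.FinitePresentation.of_finiteType.1 inferInstance
    haveI : Algebra.Etale A K := ⟨inferInstance, inferInstance⟩
    haveI : Algebra.FormallyEtale K L := Algebra.FormallyEtale.of_isSeparable K L
    haveI : Algebra.FinitePresentation K L := Algebra.FinitePresentation.of_finiteType.1 inferInstance
    haveI : Algebra.Etale K L := ⟨inferInstance, inferInstance⟩
    haveI : Algebra.Etale A L := Algebra.Etale.comp A K L
    haveI : Module.Finite A L := Module.Finite.trans K L
    exact Algebra.Etale.of_equiv (AlgEquiv.ofBijective (integralClosure A L).val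
      ⟨Subtype.val_injective, fun x => ⟨⟨x, Algebra.IsIntegral.isIntegral x⟩, rfl⟩⟩).symm
  · have hdim : (1 : WithBot ℕ∞) ≤ ringKrullDim A := by
      rw [← maximalIdeal_height_eq_ringKrullDim]
      refine WithBot.coe_le_coe.2 (ENat.one_le_iff_ne_zero.2 fun h0 => hf ?_)
      rw [Ideal.height_eq_zero_iff, IsDomain.minimalPrimes_eq_singleton_bot, Set.mem_singleton_iff] at h0
      exact (IsLocalRing.isField_iff_maximalIdeal_eq).2 h0
    exact PurityLib.etale_of_normal_finite_base A (integralClosure A L) hinj hdim fun Q _ hQ hQ1 =>
      formallyUnramified_atPrime hinj hunr Q hQ hQ1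

/-- Integral closure commutes with localisation. -/
noncomputable def tensorIntegralClosureEquiv (R Rp L : Type u) [CommRing R] [CommRing Rp] [Algebra R Rp] [Field L]
    [Algebra R L] [Algebra Rp L] [IsScalarTower R Rp L] (M : Submonoid R) [IsLocalization M Rp] :
    Rp ⊗[R] integralClosure R L ≃ₐ[Rp] integralClosure Rp L := by
  let φ : integralClosure R L →ₐ[R] integralClosure Rp L :=
    { toFun := fun b => ⟨(b : L), (b.2 : IsIntegral R (b : L)).tower_top⟩
      map_one' := rfl
      map_mul' := fun _ _ => rfl
      map_zero' := rfl
      map_add' := fun _ _ => rfl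
      commutes' := fun r => rfl }
  let ψ : Rp ⊗[R] integralClosure R L →ₐ[Rp] integralClosure Rp L :=
    Algebra.TensorProduct.lift (Algebra.ofId Rp _) φ fun _ _ => Commute.all _ _
  have hψ : ∀ b : integralClosure R L, (ψ ((1 : Rp) ⊗ₜ[R] b) : L) = b := fun b => by simp [ψ, φ]
  refine AlgEquiv.ofBijective ψ ⟨(injective_iff_map_eq_zero ψ).2 fun z hz => ?_, fun x => ?_⟩
  · obtain ⟨⟨b, s⟩, hs⟩ := IsLocalizedModule.surj M (TensorProduct.mk R Rp (integralClosure R L) 1) z
    have h1 : ((s : R) • z) = (1 : Rp) ⊗ₜ[R] b := hs
    have hb : b = 0 := Subtype.ext (by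
      rw [← hψ, ← h1, ← algebraMap_smul Rp, map_smul, hz, smul_zero]; rfl)
    rw [hb, TensorProduct.tmul_zero, ← algebraMap_smul Rp] at h1
    exact (IsLocalization.map_units Rp s).smul_eq_zero.1 h1
  · obtain ⟨m, hm⟩ := IsIntegral.exists_multiple_integral_of_isLocalization M (x : L) x.2
    refine ⟨((IsLocalization.map_units Rp m).unit⁻¹ : Rpˣ).1 • ((1 : Rp) ⊗ₜ[R] (⟨_, hm⟩ : integralClosure R L)),
      Subtype.ext ?_⟩
    rw [map_smul, SetLike.val_smul, hψ]
    show _ • ((m : R) • (x : L)) = (x : L)
    rw [← algebraMap_smul Rp (m : R) (x : L), smul_smul, IsUnit.val_inv_mul, one_smul]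

set_option maxHeartbeats 2000000 in
/-- **Purity**: the normalisation in an extension unramified in codimension one is finite étale. -/
theorem etale_integralClosure (R : Type u) [CommRing R] [IsDomain R] [IsNoetherianRing R]
    (hreg : ∀ (p : Ideal R) [p.IsPrime], IsRegularLocalRing (Localization.AtPrime p)) [IsIntegrallyClosed R]
    (K : Type u) [Field K] [Algebra R K] [IsFractionRing R K] (L : Type u) [Field L] [Algebra K L] [Algebra R L]
    [IsScalarTower R K L] [FiniteDimensional K L] [Algebra.IsSeparable K L] (hunr : UnrCodimOne R L) :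
    Module.Finite R (integralClosure R L) ∧ Algebra.Etale R (integralClosure R L) := by
  classical
  haveI hfin : Module.Finite R (integralClosure R L) := IsIntegralClosure.finite R K L (integralClosure R L)
  refine ⟨hfin, PurityLib.etale_of_forall fun p _ => ?_⟩
  let B := integralClosure R L
  let Rp := Localization.AtPrime p
  haveI : IsRegularLocalRing Rp := hreg p
  haveI : IsDomain Rp := IsLocalization.isDomain_localization p.primeCompl_le_nonZeroDivisors
  have hu : ∀ s : p.primeCompl, IsUnit (algebraMap R K s) := fun s =>
    Ne.isUnit ((map_ne_zero_iff _ (IsFractionRing.injective R K)).2 fun h => s.2 (h ▸ p.zero_mem))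
  letI : Algebra Rp K := (IsLocalization.lift (M := p.primeCompl) hu).toAlgebra
  haveI : IsScalarTower R Rp K := IsScalarTower.of_algebraMap_eq fun r => (IsLocalization.lift_eq hu r).symm
  haveI : IsFractionRing Rp K := IsFractionRing.isFractionRing_of_isLocalization p.primeCompl Rp K p.primeCompl_le_nonZeroDivisors
  letI : Algebra Rp L := ((algebraMap K L).comp (algebraMap Rp K)).toAlgebra
  haveI : IsScalarTower Rp K L := IsScalarTower.of_algebraMap_eq fun _ => rfl
  haveI : IsScalarTower R Rp L := IsScalarTower.of_algebraMap_eq fun r => by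
    rw [IsScalarTower.algebraMap_apply R K L, IsScalarTower.algebraMap_apply R Rp K]; rfl
  have hunr' : UnrCodimOne Rp L := UnrCodimOne.localization p.primeCompl fun q _ hq g hg =>
    hunr _ (by rw [IsLocalization.height_under p.primeCompl]; exact hq) g hg
  obtain ⟨hfinp, hetp⟩ := etale_of_regularLocal Rp K L hunr'
  haveI := hetp
  exact Algebra.Etale.of_equiv (tensorIntegralClosureEquiv R Rp L p.primeCompl).symm

end AbhyLib
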